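import Groth.Agent.Lib.JacPts22.CurveJacobian
import Groth.Agent.Lib.AVPRank22.PRank
import Groth.Agent.Lib.GrpField.Irreducible
import Groth.Agent.Lib.AlgClosedExt25.Geometry
import Groth.Agent.Lib.FGA3.TorsionLift

/-!
# Torsion classes on a curve are torsion points of its Jacobian
-/

set_option autoImplicit false
set_option linter.style.haveILetI false
set_option linter.unusedSectionVars false
set_option backward.isDefEq.respectTransparency false
set_option backward.isDefEq.respectTransparency.types false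
set_option maxHeartbeats 1000000

universe u

open CategoryTheory CategoryTheory.Limits AlgebraicGeometry MonoidalCategory CartesianMonoidalCategory MonObj

noncomputable section

namespace Groth.Agent.JacPts22

open Groth.Agent.Abel10 (pc pc_comp pc_id)

noncomputable local instance instLawTorsCount (Y : Scheme.{u}) : PicGrp.Law Y := M2.law Y

variable {k : Type u} [Field k] [IsAlgClosed k] {C : Scheme.{u}} [C.Over (Spec (CommRingCat.of k))]
  [IsProper (C ↘ Spec (CommRingCat.of k))] [Smooth (C ↘ Spec (CommRingCat.of k))] [IsIntegral C]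
  [GeometricallyConnected (C ↘ Spec (CommRingCat.of k))]
  [GeometricallyIrreducible (C ↘ Spec (CommRingCat.of k))]
  (hdim : topologicalKrullDim C = 1)

include hdim

/-- A torsion class is the class of a point of the Jacobian. -/
theorem exists_iota_eq (J : Over (Spec (CommRingCat.of k))) [GrpObj J]
    (ψ : (ModFun.PicDeg (C ↘ Spec (CommRingCat.of k)) 0).Hom ⊤ J)
    (hJ : Jac.IsJacobian (C ↘ Spec (CommRingCat.of k)) ⊤ J ψ) {n : ℕ} (hn : 0 < n)
    (c : PicLoc.PicSet C) (hc : c ^ n = 1) :
    ∃ a, iota hdim J ψ hJ a = c ∧ a ^ n = 1 := by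
  let f := C ↘ Spec (CommRingCat.of k)
  obtain ⟨E, hE, hEc⟩ := PicGrp.exists_eq_cls (pc (pullback.fst f (T₀ k).hom) c)
  have hok : (ModFun.PicDeg f 0).ok (T₀ k) E := PicRep20.ok_of_class f hdim 0 hE fun t => by
    have h1 := PicRep20.degCl_pow f hdim t (pc (pullback.fst f (T₀ k).hom) c) n
    rw [← map_pow, hc, map_one, deg_one₀ hdim] at h1
    show PicTan20.degCl f (T₀ k) t (PicGrp.cls E hE).1 = 0
    rw [← hEc]
    exact (mul_eq_zero.1 h1.symm).resolve_left (by exact_mod_cast hn.ne')
  have hcl : cl₀ hdim E hok = c := by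
    show PicGrp.pullHom (rho k C) (M2.pullMul _) (PicGrp.cls E hE) = c
    rw [← hEc]
    show pc (rho k C) (pc (pullback.fst f (T₀ k).hom) c) = c
    rw [pc_comp _ _ (show rho k C ≫ pullback.fst f (T₀ k).hom = 𝟙 C from pullback.lift_fst _ _ _), pc_id]
  have he := (iota_app hdim J ψ hJ hok).trans hcl
  exact ⟨_, he, iota_injective hdim J ψ hJ (by rw [map_pow, he, hc, map_one])⟩

/-- The torsion classes of a curve are counted by the torsion points of its Jacobian. -/
theorem natCard_torsion_classes (J : Over (Spec (CommRingCat.of k))) [GrpObj J] [IsCommMonObj J]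
    (ψ : (ModFun.PicDeg (C ↘ Spec (CommRingCat.of k)) 0).Hom ⊤ J)
    (hJ : Jac.IsJacobian (C ↘ Spec (CommRingCat.of k)) ⊤ J ψ) {n : ℕ} (hn : 0 < n) :
    Nat.card {c : PicF.Cl C | ∃ M : Scheme.Modules C, PicF.cl M = c ∧ PicF.IsInvertible M ∧
      Nonempty (CohB1.tensorPow M n ≅ Coh.structureModule C)} =
      Nat.card (AbDual.torsPts J n (𝟙_ (Over (Spec (CommRingCat.of k))))) := by
  have hmem : ∀ a : AbDual.torsPts J n (𝟙_ (Over (Spec (CommRingCat.of k)))), (iota hdim J ψ hJ a.1).1 ∈
      {c : PicF.Cl C | ∃ M : Scheme.Modules C, PicF.cl M = c ∧ PicF.IsInvertible M ∧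
        Nonempty (CohB1.tensorPow M n ≅ Coh.structureModule C)} := fun a => by
    obtain ⟨M, hM, hMc⟩ := PicGrp.exists_eq_cls (iota hdim J ψ hJ a.1)
    refine ⟨M, (congrArg Subtype.val hMc).symm, hM, (PicGrp.cls_eq_one_iff (M2.isInvertible_tensorPow hM n)).1 ?_⟩
    rw [FGA3.cls_tensorPow hM n, ← hMc, ← map_pow, (AbDual.mem_torsPts _ _).1 a.2, map_one]
  refine (Nat.card_eq_of_bijective (fun a => ⟨_, hmem a⟩) ⟨fun a b h => ?_, fun c => ?_⟩).symm
  · exact Subtype.ext (iota_injective hdim J ψ hJ (Subtype.ext (Subtype.mk.inj h)))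
  · obtain ⟨M, hMc, hM, hi⟩ := c.2
    obtain ⟨a, ha, han⟩ := exists_iota_eq hdim J ψ hJ hn (PicGrp.cls M hM)
      ((FGA3.cls_tensorPow hM n).symm.trans ((PicGrp.cls_eq_one_iff _).2 hi))
    exact ⟨⟨a, (AbDual.mem_torsPts _ _).2 han⟩, Subtype.ext ((congrArg Subtype.val ha).trans hMc)⟩

omit [GeometricallyConnected (C ↘ Spec (CommRingCat.of k))]
  [GeometricallyIrreducible (C ↘ Spec (CommRingCat.of k))]

/-- An abelian variety of dimension the genus counts the torsion classes. -/
theorem exists_torsion_model : ∃ (J : Over (Spec (CommRingCat.of k))) (_ : GrpObj J) (_ : IsCommMonObj J),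
    IsProper J.hom ∧ GeometricallyIntegral J.hom ∧
    topologicalKrullDim J.left = (Curv2.genus k C : WithBot ℕ∞) ∧
    ∀ n : ℕ, 0 < n → Nat.card {c : PicF.Cl C | ∃ M : Scheme.Modules C, PicF.cl M = c ∧ PicF.IsInvertible M ∧
      Nonempty (CohB1.tensorPow M n ≅ Coh.structureModule C)} =
      Nat.card (AbDual.torsPts J n (𝟙_ (Over (Spec (CommRingCat.of k))))) := by
  let f := C ↘ Spec (CommRingCat.of k)
  haveI : GeometricallyConnected f := AlgClosedExt25.geometricallyConnected_of_connected f
  haveI : GeometricallyIrreducible f := GrpField.geometricallyIrreducible_of_isAlgClosed f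
  haveI : JacobsonSpace C := LocallyOfFiniteType.jacobsonSpace f
  obtain ⟨z, hz⟩ : (closedPoints C).Nonempty := by
    rw [← Set.univ_inter (closedPoints C)]
    exact nonempty_inter_closedPoints Set.univ_nonempty isClosed_univ.isLocallyClosed
  obtain ⟨J, gJ, cJ, ψ, j, hJ, -⟩ := exists_jacobian_pair (C := C) hdim (pointOfClosedPoint f z hz)
    (pointOfClosedPoint_comp f z hz)
  obtain ⟨hp, -, hgi⟩ := jacobian_props hdim _ (pointOfClosedPoint_comp f z hz) hJ
  exact ⟨J, gJ, cJ, hp, hgi, dim_jacobian hdim _ (pointOfClosedPoint_comp f z hz) hJ,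
    fun n hn => natCard_torsion_classes hdim J ψ hJ hn⟩

end Groth.Agent.JacPts22
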