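import Groth.Agent.Lib.JacPts22.HomExt
import Groth.Agent.Lib.PicRep20.Univ
import Groth.Agent.Lib.SymCurve14.Quot
import Groth.Agent.Lib.CurveCoh17.IdealPow
import Groth.Agent.Lib.AbRigid.Epi

/-!
# The class of the tautological divisor on a power of the curve
-/

set_option autoImplicit false
set_option linter.style.haveILetI false
set_option linter.unusedSectionVars false
set_option backward.isDefEq.respectTransparency false
set_option backward.isDefEq.respectTransparency.types false
set_option maxHeartbeats 1000000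

universe u

open CategoryTheory CategoryTheory.Limits AlgebraicGeometry TopologicalSpace Opposite MonoidalCategory
  CartesianMonoidalCategory MonObj

noncomputable section

namespace Groth.Agent.JacPts22

open Groth.Agent.Abel10 (pc pc_comp pc_id)
open Groth.Agent.Abel10 Groth.Agent.PicRep20

noncomputable local instance instLawPowerClass (Y : Scheme.{u}) : PicGrp.Law Y := M2.law Y

variable {k : Type u} [Field k] {C : Scheme.{u}} [C.Over (Spec (CommRingCat.of k))]
  [IsProper (C ↘ Spec (CommRingCat.of k))] [Smooth (C ↘ Spec (CommRingCat.of k))]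
  [GeometricallyConnected (C ↘ Spec (CommRingCat.of k))] [IsIntegral C]
  [GeometricallyIrreducible (C ↘ Spec (CommRingCat.of k))]

section Power

/-- Powers of a curve are geometrically integral. -/
theorem geometricallyIntegral_pw : ∀ n : ℕ, GeometricallyIntegral (pw k C n).hom
  | 0 => by
    let b : Spec (CommRingCat.of k) ⟶ (pw k C 0).left :=
      WidePullback.lift (𝟙 _) (fun i => i.elim0) (fun i => i.elim0)
    have h1 : b ≫ (pw k C 0).hom = 𝟙 _ := WidePullback.lift_base _ _ _ _
    haveI : IsIso (pw k C 0).hom := ⟨b, by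
      apply WidePullback.hom_ext
      · intro i; exact i.elim0
      · exact (Category.assoc _ _ _).trans ((congrArg (_ ≫ ·) h1).trans ((Category.comp_id _).trans
          (Category.id_comp _).symm)), h1⟩
    refine ⟨fun L _ y W p₁ p₂ hW => ?_⟩
    haveI : IsIso p₂ := hW.isIso_snd_of_isIso
    haveI : Nonempty W := ⟨(inv p₂) (IsLocalRing.closedPoint L)⟩
    exact isIntegral_of_isOpenImmersion p₂
  | n + 1 => by
    haveI := geometricallyIntegral_pw n
    haveI : GeometricallyIntegral (Over.mk (C ↘ Spec (CommRingCat.of k))).hom :=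
      AmpleFib.geometricallyIntegral_of_smooth_connected (k := k) (X := C)
    haveI : LocallyOfFiniteType (Over.mk (C ↘ Spec (CommRingCat.of k))).hom :=
      inferInstanceAs (LocallyOfFiniteType (C ↘ Spec (CommRingCat.of k)))
    have h := AbRigid.geometricallyIntegral_tensorObj (Over.mk (C ↘ Spec (CommRingCat.of k))) (pw k C n)
    let e := (SymCurve14.isPullback_projInit (C ↘ Spec (CommRingCat.of k)) n).isoPullback
    have he : e.hom ≫ (Over.mk (C ↘ Spec (CommRingCat.of k)) ⊗ pw k C n).hom = (pw k C (n + 1)).hom := by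
      show e.hom ≫ pullback.fst _ _ ≫ (C ↘ Spec (CommRingCat.of k)) = _
      rw [← Category.assoc, IsPullback.isoPullback_hom_fst]
      exact WidePullback.π_arrow _ _
    rw [← he]
    exact (MorphismProperty.cancel_left_of_respectsIso @GeometricallyIntegral _ _).2 h

omit [IsProper (C ↘ Spec (CommRingCat.of k))] [Smooth (C ↘ Spec (CommRingCat.of k))]
  [GeometricallyConnected (C ↘ Spec (CommRingCat.of k))] [IsIntegral C]
  [GeometricallyIrreducible (C ↘ Spec (CommRingCat.of k))] in
/-- Sum maps are symmetric. -/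
theorem perm_comp_sumMap {A : Over (Spec (CommRingCat.of k))} [GrpObj A] [IsCommMonObj A]
    (φ : Over.mk (C ↘ Spec (CommRingCat.of k)) ⟶ A) (n : ℕ) (e : Equiv.Perm (Fin n)) :
    SymProd.permHom (C ↘ Spec (CommRingCat.of k)) n e ≫ (sumMap φ n).left = (sumMap φ n).left := by
  let p : pw k C n ⟶ pw k C n := Over.homMk (SymProd.permHom (C ↘ Spec (CommRingCat.of k)) n e) (SymProd.permHom_base _ n e)
  have h : p ≫ sumMap φ n = sumMap φ n := by
    rw [comp_list_prod, List.map_ofFn, List.prod_ofFn]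
    show _ = (List.ofFn fun i : Fin n => prj i ≫ φ).prod
    rw [List.prod_ofFn]
    refine Fintype.prod_equiv e.symm _ _ fun i => ?_
    rw [Function.comp_apply, ← Category.assoc]
    congr 1
    exact Over.OverMorphism.ext (SymProd.permHom_π _ n e i)
  exact congrArg CommaMorphism.left h

end Power

variable (hdim : topologicalKrullDim C = 1)
include hdim

/-- The class of the graph of a point. -/
theorem cls_secGraph (σ : Spec (CommRingCat.of k) ⟶ C) (hσ : σ ≫ (C ↘ Spec (CommRingCat.of k)) = 𝟙 _)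
    {L : (PicF.XT (C ↘ Spec (CommRingCat.of k)) (Over.mk (C ↘ Spec (CommRingCat.of k)))).Modules}
    (hL : Jac.IsAJFamilyAt (C ↘ Spec (CommRingCat.of k)) σ L)
    {T : Over (Spec (CommRingCat.of k))} (y : T ⟶ Over.mk (C ↘ Spec (CommRingCat.of k))) :
    ∃ h : BlowUp.IsEffCartierIdeal (HilbD.secGraph (C ↘ Spec (CommRingCat.of k)) T y.left (Over.w y)),
      pc (PicF.XTmap _ y) (PicGrp.cls L hL.1) * PicGrp.cls _ (M2.isInvertible_idealMod _ h) =
        pc (pullback.fst (C ↘ Spec (CommRingCat.of k)) T.hom) (Abel10.ptCls hdim σ hσ) := by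
  haveI := CurveCartier25.smoothOfRelativeDimension_one (C ↘ Spec (CommRingCat.of k)) hdim
  haveI := smoothOfRelativeDimension_isStableUnderBaseChange 1
  haveI : SmoothOfRelativeDimension 1 (pullback.snd (C ↘ Spec (CommRingCat.of k)) (C ↘ Spec (CommRingCat.of k))) :=
    MorphismProperty.of_isPullback (P := @SmoothOfRelativeDimension 1)
      (IsPullback.of_hasPullback (C ↘ Spec (CommRingCat.of k)) (C ↘ Spec (CommRingCat.of k))) inferInstance
  haveI := PicRep20.smoothOfRelativeDimension_proj (C ↘ Spec (CommRingCat.of k)) hdim T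
  haveI : IsSeparated (PicF.XTproj (C ↘ Spec (CommRingCat.of k)) T) :=
    inferInstanceAs (IsSeparated (pullback.snd (C ↘ Spec (CommRingCat.of k)) T.hom))
  let q : T.left ⟶ PicF.XT (C ↘ Spec (CommRingCat.of k)) T :=
    pullback.lift y.left (𝟙 T.left) (by rw [Category.id_comp]; exact Over.w y)
  have hq : q ≫ PicF.XTproj (C ↘ Spec (CommRingCat.of k)) T = 𝟙 _ := pullback.lift_snd _ _ _
  have hy : q ≫ pullback.fst (C ↘ Spec (CommRingCat.of k)) T.hom = y.left := pullback.lift_fst _ _ _
  have hq' : BlowUp.IsEffCartierIdeal q.ker := (S15990.result (PicF.XTproj (C ↘ Spec (CommRingCat.of k)) T) q hq).1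
  refine ⟨hq', ?_⟩
  have hJ' : BlowUp.IsEffCartierIdeal (pullback.diagonal (C ↘ Spec (CommRingCat.of k))).ker :=
    (S15990.result (pullback.snd (C ↘ Spec (CommRingCat.of k)) (C ↘ Spec (CommRingCat.of k)))
      (pullback.diagonal (C ↘ Spec (CommRingCat.of k))) (pullback.diagonal_snd _)).1
  have hI := M2.isInvertible_idealMod _ hJ'
  obtain ⟨D, hD, ⟨eD⟩⟩ := M2.exists_inverse hI
  obtain ⟨θ, hθ⟩ := exists_locEq hJ' hD (M2.tensorComm _ _ ≪≫ eD)
  haveI : IsClosedImmersion q := CurveCartier25.isClosedImmersion_section _ q hq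
  have sq : IsPullback y.left q (pullback.diagonal (C ↘ Spec (CommRingCat.of k)))
      (PicF.XTmap (C ↘ Spec (CommRingCat.of k)) y) := by
    refine IsPullback.of_bot ?_ ?_ (HilbBC25.isPullback_XTmap (C ↘ Spec (CommRingCat.of k)) y)
    · rw [hq, show pullback.diagonal (C ↘ Spec (CommRingCat.of k)) ≫ PicF.XTproj _ (Over.mk (C ↘ Spec (CommRingCat.of k))) = 𝟙 C from
          pullback.diagonal_snd _]
      haveI : IsIso (𝟙 C) := IsIso.id _
      haveI : IsIso (𝟙 T.left) := IsIso.id _
      exact IsPullback.of_vert_isIso ⟨(Category.comp_id _).trans (Category.id_comp _).symm⟩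
    · apply pullback.hom_ext
      · rw [Category.assoc, Category.assoc, pullback.diagonal_fst, Category.comp_id]
        exact (hy.symm.trans (congrArg (q ≫ ·) (HilbBC25.XTmap_fst (C ↘ Spec (CommRingCat.of k)) y).symm))
      · rw [Category.assoc, Category.assoc, pullback.diagonal_snd, Category.comp_id]
        have e : PicF.XTmap (C ↘ Spec (CommRingCat.of k)) y ≫ pullback.snd _ _ = pullback.snd _ _ ≫ y.left :=
          pullback.lift_snd _ _ _
        exact ((congrArg (q ≫ ·) e).trans ((Category.assoc _ _ _).symm.trans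
          ((congrArg (· ≫ y.left) hq).trans (Category.id_comp _)))).symm
  have hQ := M2.isInvertible_idealMod _ hq'
  have h1 : pc (PicF.XTmap _ y) (PicGrp.cls D hD) = (PicGrp.cls _ hQ)⁻¹ := by
    rw [pc, PicGrp.pullHom_cls]
    exact eq_inv_of_mul_eq_one_left ((PicGrp.cls_mul_cls_eq_one_iff _ _).2
      (nonempty_iso_of_locEq hq' (PicLoc.isInvertible_pullback _ hD) (hθ.pullback sq)))
  have h2 : PicGrp.cls _ hI * PicGrp.cls D hD = 1 := (PicGrp.cls_mul_cls_eq_one_iff _ _).2 ⟨eD⟩
  have hΔ := congrArg (pc (PicF.XTmap (C ↘ Spec (CommRingCat.of k)) y)) h2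
  rw [map_mul, map_one, h1, mul_inv_eq_one] at hΔ
  obtain ⟨e⟩ := hL.2
  have hσI := Abel10.isInvertible_point hdim σ hσ
  have h4 : (PicGrp.cls (Y := pullback (C ↘ Spec (CommRingCat.of k)) (C ↘ Spec (CommRingCat.of k))) L hL.1) * PicGrp.cls _ hI =
      pc (pullback.fst (C ↘ Spec (CommRingCat.of k)) (C ↘ Spec (CommRingCat.of k))) (PicGrp.cls _ hσI) := by
    rw [AlgEquiv22.cls_tensor hL.1 hI, pc, PicGrp.pullHom_cls]
    exact (PicGrp.cls_eq_cls_iff _ _).2 ⟨e⟩
  have h5 := congrArg (pc (PicF.XTmap (C ↘ Spec (CommRingCat.of k)) y)) h4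
  rw [map_mul, hΔ] at h5
  exact h5.trans (pc_comp _ _ (HilbBC25.XTmap_fst (C ↘ Spec (CommRingCat.of k)) y) _)

/-- The class of the inverse of the universal divisor along the tautological family on a power of the curve. -/
theorem pc_classify_pow (σ : Spec (CommRingCat.of k) ⟶ C) (hσ : σ ≫ (C ↘ Spec (CommRingCat.of k)) = 𝟙 _)
    {LA : (PicF.XT (C ↘ Spec (CommRingCat.of k)) (Over.mk (C ↘ Spec (CommRingCat.of k)))).Modules}
    (hA : Jac.IsAJFamilyAt (C ↘ Spec (CommRingCat.of k)) σ LA) {n : ℕ}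
    {H : Over (Spec (CommRingCat.of k))} (Z : HilbD.Obj (C ↘ Spec (CommRingCat.of k)) n H)
    {L : (PicF.XT (C ↘ Spec (CommRingCat.of k)) H).Modules} (hL : PicF.IsInvertible L)
    {s : Γ(L, (⊤ : (PicF.XT (C ↘ Spec (CommRingCat.of k)) H).Opens))} (hs : LocEq L Z.1 s)
    (Φ : SymCurve14.powOver (C ↘ Spec (CommRingCat.of k)) n ⟶ H)
    (hΦ : HilbD.pull (C ↘ Spec (CommRingCat.of k)) Φ Z.1 = SymCurve14.powIdeal (C ↘ Spec (CommRingCat.of k)) n) :
    pc (PicF.XTmap (C ↘ Spec (CommRingCat.of k)) Φ) (PicGrp.cls L hL) =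
      (∏ i : Fin n, pc (PicF.XTmap (C ↘ Spec (CommRingCat.of k)) (prj (k := k) (C := C) i)) (PicGrp.cls LA hA.1)) *
        (pc (pullback.fst (C ↘ Spec (CommRingCat.of k)) (pw k C n).hom) (Abel10.ptCls hdim σ hσ) ^ n)⁻¹ := by
  haveI := CurveCartier25.smoothOfRelativeDimension_one (C ↘ Spec (CommRingCat.of k)) hdim
  haveI := PicRep20.smoothOfRelativeDimension_proj (C ↘ Spec (CommRingCat.of k)) hdim (pw k C n)
  haveI : IsSeparated (PicF.XTproj (C ↘ Spec (CommRingCat.of k)) (pw k C n)) :=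
    inferInstanceAs (IsSeparated (pullback.snd (C ↘ Spec (CommRingCat.of k)) (pw k C n).hom))
  let G : Fin n → (PicF.XT (C ↘ Spec (CommRingCat.of k)) (pw k C n)).IdealSheafData := fun i =>
    HilbD.secGraph (C ↘ Spec (CommRingCat.of k)) (pw k C n) (WidePullback.π _ i)
      (SymCurve14.pow_π_comp (C ↘ Spec (CommRingCat.of k)) n i)
  have hE : ∀ t : Finset (Fin n), BlowUp.IsEffCartierIdeal (∏ i ∈ t, G i) := fun t =>
    ((S1184.result (PicF.XTproj (C ↘ Spec (CommRingCat.of k)) (pw k C n)) _).2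
      (SymCurve14.isFinLocFreeOfDeg_prod_secGraph (C ↘ Spec (CommRingCat.of k)) (pw k C n) t
        (fun i => WidePullback.π _ i) (SymCurve14.pow_π_comp (C ↘ Spec (CommRingCat.of k)) n)).1).1
  choose hG hGc using fun i : Fin n => cls_secGraph hdim σ hσ hA (prj (k := k) (C := C) i)
  let c : Finset (Fin n) → PicLoc.PicSet (PicF.XT (C ↘ Spec (CommRingCat.of k)) (pw k C n)) := fun t =>
    PicGrp.cls _ (M2.isInvertible_idealMod _ (hE t))
  have hmul : ∀ (I J : (PicF.XT (C ↘ Spec (CommRingCat.of k)) (pw k C n)).IdealSheafData)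
      (hI : BlowUp.IsEffCartierIdeal I) (hJ : BlowUp.IsEffCartierIdeal J) (hIJ : BlowUp.IsEffCartierIdeal (I * J)),
      PicGrp.cls _ (M2.isInvertible_idealMod _ hIJ) =
        PicGrp.cls _ (M2.isInvertible_idealMod _ hI) * PicGrp.cls _ (M2.isInvertible_idealMod _ hJ) :=
    fun I J hI hJ hIJ => by
      rw [AlgEquiv22.cls_tensor]
      exact (PicGrp.cls_eq_cls_iff _ _).2 ⟨(CurveCoh17.nonempty_idealMod_mul hI hJ).some.symm⟩
  have hprod : ∀ t : Finset (Fin n), c t = ∏ i ∈ t, PicGrp.cls _ (M2.isInvertible_idealMod _ (hG i)) := by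
    intro t
    induction t using Finset.induction with
    | empty =>
      have e : (∏ i ∈ (∅ : Finset (Fin n)), G i) = (∏ i ∈ (∅ : Finset (Fin n)), G i) * (∏ i ∈ (∅ : Finset (Fin n)), G i) := by
        simp
      have h := hmul _ _ (hE ∅) (hE ∅) (e ▸ hE ∅)
      have h' : c ∅ = PicGrp.cls _ (M2.isInvertible_idealMod _ (e ▸ hE ∅ : BlowUp.IsEffCartierIdeal
          ((∏ i ∈ (∅ : Finset (Fin n)), G i) * (∏ i ∈ (∅ : Finset (Fin n)), G i)))) :=
        (PicGrp.cls_eq_cls_iff _ _).2 ⟨eqToIso (congrArg ClSub.idealMod e)⟩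
      rw [← h'] at h
      rw [Finset.prod_empty]
      exact mul_eq_left.1 h.symm
    | insert a t ha ih =>
      rw [Finset.prod_insert ha, ← ih]
      refine Eq.trans ?_ (hmul (G a) _ (hG a) (hE t) (Finset.prod_insert (f := G) ha ▸ hE (insert a t)))
      exact (PicGrp.cls_eq_cls_iff _ _).2 ⟨eqToIso (congrArg ClSub.idealMod (Finset.prod_insert ha))⟩
  have hΦL : pc (PicF.XTmap (C ↘ Spec (CommRingCat.of k)) Φ) (PicGrp.cls L hL) * c Finset.univ = 1 := by
    have hl := PicRep20.locEq_pull (C ↘ Spec (CommRingCat.of k)) Z hs Φ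
    rw [hΦ] at hl
    rw [pc, PicGrp.pullHom_cls]
    exact (PicGrp.cls_mul_cls_eq_one_iff _ _).2
      (nonempty_iso_of_locEq (hE Finset.univ) (PicLoc.isInvertible_pullback _ hL) hl)
  rw [hprod] at hΦL
  have e : ∀ i, PicGrp.cls _ (M2.isInvertible_idealMod _ (hG i)) =
      (pc (PicF.XTmap (C ↘ Spec (CommRingCat.of k)) (prj (k := k) (C := C) i)) (PicGrp.cls LA hA.1))⁻¹ *
        pc (pullback.fst (C ↘ Spec (CommRingCat.of k)) (pw k C n).hom) (Abel10.ptCls hdim σ hσ) :=
    fun i => eq_inv_mul_of_mul_eq (hGc i)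
  rw [Finset.prod_congr rfl fun i _ => e i, Finset.prod_mul_distrib, Finset.prod_inv_distrib, Finset.prod_const,
    Finset.card_univ, Fintype.card_fin] at hΦL
  rw [eq_inv_of_mul_eq_one_left hΦL, mul_inv, inv_inv]

end Groth.Agent.JacPts22
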