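import Groth.Agent.Lib.JacPts22.Sets

/-!
# Reflection in the canonical point
-/

set_option autoImplicit false
set_option linter.style.haveILetI false
set_option linter.unusedSectionVars false
set_option backward.isDefEq.respectTransparency false
set_option backward.isDefEq.respectTransparency.types false
set_option maxHeartbeats 1000000

universe u

open CategoryTheory CategoryTheory.Limits AlgebraicGeometry TopologicalSpace Opposite MonoidalCategory
  CartesianMonoidalCategory MonObj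

noncomputable section

namespace Groth.Agent.JacPts22

open Groth.Agent.CurveCoh17 Groth.Agent.Abel10 Groth.Agent.Torelli22 Groth.Agent.CurvePts22

noncomputable local instance instLawJacReflect (Y : Scheme.{u}) : PicGrp.Law Y := M2.law Y

variable {k : Type u} [Field k] [IsAlgClosed k] {C : Scheme.{u}} [C.Over (Spec (CommRingCat.of k))]
  [IsProper (C ↘ Spec (CommRingCat.of k))] [Smooth (C ↘ Spec (CommRingCat.of k))]
  [GeometricallyConnected (C ↘ Spec (CommRingCat.of k))] [IsIntegral C]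
  {J : Over (Spec (CommRingCat.of k))} [GrpObj J] [IsCommMonObj J]

theorem point_comp_inv (z : 𝟙_ (Over (Spec (CommRingCat.of k))) ⟶ J) : z ≫ (𝟙 J)⁻¹ = z⁻¹ := by
  rw [GrpObj.comp_inv, Category.comp_id]

/-- The reflection of a translate. -/
abbrev refMap (j : Over.mk (C ↘ Spec (CommRingCat.of k)) ⟶ J) (n : ℕ)
    (a κ : 𝟙_ (Over (Spec (CommRingCat.of k))) ⟶ J) : pw k C n ⟶ J :=
  trMap j n a ≫ (𝟙 J)⁻¹ ≫ Jac.transl J κ

variable (hdim : topologicalKrullDim C = 1) (σ : Spec (CommRingCat.of k) ⟶ C)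
  (hσ : σ ≫ (C ↘ Spec (CommRingCat.of k)) = 𝟙 _)
include hdim

/-- The class of the canonical point. -/
theorem cN_kappa (ψ : (ModFun.PicDeg (C ↘ Spec (CommRingCat.of k)) 0).Hom ⊤ J)
    (hJ : Jac.IsJacobian (C ↘ Spec (CommRingCat.of k)) ⊤ J ψ) (g : ℕ)
    (Kf : (PicF.XT (C ↘ Spec (CommRingCat.of k)) (𝟙_ (Over (Spec (CommRingCat.of k))))).Modules)
    (hKf : Nonempty (Kf ≅ (Scheme.Modules.pullback (pullback.fst (C ↘ Spec (CommRingCat.of k)) (𝟙_ (Over (Spec (CommRingCat.of k)))).hom)).obj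
      (CohB1.tensorMod (Omega.sheaf (C ↘ Spec (CommRingCat.of k))) (CohB1.tensorPow (ClSub.idealMod σ.ker) (2 * g - 2)))))
    (hT₁ : (⊤ : ObjectProperty (Over (Spec (CommRingCat.of k)))) (𝟙_ (Over (Spec (CommRingCat.of k)))))
    (hKok : (ModFun.PicDeg (C ↘ Spec (CommRingCat.of k)) 0).ok (𝟙_ (Over (Spec (CommRingCat.of k)))) Kf) :
    cN hdim σ hσ ψ hJ (2 * g - 2) (ψ.app (𝟙_ (Over (Spec (CommRingCat.of k)))) Kf hT₁ hKok) = KC (k := k) hdim := by
  obtain ⟨e⟩ := hKf
  obtain ⟨lam, hW⟩ := CurveOm17.exists_isDualizing_omega hdim (Omega12.isUniversal_dOmega (C ↘ Spec (CommRingCat.of k)))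
  have hI := isInvertible_point hdim σ hσ
  have hIp := M2.isInvertible_tensorPow hI (2 * g - 2)
  have hN := M2.isInvertible_tensor hW.inv hIp
  rw [cN, mul_inv_eq_iff_eq_mul]
  refine (iota_app hdim J ψ hJ (E := Kf) hKok).trans ?_
  have h1 : cl₀ hdim Kf hKok = PicGrp.cls _ hN := by
    rw [cl₀, PicGrp.pullHom_cls]
    have hr : rho k C ≫ pullback.fst (C ↘ Spec (CommRingCat.of k)) (𝟙_ (Over (Spec (CommRingCat.of k)))).hom = 𝟙 C :=
      pullback.lift_fst _ _ _
    exact (PicGrp.cls_eq_cls_iff _ hN).2 ⟨(Scheme.Modules.pullback (rho k C)).mapIso e ≪≫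
      (Scheme.Modules.pullbackComp _ _).app _ ≪≫ (Scheme.Modules.pullbackCongr hr).app _ ≪≫
      (Scheme.Modules.pullbackId C).app _⟩
  rw [h1, ← AlgEquiv22.cls_tensor hW.inv hIp, KC]
  congr 1
  exact Subtype.ext (PicGrp.cls_pow_val hI _).symm

variable (ψ : (ModFun.PicDeg (C ↘ Spec (CommRingCat.of k)) 0).Hom ⊤ J)
  (hJ : Jac.IsJacobian (C ↘ Spec (CommRingCat.of k)) ⊤ J ψ) (j : Over.mk (C ↘ Spec (CommRingCat.of k)) ⟶ J)
  (hj : Jac.IsAbelJacobiAt (C ↘ Spec (CommRingCat.of k)) σ ψ j) [IsSeparated J.hom]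
include hJ hj

theorem pt_mem_refMap {n : ℕ} (z a κ : 𝟙_ (Over (Spec (CommRingCat.of k))) ⟶ J) :
    pt z.left ∈ Set.range (refMap j n a κ).left.base ↔
      Eff (k := k) hdim n (cN hdim σ hσ ψ hJ n (κ * z⁻¹ * a⁻¹)) := by
  rw [pt_mem_range_iff]
  constructor
  · rintro ⟨x, rfl⟩
    rw [← Category.assoc, ← Category.assoc, ← Category.assoc, point_comp_transl, point_comp_inv, point_comp_transl,
      mul_inv, inv_inv, _root_.mul_comm ((x ≫ sumMap j n) * a), mul_inv_cancel_left, mul_inv_cancel_right]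
    exact eff_sum hdim σ hσ ψ hJ j hj x
  · intro h
    obtain ⟨x, hx⟩ := exists_sum hdim σ hσ ψ hJ j hj h
    refine ⟨x, ?_⟩
    rw [← Category.assoc, ← Category.assoc, ← Category.assoc, point_comp_transl, point_comp_inv, point_comp_transl, hx,
      inv_mul_cancel_right, mul_inv, inv_inv, _root_.mul_comm κ⁻¹, inv_mul_cancel_right]

end Groth.Agent.JacPts22
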