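import Groth.Agent.Lib.JacPts22.PowerClass

/-!
# Classes without first cohomology on powers of the curve
-/

set_option autoImplicit false
set_option linter.style.haveILetI false
set_option linter.unusedSectionVars false
set_option backward.isDefEq.respectTransparency false
set_option backward.isDefEq.respectTransparency.types false
set_option maxHeartbeats 1000000

universe u

open CategoryTheory CategoryTheory.Limits AlgebraicGeometry TopologicalSpace Opposite MonoidalCategory
  CartesianMonoidalCategory MonObj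

noncomputable section

namespace Groth.Agent.JacPts22

open Groth.Agent.Abel10 (pc pc_comp pc_id)
open Groth.Agent.Abel10 Groth.Agent.PicRep20

noncomputable local instance instLawGoodPoint (Y : Scheme.{u}) : PicGrp.Law Y := M2.law Y

variable {k : Type u} [Field k] {C : Scheme.{u}} [C.Over (Spec (CommRingCat.of k))]
  [IsProper (C ↘ Spec (CommRingCat.of k))] [Smooth (C ↘ Spec (CommRingCat.of k))]
  [GeometricallyConnected (C ↘ Spec (CommRingCat.of k))] [IsIntegral C]
  [GeometricallyIrreducible (C ↘ Spec (CommRingCat.of k))]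

variable (hdim : topologicalKrullDim C = 1)
include hdim

section Cohomology

/-- First cohomology at a geometric point is the first cohomology of the class on the fibre. -/
theorem h1_geomPt {T : Over (Spec (CommRingCat.of k))} {Ω : Type u} [Field Ω]
    {s : Spec (CommRingCat.of Ω) ⟶ Spec (CommRingCat.of k)} (x : Over.mk s ⟶ T)
    {L : (PicF.XT (C ↘ Spec (CommRingCat.of k)) T).Modules} (hL : PicF.IsInvertible L) :
    letI : (PicF.XT (C ↘ Spec (CommRingCat.of k)) (Over.mk s)).Over (Spec (CommRingCat.of Ω)) := ⟨PicF.XTproj _ _⟩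
    Module.finrank Ω (Coh.HH (PicF.XT (C ↘ Spec (CommRingCat.of k)) (Over.mk s))
      ((Scheme.Modules.pullback (PicF.XTmap (C ↘ Spec (CommRingCat.of k)) x)).obj L) 1) =
      h1Cl (C ↘ Spec (CommRingCat.of k)) T (x.left (IsLocalRing.closedPoint Ω)) (PicF.cl L) := by
  let f := C ↘ Spec (CommRingCat.of k)
  let Z := PicF.XT f (Over.mk s)
  letI : Z.Over (Spec (CommRingCat.of Ω)) := ⟨PicF.XTproj _ _⟩
  let t := x.left (IsLocalRing.closedPoint Ω)
  let d := Scheme.descResidueField (Scheme.stalkClosedPointTo x.left)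
  have hσ : Spec.map d ≫ T.left.fromSpecResidueField t = x.left :=
    Scheme.descResidueField_stalkClosedPointTo_fromSpecResidueField Ω T.left x.left
  have hs : IsPullback (pullback.fst (PicF.XTproj f T) (T.left.fromSpecResidueField t))
      (pullback.snd (PicF.XTproj f T) (T.left.fromSpecResidueField t)) (PicF.XTproj f T)
      (T.left.fromSpecResidueField t) := IsPullback.of_hasPullback _ _
  have h : IsPullback (PicF.XTmap f x) (Z ↘ Spec (CommRingCat.of Ω)) (PicF.XTproj f T) x.left :=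
    HilbBC25.isPullback_XTmap f x
  let a' := pullback.fst (PicF.XTproj f T) (T.left.fromSpecResidueField t)
  let b' := pullback.snd (PicF.XTproj f T) (T.left.fromSpecResidueField t)
  letI : (FGA.fibreAt f T t).left.Over (Spec (CommRingCat.of (T.left.residueField t))) := ⟨b'⟩
  let l : Z ⟶ (FGA.fibreAt f T t).left :=
    pullback.lift (PicF.XTmap f x) ((Z ↘ Spec (CommRingCat.of Ω)) ≫ Spec.map d) (by
      rw [Category.assoc, hσ]; exact h.w)
  have hsq : IsPullback l (Z ↘ Spec (CommRingCat.of Ω)) b' (Spec.map d) :=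
    IsPullback.of_right (h₁₂ := a') (v₁₃ := PicF.XTproj f T) (h₂₂ := T.left.fromSpecResidueField t)
      (by rw [pullback.lift_fst, hσ]; exact h) (pullback.lift_snd _ _ _) hs
  haveI : IsProper (PicF.XTproj f T) := inferInstanceAs (IsProper (pullback.snd f T.hom))
  haveI : IsProper b' := MorphismProperty.pullback_snd _ _ inferInstance
  haveI : CompactSpace (FGA.fibreAt f T t).left := QuasiCompact.compactSpace_of_compactSpace b'
  haveI : QuasiSeparatedSpace (FGA.fibreAt f T t).left := quasiSeparatedSpace_of_quasiSeparated b'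
  rw [h1Cl_cl]
  refine ((CurveCoh17.hequiv Ω (X := Z) ?_ 1).finrank_eq).trans
    (PicTan20.finrank_HH_pullback_mod (k := T.left.residueField t) (K := Ω) d.hom hsq
      (M1.isQCoh_pullback a' (Twist.isQCoh_of_isInvertible hL)) 1)
  exact (Scheme.Modules.pullbackCongr (show PicF.XTmap f x = l ≫ a' from (pullback.lift_fst _ _ _).symm)).app L ≪≫
    ((Scheme.Modules.pullbackComp l a').app L).symm

end Cohomology

/-- Some point of the power of order the genus has a class with no first cohomology. -/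
theorem exists_good_point (σ : Spec (CommRingCat.of k) ⟶ C) (hσ : σ ≫ (C ↘ Spec (CommRingCat.of k)) = 𝟙 _)
    {LA : (PicF.XT (C ↘ Spec (CommRingCat.of k)) (Over.mk (C ↘ Spec (CommRingCat.of k)))).Modules}
    (hA : Jac.IsAJFamilyAt (C ↘ Spec (CommRingCat.of k)) σ LA) :
    ∃ p : (pw k C (Curv2.genus k C)).left,
      PicTan20.degCl (C ↘ Spec (CommRingCat.of k)) (pw k C (Curv2.genus k C)) p
        ((∏ i : Fin (Curv2.genus k C), pc (PicF.XTmap (C ↘ Spec (CommRingCat.of k)) (prj (k := k) (C := C) i)) (PicGrp.cls LA hA.1)) *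
          (pc (pullback.fst (C ↘ Spec (CommRingCat.of k)) (pw k C (Curv2.genus k C)).hom) (Abel10.ptCls hdim σ hσ) ^
            Curv2.genus k C)⁻¹).1 = Curv2.genus k C ∧
      h1Cl (C ↘ Spec (CommRingCat.of k)) (pw k C (Curv2.genus k C)) p
        ((∏ i : Fin (Curv2.genus k C), pc (PicF.XTmap (C ↘ Spec (CommRingCat.of k)) (prj (k := k) (C := C) i)) (PicGrp.cls LA hA.1)) *
          (pc (pullback.fst (C ↘ Spec (CommRingCat.of k)) (pw k C (Curv2.genus k C)).hom) (Abel10.ptCls hdim σ hσ) ^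
            Curv2.genus k C)⁻¹).1 = 0 := by
  let Ω := AlgebraicClosure k
  let s : Spec (CommRingCat.of Ω) ⟶ Spec (CommRingCat.of k) := Spec.map (CommRingCat.ofHom (algebraMap k Ω))
  letI : (PicF.XT (C ↘ Spec (CommRingCat.of k)) (Over.mk s)).Over (Spec (CommRingCat.of Ω)) := ⟨PicF.XTproj _ (Over.mk s)⟩
  obtain ⟨hp, hsm, hint, hdZ, hgZ⟩ := fieldPt_setup hdim s
  haveI : IsProper ((PicF.XT (C ↘ Spec (CommRingCat.of k)) (Over.mk s)) ↘ Spec (CommRingCat.of Ω)) := hp
  haveI : Smooth ((PicF.XT (C ↘ Spec (CommRingCat.of k)) (Over.mk s)) ↘ Spec (CommRingCat.of Ω)) := hsm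
  haveI : IsIntegral (PicF.XT (C ↘ Spec (CommRingCat.of k)) (Over.mk s)) := hint
  let S₀ : Torelli22.Pts Ω (PicF.XT (C ↘ Spec (CommRingCat.of k)) (Over.mk s)) :=
    ⟨PicF.secT (C ↘ Spec (CommRingCat.of k)) σ hσ (Over.mk s), pullback.lift_snd _ _ _⟩
  set g := Curv2.genus k C
  have hr1 := rr hdZ S₀ (1 : PicLoc.PicSet (PicF.XT (C ↘ Spec (CommRingCat.of k)) (Over.mk s)))
  rw [h0C_one hdZ S₀, degC_one hdZ, hgZ, inv_one, _root_.mul_one] at hr1
  obtain ⟨Q, hQ⟩ := exists_drop_list (k := Ω) hdZ g (KC (k := Ω) hdZ) (by omega)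
  let c : PicLoc.PicSet (PicF.XT (C ↘ Spec (CommRingCat.of k)) (Over.mk s)) := (∏ i, Torelli22.P hdZ (Q i))⁻¹
  have hd : degC Ω c = (g : ℤ) := Eff.deg (k := Ω) hdZ ⟨Q, rfl⟩
  have hr := rr hdZ S₀ c
  rw [hd, hgZ, show (KC (k := Ω) hdZ) * c⁻¹ = KC (k := Ω) hdZ * ∏ i, Torelli22.P hdZ (Q i) by rw [inv_inv]] at hr
  have h0 : h0C Ω c = 1 := by omega
  let pt' : Torelli22.Pts Ω (PicF.XT (C ↘ Spec (CommRingCat.of k)) (Over.mk s)) → ((Over.mk s) ⟶ Over.mk (C ↘ Spec (CommRingCat.of k))) := fun q =>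
    Over.homMk (q.1 ≫ pullback.fst (C ↘ Spec (CommRingCat.of k)) s) (by
      show (q.1 ≫ pullback.fst (C ↘ Spec (CommRingCat.of k)) s) ≫ (C ↘ Spec (CommRingCat.of k)) = s
      rw [Category.assoc, pullback.condition, ← Category.assoc]
      exact (congrArg (· ≫ s) q.2).trans (Category.id_comp _))
  let x : (Over.mk s) ⟶ pw k C g := Over.homMk (WidePullback.lift s (fun i => (pt' (Q i)).left) fun i => Over.w (pt' (Q i)))
    (WidePullback.lift_base _ _ _ _)
  obtain ⟨M, hM, hMc⟩ := PicGrp.exists_eq_cls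
    ((∏ i : Fin g, pc (PicF.XTmap (C ↘ Spec (CommRingCat.of k)) (prj (k := k) (C := C) i)) (PicGrp.cls LA hA.1)) *
          (pc (pullback.fst (C ↘ Spec (CommRingCat.of k)) (pw k C g).hom) (Abel10.ptCls hdim σ hσ) ^ g)⁻¹)
  have hxc : pc (PicF.XTmap (C ↘ Spec (CommRingCat.of k)) x) (PicGrp.cls M hM) = c := by
    rw [← hMc, map_mul, map_inv, map_pow, map_prod, pc_comp _ _ (HilbBC25.XTmap_fst (C ↘ Spec (CommRingCat.of k)) x)]
    let A : PicLoc.PicSet (PicF.XT (C ↘ Spec (CommRingCat.of k)) (Over.mk s)) :=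
      pc (pullback.fst (C ↘ Spec (CommRingCat.of k)) s) (Abel10.ptCls hdim σ hσ)
    have e : ∀ i, pc (PicF.XTmap (C ↘ Spec (CommRingCat.of k)) x)
        (pc (PicF.XTmap (C ↘ Spec (CommRingCat.of k)) (prj (k := k) (C := C) i)) (PicGrp.cls LA hA.1)) =
        A * (Torelli22.P hdZ (Q i))⁻¹ := fun i => by
      rw [pc_comp _ _ (HilbBC25.XTmap_comp (C ↘ Spec (CommRingCat.of k)) x (prj i)).symm,
        show x ≫ prj i = pt' (Q i) from Over.OverMorphism.ext (WidePullback.lift_π _ _ _ _ i)]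
      exact eq_mul_inv_of_mul_eq (pc_ajFamily hdim s σ hA hσ (pt' (Q i)) (Q i) rfl)
    rw [Finset.prod_congr rfl fun i _ => e i, Finset.prod_mul_distrib, Finset.prod_const, Finset.card_univ,
      Fintype.card_fin, Finset.prod_inv_distrib, _root_.mul_comm, ← _root_.mul_assoc]
    erw [inv_mul_cancel]
    exact _root_.one_mul _
  rw [pc, PicGrp.pullHom_cls] at hxc
  have hM' := PicLoc.isInvertible_pullback (PicF.XTmap (C ↘ Spec (CommRingCat.of k)) x) hM
  refine ⟨x.left (IsLocalRing.closedPoint Ω), ?_, ?_⟩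
  · rw [hMc]
    show PicTan20.degCl _ _ _ (PicF.cl M) = _
    refine ((deg_fibre (C ↘ Spec (CommRingCat.of k)) hdim (pw k C g) _ hM).symm.trans
      (Abel10.deg_fieldPt (f := PicF.XTproj (C ↘ Spec (CommRingCat.of k)) (pw k C g)) (K := Ω)
        (Z := PicF.XT (C ↘ Spec (CommRingCat.of k)) (Over.mk s)) (τ := x.left)
        (HilbBC25.isPullback_XTmap (C ↘ Spec (CommRingCat.of k)) x) hM).symm).trans ?_
    rw [← degC_cls (k := Ω) hM', hxc]
    exact hd
  · rw [hMc]
    show h1Cl _ _ _ (PicF.cl M) = _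
    rw [← h1_geomPt hdim x hM]
    have hX := VB17.curveLike (k := Ω) hdZ
    haveI := hX.noetherian
    have hrr := hX.rr (CurveCoh17.rkOne_of_invertible hdZ.le hM').coh
    have hd' : Curv2.deg Ω _ ((Scheme.Modules.pullback (PicF.XTmap (C ↘ Spec (CommRingCat.of k)) x)).obj M) 1 = g := by
      rw [← degC_cls (k := Ω) hM', hxc, hd]
    rw [← h0C_cls (k := Ω) hM', hxc, h0, hd', (CurvePts22.setup hdZ S₀.1 S₀.2).2.1, hgZ] at hrr
    omega

end Groth.Agent.JacPts22
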