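import Groth.Agent.Lib.Torelli22.Points
import Groth.Agent.Lib.CurvePts22.SepClosed
import Groth.Agent.Lib.CurveOm17.Main

/-!
# Effective classes on a curve
-/

set_option autoImplicit false
set_option linter.style.haveILetI false
set_option linter.unusedSectionVars false
set_option backward.isDefEq.respectTransparency false
set_option backward.isDefEq.respectTransparency.types false
set_option maxHeartbeats 800000

universe u

open CategoryTheory CategoryTheory.Limits AlgebraicGeometry TopologicalSpace Opposite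

noncomputable section

namespace Groth.Agent.JacPts22

open Groth.Agent.CurveCoh17 Groth.Agent.Abel10 Groth.Agent.CurvePts22 Groth.Agent.Torelli22

noncomputable local instance instLawJacClasses (Y : Scheme.{u}) : PicGrp.Law Y := M2.law Y

variable {k : Type u} [Field k] [IsAlgClosed k] {C : Scheme.{u}} [C.Over (Spec (CommRingCat.of k))]
  [IsProper (C ↘ Spec (CommRingCat.of k))] [Smooth (C ↘ Spec (CommRingCat.of k))] [IsIntegral C]

local notation "pC" => C ↘ Spec (CommRingCat.of k)

/-- A representative of a class. -/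
def rep (c : PicLoc.PicSet C) : C.Modules := (PicGrp.exists_eq_cls c).choose

theorem rep_inv (c : PicLoc.PicSet C) : PicF.IsInvertible (rep c) :=
  (PicGrp.exists_eq_cls c).choose_spec.choose

theorem cls_rep (c : PicLoc.PicSet C) : PicGrp.cls (rep c) (rep_inv c) = c :=
  (PicGrp.exists_eq_cls c).choose_spec.choose_spec.symm

theorem rep_iso {c : PicLoc.PicSet C} {L : C.Modules} {hL : PicF.IsInvertible L} (h : PicGrp.cls L hL = c) :
    Nonempty (rep c ≅ L) :=
  (PicGrp.cls_eq_cls_iff (rep_inv c) hL).1 ((cls_rep c).trans h.symm)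

variable (k) in
/-- The degree of a class. -/
def degC (c : PicLoc.PicSet C) : ℤ := Curv2.deg k C (rep c) 1

variable (k) in
/-- The dimension of the space of sections of a class. -/
def h0C (c : PicLoc.PicSet C) : ℕ := Module.finrank k (Coh.HH C (rep c) 0)

theorem degC_cls {L : C.Modules} (hL : PicF.IsInvertible L) : degC k (PicGrp.cls L hL) = Curv2.deg k C L 1 :=
  deg_iso (rep_iso (c := PicGrp.cls L hL) rfl).some

theorem h0C_cls {L : C.Modules} (hL : PicF.IsInvertible L) :
    h0C k (PicGrp.cls L hL) = Module.finrank k (Coh.HH C L 0) :=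
  (hequiv k (rep_iso (c := PicGrp.cls L hL) rfl).some 0).finrank_eq

variable (hdim : topologicalKrullDim C = 1)
include hdim

theorem degC_mul (c d : PicLoc.PicSet C) : degC k (c * d) = degC k c + degC k d := by
  conv_lhs => rw [← cls_rep c, ← cls_rep d, AlgEquiv22.cls_tensor, degC_cls]
  exact (VB17.curveLike (k := k) hdim).deg_tensor_invertible (rep_inv c) (rep_inv d)

theorem degC_one : degC k (1 : PicLoc.PicSet C) = 0 := by
  have h := degC_mul (k := k) hdim (1 : PicLoc.PicSet C) 1
  rw [_root_.one_mul] at h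
  omega

theorem degC_inv (c : PicLoc.PicSet C) : degC k c⁻¹ = -degC k c := by
  have h := degC_mul (k := k) hdim c c⁻¹
  rw [mul_inv_cancel, degC_one hdim] at h
  omega

theorem degC_pow (c : PicLoc.PicSet C) (n : ℕ) : degC k (c ^ n) = n * degC k c := by
  induction n with
  | zero => simp [degC_one hdim]
  | succ n ih => rw [pow_succ, degC_mul hdim, ih]; push_cast; ring

theorem degC_P (x : Pts k C) : degC k (P hdim x) = -1 :=
  (degC_cls (isInvertible_point hdim x.1 x.2)).trans (deg_point hdim x.1 x.2)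

theorem cls_rep_mul_P (c : PicLoc.PicSet C) (x : Pts k C) :
    PicGrp.cls (CohB1.tensorMod (rep c) (ClSub.idealMod x.1.ker))
      (M2.isInvertible_tensor (rep_inv c) (isInvertible_point hdim x.1 x.2)) = c * P hdim x := by
  rw [← AlgEquiv22.cls_tensor (rep_inv c) (isInvertible_point hdim x.1 x.2), cls_rep]
  rfl

theorem h0C_mul_P (c : PicLoc.PicSet C) (x : Pts k C) :
    h0C k (c * P hdim x) = Module.finrank k (Coh.HH C (CohB1.tensorMod (rep c) (ClSub.idealMod x.1.ker)) 0) := by
  rw [← cls_rep_mul_P hdim c x, h0C_cls]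

omit hdim in
/-- A point is not a base point of a class. -/
def Good (x : Pts k C) (c : PicLoc.PicSet C) : Prop := pt x.1 ∈ goodOpen (rep c)

theorem h0C_drop {x : Pts k C} {c : PicLoc.PicSet C} (h : Good x c) : h0C k c = h0C k (c * P hdim x) + 1 :=
  (h0_drop_of_mem hdim x.1 x.2 (rep_inv c) h).trans (by rw [h0C_mul_P hdim])

theorem h0C_stay {x : Pts k C} {c : PicLoc.PicSet C} (h : ¬ Good x c) : h0C k c = h0C k (c * P hdim x) :=
  (h0_eq_of_notMem hdim x.1 x.2 (rep_inv c) h).trans (h0C_mul_P hdim c x).symm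

theorem good_iff {x : Pts k C} {c : PicLoc.PicSet C} : Good x c ↔ h0C k (c * P hdim x) < h0C k c := by
  refine ⟨fun h => by have := h0C_drop hdim h; omega, fun h => ?_⟩
  by_contra hn
  have := h0C_stay hdim hn
  omega

theorem h0C_mul_P_le (c : PicLoc.PicSet C) (x : Pts k C) : h0C k (c * P hdim x) ≤ h0C k c := by
  by_cases h : Good x c
  · have := h0C_drop hdim h; omega
  · exact (h0C_stay hdim h).ge

theorem h0C_le_mul_P (c : PicLoc.PicSet C) (x : Pts k C) : h0C k c ≤ h0C k (c * P hdim x) + 1 := by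
  by_cases h : Good x c
  · exact (h0C_drop hdim h).le
  · have := h0C_stay hdim h; omega

theorem Good.mul {x : Pts k C} {c d : PicLoc.PicSet C} (hc : Good x c) (hd : Good x d) :
    Good x (c * d) := by
  have hT := M2.isInvertible_tensor (rep_inv c) (rep_inv d)
  have hcl : PicGrp.cls _ hT = c * d := by rw [← AlgEquiv22.cls_tensor (rep_inv c) (rep_inv d), cls_rep, cls_rep]
  have hg : pt x.1 ∈ goodOpen (CohB1.tensorMod (rep c) (rep d)) := by
    simp only [Good, goodOpen, Opens.mem_iSup] at hc hd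
    obtain ⟨s, hs⟩ := hc
    obtain ⟨s', hs'⟩ := hd
    rw [Amp.mem_genLocus_iff (rep_inv c), Amp.gval_secHom] at hs
    rw [Amp.mem_genLocus_iff (rep_inv d), Amp.gval_secHom] at hs'
    exact (mem_goodOpen_iff hT _).2 (exists_span_tensor (pt x.1) hs hs')
  have hdrop := h0_drop_of_mem hdim x.1 x.2 hT hg
  rw [← h0C_cls hT, hcl, ← h0C_cls (M2.isInvertible_tensor hT (isInvertible_point hdim x.1 x.2)),
    ← AlgEquiv22.cls_tensor hT (isInvertible_point hdim x.1 x.2), hcl] at hdrop
  refine (good_iff hdim).2 ?_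
  simp only [P, ptCls] at hdrop ⊢
  omega

theorem h0C_one (x : Pts k C) : h0C k (1 : PicLoc.PicSet C) = 1 := by
  obtain ⟨i⟩ := rep_iso (c := (1 : PicLoc.PicSet C)) PicGrp.cls_structureModule_eq_one
  exact (hequiv k i 0).finrank_eq.trans (CurvePts22.setup hdim x.1 x.2).2.1

omit [IsAlgClosed k] in
theorem eq_one_of_deg_zero {c : PicLoc.PicSet C} (hd : degC k c = 0) (h : 0 < h0C k c) : c = 1 := by
  have hX := VB17.curveLike (k := k) hdim
  haveI := hX.noetherian
  obtain ⟨i⟩ := (hX.deg_nonneg (rkOne_of_invertible hdim.le (rep_inv c))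
    (Module.nontrivial_of_finrank_pos (R := k) (M := Coh.HH C (rep c) 0) h)).2 hd
  rw [← cls_rep c]
  exact (PicGrp.cls_eq_one_iff (rep_inv c)).2 ⟨i⟩

omit [IsAlgClosed k] in
theorem degC_nonneg {c : PicLoc.PicSet C} (h : 0 < h0C k c) : 0 ≤ degC k c :=
  haveI := (VB17.curveLike (k := k) hdim).noetherian
  ((VB17.curveLike (k := k) hdim).deg_nonneg (rkOne_of_invertible hdim.le (rep_inv c))
    (Module.nontrivial_of_finrank_pos (R := k) (M := Coh.HH C (rep c) 0) h)).1

theorem h0C_eq_zero_of_neg {c : PicLoc.PicSet C} (h : degC k c < 0) : h0C k c = 0 := by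
  by_contra hne
  have := degC_nonneg (k := k) hdim (Nat.pos_of_ne_zero hne)
  omega

theorem good_one (x : Pts k C) : Good x 1 := by
  refine (good_iff hdim).2 ?_
  rw [_root_.one_mul, h0C_one hdim x, h0C_eq_zero_of_neg hdim (by rw [degC_P hdim]; omega)]
  omega

/-- Classes of effective divisors of degree `n`. -/
def Eff (n : ℕ) (c : PicLoc.PicSet C) : Prop := ∃ Q : Fin n → Pts k C, c = (∏ i, P hdim (Q i))⁻¹

theorem Eff.deg {n : ℕ} {c : PicLoc.PicSet C} (h : Eff (k := k) hdim n c) : degC k c = n := by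
  obtain ⟨Q, rfl⟩ := h
  have key : ∀ (n : ℕ) (Q : Fin n → Pts k C), degC k (∏ i, P hdim (Q i)) = -n := by
    intro n
    induction n with
    | zero => intro Q; simp [degC_one hdim]
    | succ n ih => intro Q; rw [Fin.prod_univ_succ, degC_mul hdim, degC_P hdim, ih]; push_cast; ring
  rw [degC_inv hdim, key, neg_neg]

theorem Eff.mul {m n l : ℕ} {c d : PicLoc.PicSet C} (hc : Eff (k := k) hdim m c) (hd : Eff (k := k) hdim n d)
    (hl : m + n = l) : Eff (k := k) hdim l (c * d) := by
  obtain ⟨Q, rfl⟩ := hc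
  obtain ⟨R, rfl⟩ := hd
  subst hl
  refine ⟨Fin.append Q R, ?_⟩
  rw [Fin.prod_univ_add, ← mul_inv]
  simp

theorem h0C_pos_mul_inv {c : PicLoc.PicSet C} (x : Pts k C) (h : 0 < h0C k c) : 0 < h0C k (c * (P hdim x)⁻¹) := by
  have := h0C_mul_P_le hdim (c * (P hdim x)⁻¹) x
  rw [inv_mul_cancel_right] at this
  omega

theorem Eff.h0_pos {n : ℕ} {c : PicLoc.PicSet C} (h : Eff (k := k) hdim n c) (x : Pts k C) : 0 < h0C k c := by
  obtain ⟨Q, rfl⟩ := h
  induction n with
  | zero => simp [h0C_one hdim x]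
  | succ n ih =>
    rw [Fin.prod_univ_succ, mul_inv, _root_.mul_comm]
    exact h0C_pos_mul_inv hdim (Q 0) (ih _)

/-- A class of degree `n` with a section is the class of an effective divisor. -/
theorem eff_of_h0_pos : ∀ (n : ℕ) (c : PicLoc.PicSet C), degC k c = n → 0 < h0C k c → Eff (k := k) hdim n c
  | 0, c, hd, h => ⟨Fin.elim0, by simp [eq_one_of_deg_zero hdim (by simpa using hd) h]⟩
  | n + 1, c, hd, h => by
    haveI : Nontrivial (Coh.HH C (rep c) 0) := Module.nontrivial_of_finrank_pos (R := k) h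
    obtain ⟨w, hw⟩ := exists_ne (0 : Coh.HH C (rep c) 0)
    obtain ⟨x, hx, hnt⟩ := exists_zero hdim (rep_inv c) (by rw [show Curv2.deg k C (rep c) 1 = _ from hd]; omega) w hw
    have hx0 : 0 < h0C k (c * P hdim ⟨x, hx⟩) := by
      rw [h0C_mul_P hdim]
      haveI := hnt
      haveI := (VB17.curveLike (k := k) hdim).noetherian
      haveI := (VB17.curveLike (k := k) hdim).fin _ (isCoh_of_ofRank ((M2.isInvertible_iff_isFinLocFreeOfRank_one _).1
        (M2.isInvertible_tensor (rep_inv c) (isInvertible_point hdim x hx)))) 0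
      exact Module.finrank_pos
    obtain ⟨Q, hQ⟩ := eff_of_h0_pos n _ (by rw [degC_mul hdim, degC_P hdim, hd]; push_cast; ring) hx0
    refine ⟨Fin.cons ⟨x, hx⟩ Q, ?_⟩
    rw [Fin.prod_univ_succ, mul_inv]
    simp only [Fin.cons_zero, Fin.cons_succ]
    rw [← hQ, _root_.mul_comm, mul_inv_cancel_right]

theorem exists_drop {c : PicLoc.PicSet C} (h : 0 < h0C k c) : ∃ x : Pts k C, Good x c := by
  obtain ⟨a, ha, hm⟩ := exists_section_mem (k := k) hdim (goodOpen_nonempty (k := k) (rep_inv c) h)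
  exact ⟨⟨a, ha⟩, hm⟩

/-- Suitable points impose independent conditions. -/
theorem exists_drop_list : ∀ (m : ℕ) (c : PicLoc.PicSet C), m ≤ h0C k c →
    ∃ Q : Fin m → Pts k C, h0C k (c * ∏ i, P hdim (Q i)) + m = h0C k c
  | 0, c, _ => ⟨Fin.elim0, by simp⟩
  | m + 1, c, h => by
    obtain ⟨x, hx⟩ := exists_drop (k := k) hdim (c := c) (by omega)
    have h1 := h0C_drop hdim hx
    obtain ⟨Q, hQ⟩ := exists_drop_list m (c * P hdim x) (by omega)
    refine ⟨Fin.cons x Q, ?_⟩
    rw [Fin.prod_univ_succ]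
    simp only [Fin.cons_zero, Fin.cons_succ]
    rw [← _root_.mul_assoc]
    omega

/-- Effective divisors have no base points outside of their support. -/
theorem good_eff (hg : 1 ≤ Curv2.genus k C) {x : Pts k C} :
    ∀ (n : ℕ) (Q : Fin n → Pts k C), (∀ i, x ≠ Q i) → Good x (∏ i, P hdim (Q i))⁻¹
  | 0, Q, _ => by simpa using good_one hdim x
  | n + 1, Q, h => by
    rw [Fin.prod_univ_succ, mul_inv]
    refine Good.mul hdim ?_ (good_eff hg n _ fun i => h i.succ)
    obtain ⟨A, hA, hcA, -⟩ := exists_bundle hdim (Q 0)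
    obtain ⟨-, hg'⟩ := bundle_sections hdim hg (Q 0) hA hcA x (h 0)
    have hdrop := h0_drop_of_mem hdim x.1 x.2 hA hg'
    rw [← h0C_cls hA, hcA, ← h0C_cls (M2.isInvertible_tensor hA (isInvertible_point hdim x.1 x.2)),
      ← AlgEquiv22.cls_tensor hA (isInvertible_point hdim x.1 x.2), hcA] at hdrop
    refine (good_iff hdim).2 ?_
    simp only [P, ptCls] at hdrop ⊢
    omega

/-- The canonical class. -/
def KC : PicLoc.PicSet C :=
  PicGrp.cls (Omega.sheaf pC) (CurveOm17.exists_isDualizing_omega hdim (Omega12.isUniversal_dOmega pC)).choose_spec.inv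

/-- The Riemann–Roch theorem. -/
theorem rr (x : Pts k C) (c : PicLoc.PicSet C) :
    (h0C k c : ℤ) - h0C k (KC (k := k) hdim * c⁻¹) = degC k c + 1 - Curv2.genus k C := by
  obtain ⟨lam, hW⟩ := CurveOm17.exists_isDualizing_omega hdim (Omega12.isUniversal_dOmega pC)
  obtain ⟨hX, h0, hbig⟩ := CurvePts22.setup hdim x.1 x.2
  have hL := rep_inv c
  have hL' := rep_inv c⁻¹
  obtain ⟨e⟩ := (PicGrp.cls_mul_cls_eq_one_iff hL' hL).1 (by rw [cls_rep, cls_rep, inv_mul_cancel])
  have h1 := hW.finrank_h1 hX h0 hbig hL hL' e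
  have hrr := hX.like.rr (isCoh_of_ofRank ((M2.isInvertible_iff_isFinLocFreeOfRank_one _).1 hL))
  rw [h1, h0] at hrr
  have h2 : h0C k (KC (k := k) hdim * c⁻¹) =
      Module.finrank k (Coh.HH C (CohB1.tensorMod (Omega.sheaf pC) (rep c⁻¹)) 0) := by
    conv_lhs => rw [KC, ← cls_rep c⁻¹, AlgEquiv22.cls_tensor, h0C_cls]
  rw [h2]
  simpa [h0C, degC] using hrr

theorem degC_KC : degC k (KC (k := k) hdim) = 2 * (Curv2.genus k C : ℤ) - 2 := by
  rw [KC, degC_cls]
  exact (CurveOm17.omega_invariants (k := k) hdim (Omega12.isUniversal_dOmega pC)).2.2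

end Groth.Agent.JacPts22
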