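import Groth.Agent.Lib.JacPts22.Dict
import Groth.Agent.Lib.JacPts22.Classes
import Groth.Agent.Lib.AdmBlowUp4.Product
import Groth.Agent.Lib.AbRigid.Maximal
import Groth.Prelude.Def_SymProd

/-!
# Subsets of a Jacobian cut out by effective classes
-/

set_option autoImplicit false
set_option linter.style.haveILetI false
set_option linter.unusedSectionVars false
set_option backward.isDefEq.respectTransparency false
set_option backward.isDefEq.respectTransparency.types false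
set_option maxHeartbeats 1000000

universe u

open CategoryTheory CategoryTheory.Limits AlgebraicGeometry TopologicalSpace Opposite MonoidalCategory
  CartesianMonoidalCategory MonObj

noncomputable section

namespace Groth.Agent.JacPts22

open Groth.Agent.CurveCoh17 Groth.Agent.Abel10 Groth.Agent.Torelli22 Groth.Agent.CurvePts22

variable {k : Type u} [Field k]

section Points

/-- Rational points of a separated scheme are determined by their image. -/
theorem ext_of_pt_eq {X : Scheme.{u}} (h : X ⟶ Spec (CommRingCat.of k)) [IsSeparated h]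
    {f g : Spec (CommRingCat.of k) ⟶ X} (hf : f ≫ h = 𝟙 _) (hg : g ≫ h = 𝟙 _) (H : pt f = pt g) : f = g := by
  letI : X.Over (Spec (CommRingCat.of k)) := ⟨h⟩
  haveI : IsSeparated (X ↘ Spec (CommRingCat.of k)) := ‹IsSeparated h›
  haveI := isClosedImmersion_of_section f hf
  haveI := isClosedImmersion_of_section g hg
  have hk : f.ker = g.ker := by
    rw [SchImage.ker_eq_vanishingIdeal, SchImage.ker_eq_vanishingIdeal]
    congr 1
    refine Closeds.ext ?_
    show closure (Set.range f) = closure (Set.range g)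
    rw [range_eq f, range_eq g, H]
  have he := IsClosedImmersion.lift_fac f g hk.le
  generalize IsClosedImmersion.lift f g hk.le = e at he
  have : e = 𝟙 _ := by
    rw [← Category.comp_id e, ← hf, ← Category.assoc, he, hg, hf]
  rw [← he, this, Category.id_comp]

variable {P J : Over (Spec (CommRingCat.of k))}

theorem base_eq (x : 𝟙_ (Over (Spec (CommRingCat.of k))) ⟶ J) (p : ↥(𝟙_ (Over (Spec (CommRingCat.of k)))).left) :
    x.left.base p = pt x.left :=
  base_eq_pt x.left p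

theorem forall_base_iff (x : 𝟙_ (Over (Spec (CommRingCat.of k))) ⟶ J) (K : Set J.left) :
    (∀ p, x.left.base p ∈ K) ↔ pt x.left ∈ K :=
  ⟨fun h => h (IsLocalRing.closedPoint k), fun h p => (base_eq x p).symm ▸ h⟩

theorem pt_comp_mem (g : P ⟶ J) (x : 𝟙_ (Over (Spec (CommRingCat.of k))) ⟶ P) :
    pt (x ≫ g).left ∈ Set.range g.left.base :=
  ⟨pt x.left, rfl⟩

variable [IsSeparated J.hom] [IsProper P.hom]

theorem isClosed_range (g : P ⟶ J) : IsClosed (Set.range g.left.base) := by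
  haveI : IsProper (g.left ≫ J.hom) := by rw [Over.w g]; infer_instance
  haveI : IsProper g.left := IsProper.of_comp g.left J.hom
  exact g.left.isClosedMap.isClosed_range

variable [IsAlgClosed k]

/-- A closed subset of a proper source has a rational point. -/
theorem exists_point_mem {Z : Set P.left} (hZ : IsLocallyClosed Z) (hne : Z.Nonempty) :
    ∃ x : 𝟙_ (Over (Spec (CommRingCat.of k))) ⟶ P, pt x.left ∈ Z := by
  haveI : JacobsonSpace P.left := LocallyOfFiniteType.jacobsonSpace P.hom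
  obtain ⟨Q, hQ, hQc⟩ := nonempty_inter_closedPoints hne hZ
  have hQc' : IsClosed ({Q} : Set P.left) := hQc
  let f := pointOfClosedPoint P.hom Q hQc'
  have hf : f ≫ P.hom = 𝟙 _ := pointOfClosedPoint_comp P.hom Q hQc'
  have e : pt f = Q := pointOfClosedPoint_apply P.hom Q hQc' (IsLocalRing.closedPoint k)
  exact ⟨Over.homMk f hf, Set.mem_of_eq_of_mem e hQ⟩

/-- Rational points of the image lift. -/
theorem exists_point_eq (g : P ⟶ J) (z : 𝟙_ (Over (Spec (CommRingCat.of k))) ⟶ J)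
    (h : pt z.left ∈ Set.range g.left.base) : ∃ x : 𝟙_ (Over (Spec (CommRingCat.of k))) ⟶ P, x ≫ g = z := by
  have hz : IsClosed ({pt z.left} : Set J.left) := by
    letI : J.left.Over (Spec (CommRingCat.of k)) := ⟨J.hom⟩
    haveI : IsSeparated (J.left ↘ Spec (CommRingCat.of k)) := ‹IsSeparated J.hom›
    haveI := isClosedImmersion_of_section z.left (Over.w z)
    rw [← range_eq z.left]
    exact z.left.isClosedEmbedding.isClosed_range
  obtain ⟨x, hx⟩ := exists_point_mem (P := P) (hz.preimage g.left.base.hom.continuous).isLocallyClosed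
    (let ⟨q, hq⟩ := h; ⟨q, hq⟩)
  exact ⟨x, Over.OverMorphism.ext (ext_of_pt_eq J.hom (Over.w (x ≫ g)) (Over.w z) hx)⟩

theorem pt_mem_range_iff (g : P ⟶ J) (z : 𝟙_ (Over (Spec (CommRingCat.of k))) ⟶ J) :
    pt z.left ∈ Set.range g.left.base ↔ ∃ x : 𝟙_ (Over (Spec (CommRingCat.of k))) ⟶ P, x ≫ g = z :=
  ⟨exists_point_eq g z, fun ⟨x, hx⟩ => hx ▸ pt_comp_mem g x⟩

omit [IsSeparated J.hom] in
/-- Inclusions of closed subsets of images can be tested at rational points. -/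
theorem range_inter_subset (g : P ⟶ J) {K T : Set J.left} (hK : IsClosed K) (hT : IsClosed T)
    (h : ∀ x : 𝟙_ (Over (Spec (CommRingCat.of k))) ⟶ P, pt (x ≫ g).left ∈ K → pt (x ≫ g).left ∈ T) :
    Set.range g.left.base ∩ K ⊆ T := by
  rintro _ ⟨⟨q, rfl⟩, hq⟩
  by_contra hn
  obtain ⟨x, hxK, hxT⟩ := exists_point_mem (P := P) (Z := g.left.base ⁻¹' K ∩ (g.left.base ⁻¹' T)ᶜ)
    ((hK.preimage g.left.base.hom.continuous).isLocallyClosed.inter
      (hT.preimage g.left.base.hom.continuous).isOpen_compl.isLocallyClosed) ⟨q, hq, hn⟩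
  exact hxT (h x hxK)

omit [IsSeparated J.hom] in
theorem range_subset (g : P ⟶ J) {T : Set J.left} (hT : IsClosed T)
    (h : ∀ x : 𝟙_ (Over (Spec (CommRingCat.of k))) ⟶ P, pt (x ≫ g).left ∈ T) : Set.range g.left.base ⊆ T :=
  fun q hq => range_inter_subset g isClosed_univ hT (fun x _ => h x) ⟨hq, trivial⟩

end Points

section Sums

variable {C : Scheme.{u}} [C.Over (Spec (CommRingCat.of k))]


variable (k C) in
/-- The fibred power of the curve. -/
abbrev pw (n : ℕ) : Over (Spec (CommRingCat.of k)) :=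
  Over.mk (WidePullback.base fun (_ : Fin n) => (C ↘ Spec (CommRingCat.of k)))

/-- The projections. -/
abbrev prj {n : ℕ} (i : Fin n) : pw k C n ⟶ Over.mk (C ↘ Spec (CommRingCat.of k)) :=
  Over.homMk (WidePullback.π (fun (_ : Fin n) => (C ↘ Spec (CommRingCat.of k))) i) (WidePullback.π_arrow (fun (_ : Fin n) => (C ↘ Spec (CommRingCat.of k))) i)

instance isProper_pw [IsProper (C ↘ Spec (CommRingCat.of k))] (n : ℕ) : IsProper (pw k C n).hom :=
  AdmBlowUp4.isProper_widePullback_base (fun _ : Fin n => C) fun _ => (C ↘ Spec (CommRingCat.of k))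

variable {J : Over (Spec (CommRingCat.of k))} [GrpObj J]

/-- The sum map. -/
abbrev sumMap (j : Over.mk (C ↘ Spec (CommRingCat.of k)) ⟶ J) (n : ℕ) : pw k C n ⟶ J :=
  (List.ofFn fun i : Fin n => prj i ≫ j).prod

theorem comp_list_prod {A B : Over (Spec (CommRingCat.of k))} (x : A ⟶ B) :
    ∀ l : List (B ⟶ J), x ≫ l.prod = (l.map (x ≫ ·)).prod
  | [] => by simp [MonObj.comp_one]
  | a :: l => by simp [MonObj.comp_mul, comp_list_prod x l]

theorem comp_transl {A : Over (Spec (CommRingCat.of k))} (f : A ⟶ J) (a : 𝟙_ (Over (Spec (CommRingCat.of k))) ⟶ J) :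
    f ≫ Jac.transl J a = f * (toUnit A ≫ a) := by
  rw [Jac.transl, MonObj.comp_mul, Category.comp_id, ← Category.assoc, toUnit_unique (f ≫ toUnit J) (toUnit A)]

theorem point_comp_transl (z a : 𝟙_ (Over (Spec (CommRingCat.of k))) ⟶ J) : z ≫ Jac.transl J a = z * a := by
  rw [comp_transl, toUnit_unique (toUnit _) (𝟙 _), Category.id_comp]

/-- The translate of a sum map. -/
abbrev trMap (j : Over.mk (C ↘ Spec (CommRingCat.of k)) ⟶ J) (n : ℕ) (a : 𝟙_ (Over (Spec (CommRingCat.of k))) ⟶ J) : pw k C n ⟶ J :=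
  sumMap j n ≫ Jac.transl J a

theorem image_eq_range {A : Over (Spec (CommRingCat.of k))} (f : A ⟶ J) (t : J ⟶ J) :
    t.left.base '' Set.range f.left.base = Set.range (f ≫ t).left.base := by
  rw [← Set.range_comp]
  rfl

variable [IsAlgClosed k] [IsProper (C ↘ Spec (CommRingCat.of k))] [Smooth (C ↘ Spec (CommRingCat.of k))] [GeometricallyConnected (C ↘ Spec (CommRingCat.of k))] [IsIntegral C] [IsCommMonObj J]

noncomputable local instance instLawJacSets (Y : Scheme.{u}) : PicGrp.Law Y := M2.law Y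

/-- The point with given coordinates. -/
def mkPt {n : ℕ} (Q : Fin n → Pts k C) : 𝟙_ (Over (Spec (CommRingCat.of k))) ⟶ pw k C n :=
  Over.homMk (WidePullback.lift (𝟙 _) (fun i => (Q i).1) fun i => (Q i).2) (WidePullback.lift_base _ _ _ _)

/-- The coordinates of a point. -/
def coord {n : ℕ} (x : 𝟙_ (Over (Spec (CommRingCat.of k))) ⟶ pw k C n) (i : Fin n) : Pts k C :=
  ⟨(x ≫ prj i).left, Over.w (x ≫ prj i)⟩

theorem coord_mkPt {n : ℕ} (Q : Fin n → Pts k C) (i : Fin n) : coord (mkPt Q) i = Q i :=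
  Subtype.ext (WidePullback.lift_π _ _ _ _ i)

variable (hdim : topologicalKrullDim C = 1) (σ : Spec (CommRingCat.of k) ⟶ C) (hσ : σ ≫ (C ↘ Spec (CommRingCat.of k)) = 𝟙 _)
include hdim

/-- The normalised class of a point of `J` as a divisor class of degree `n`. -/
def cN (ψ : (ModFun.PicDeg (C ↘ Spec (CommRingCat.of k)) 0).Hom ⊤ J) (hJ : Jac.IsJacobian (C ↘ Spec (CommRingCat.of k)) ⊤ J ψ) (n : ℕ)
    (z : 𝟙_ (Over (Spec (CommRingCat.of k))) ⟶ J) : PicLoc.PicSet C :=
  iota hdim J ψ hJ z * (P hdim ⟨σ, hσ⟩ ^ n)⁻¹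

theorem iota_eq (ψ : (ModFun.PicDeg (C ↘ Spec (CommRingCat.of k)) 0).Hom ⊤ J) (hJ : Jac.IsJacobian (C ↘ Spec (CommRingCat.of k)) ⊤ J ψ) (n : ℕ)
    (z : 𝟙_ (Over (Spec (CommRingCat.of k))) ⟶ J) :
    iota hdim J ψ hJ z = cN hdim σ hσ ψ hJ n z * P hdim ⟨σ, hσ⟩ ^ n :=
  (inv_mul_cancel_right _ _).symm

variable (ψ : (ModFun.PicDeg (C ↘ Spec (CommRingCat.of k)) 0).Hom ⊤ J) (hJ : Jac.IsJacobian (C ↘ Spec (CommRingCat.of k)) ⊤ J ψ) (j : Over.mk (C ↘ Spec (CommRingCat.of k)) ⟶ J)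
  (hj : Jac.IsAbelJacobiAt (C ↘ Spec (CommRingCat.of k)) σ ψ j)
include hJ hj

theorem cN_sum {n : ℕ} (x : 𝟙_ (Over (Spec (CommRingCat.of k))) ⟶ pw k C n) :
    cN hdim σ hσ ψ hJ n (x ≫ sumMap j n) = (∏ i, P hdim (coord x i))⁻¹ := by
  have h : ∀ i, iota hdim J ψ hJ (x ≫ prj i ≫ j) = P hdim ⟨σ, hσ⟩ * (P hdim (coord x i))⁻¹ := fun i => by
    rw [← Category.assoc]
    exact iota_abel hdim J ψ hJ σ hσ j hj (x ≫ prj i)
  rw [cN, comp_list_prod, List.map_ofFn, map_list_prod, List.map_ofFn]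
  simp only [Function.comp_def, h]
  rw [List.prod_ofFn, Finset.prod_mul_distrib, Finset.prod_const, Finset.card_univ, Fintype.card_fin,
    Finset.prod_inv_distrib, _root_.mul_comm, ← _root_.mul_assoc, inv_mul_cancel, _root_.one_mul]

theorem eff_sum {n : ℕ} (x : 𝟙_ (Over (Spec (CommRingCat.of k))) ⟶ pw k C n) :
    Eff (k := k) hdim n (cN hdim σ hσ ψ hJ n (x ≫ sumMap j n)) :=
  ⟨_, cN_sum hdim σ hσ ψ hJ j hj x⟩

theorem exists_sum {n : ℕ} {z : 𝟙_ (Over (Spec (CommRingCat.of k))) ⟶ J}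
    (h : Eff (k := k) hdim n (cN hdim σ hσ ψ hJ n z)) :
    ∃ x : 𝟙_ (Over (Spec (CommRingCat.of k))) ⟶ pw k C n, x ≫ sumMap j n = z := by
  obtain ⟨Q, hQ⟩ := h
  refine ⟨mkPt Q, iota_injective hdim J ψ hJ ?_⟩
  rw [iota_eq hdim σ hσ ψ hJ n, iota_eq hdim σ hσ ψ hJ n z, cN_sum hdim σ hσ ψ hJ j hj, hQ]
  simp [coord_mkPt]

variable [IsSeparated J.hom]

theorem pt_mem_sum {n : ℕ} (z : 𝟙_ (Over (Spec (CommRingCat.of k))) ⟶ J) :
    pt z.left ∈ Set.range (sumMap j n).left.base ↔ Eff (k := k) hdim n (cN hdim σ hσ ψ hJ n z) :=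
  (pt_mem_range_iff _ z).trans ⟨fun ⟨x, hx⟩ => hx ▸ eff_sum hdim σ hσ ψ hJ j hj x, exists_sum hdim σ hσ ψ hJ j hj⟩

theorem pt_mem_trMap {n : ℕ} (z a : 𝟙_ (Over (Spec (CommRingCat.of k))) ⟶ J) :
    pt z.left ∈ Set.range (trMap j n a).left.base ↔ Eff (k := k) hdim n (cN hdim σ hσ ψ hJ n (z * a⁻¹)) := by
  rw [pt_mem_range_iff]
  constructor
  · rintro ⟨x, rfl⟩
    rw [← Category.assoc, point_comp_transl, mul_inv_cancel_right]
    exact eff_sum hdim σ hσ ψ hJ j hj x
  · intro h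
    obtain ⟨x, hx⟩ := exists_sum hdim σ hσ ψ hJ j hj h
    exact ⟨x, by rw [← Category.assoc, hx, point_comp_transl, inv_mul_cancel_right]⟩

theorem range_trMap_subset_iff {n m : ℕ} (a b : 𝟙_ (Over (Spec (CommRingCat.of k))) ⟶ J) :
    Set.range (trMap j n a).left.base ⊆ Set.range (trMap j m b).left.base ↔
      ∀ z, Eff (k := k) hdim n (cN hdim σ hσ ψ hJ n z) → Eff (k := k) hdim m (cN hdim σ hσ ψ hJ m (z * a * b⁻¹)) := by
  constructor
  · intro h z hz
    obtain ⟨x, rfl⟩ := exists_sum hdim σ hσ ψ hJ j hj hz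
    have := h (pt_comp_mem (trMap j n a) x)
    rwa [pt_mem_trMap hdim σ hσ ψ hJ j hj, ← Category.assoc, point_comp_transl] at this
  · intro h
    refine range_subset _ (isClosed_range _) fun x => ?_
    rw [pt_mem_trMap hdim σ hσ ψ hJ j hj, ← Category.assoc, point_comp_transl]
    exact h _ (eff_sum hdim σ hσ ψ hJ j hj x)

omit hJ hj in
theorem cN_mul {ψ : (ModFun.PicDeg (C ↘ Spec (CommRingCat.of k)) 0).Hom ⊤ J} {hJ : Jac.IsJacobian (C ↘ Spec (CommRingCat.of k)) ⊤ J ψ} {m n l : ℕ} (hl : m + n = l)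
    (z t : 𝟙_ (Over (Spec (CommRingCat.of k))) ⟶ J) :
    cN hdim σ hσ ψ hJ l (z * t) = cN hdim σ hσ ψ hJ m z * cN hdim σ hσ ψ hJ n t := by
  subst hl
  simp only [cN, map_mul, pow_add, mul_inv]
  rw [_root_.mul_mul_mul_comm]

omit hj in
theorem degC_cN (n : ℕ) (z : 𝟙_ (Over (Spec (CommRingCat.of k))) ⟶ J) :
    degC k (cN hdim σ hσ ψ hJ n z) = n := by
  rw [cN, degC_mul hdim, degC_inv hdim, degC_pow hdim, degC_P hdim,
    show degC k (iota hdim J ψ hJ z) = 0 from iota_deg hdim J ψ hJ z _ (rep_inv _) (cls_rep _)]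
  ring

/-- A translate of `W^r` lies in `W^{g-1}` exactly when the translation comes from an effective class. -/
theorem forall_eff_iff {g r : ℕ} (hg : Curv2.genus k C = g) (hg1 : 1 ≤ g) (hr : r ≤ g - 1)
    (t : 𝟙_ (Over (Spec (CommRingCat.of k))) ⟶ J) :
    (∀ z, Eff (k := k) hdim r (cN hdim σ hσ ψ hJ r z) → Eff (k := k) hdim (g - 1) (cN hdim σ hσ ψ hJ (g - 1) (z * t))) ↔
      Eff (k := k) hdim (g - 1 - r) (cN hdim σ hσ ψ hJ (g - 1 - r) t) := by
  constructor
  · intro h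
    set N := cN hdim σ hσ ψ hJ (g - 1 - r) t with hN
    have hdN : degC k N = ((g - 1 - r : ℕ) : ℤ) := degC_cN hdim σ hσ ψ hJ _ t
    by_contra hne
    have h0 : h0C k N = 0 := by
      by_contra h'
      exact hne (eff_of_h0_pos hdim _ N hdN (Nat.pos_of_ne_zero h'))
    have h1 := rr hdim ⟨σ, hσ⟩ N
    rw [h0, hdN, hg] at h1
    obtain ⟨Q, hQ⟩ := exists_drop_list (k := k) hdim r (KC (k := k) hdim * N⁻¹) (by omega)
    have hEff : Eff (k := k) hdim r (cN hdim σ hσ ψ hJ r (mkPt Q ≫ sumMap j r)) := eff_sum hdim σ hσ ψ hJ j hj _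
    have h2 := h _ hEff
    rw [cN_mul hdim σ hσ (show r + (g - 1 - r) = g - 1 by omega), cN_sum hdim σ hσ ψ hJ j hj, ← hN] at h2
    simp only [coord_mkPt] at h2
    have h3 := h2.h0_pos hdim ⟨σ, hσ⟩
    have h4 := rr hdim ⟨σ, hσ⟩ ((∏ i, P hdim (Q i))⁻¹ * N)
    rw [h2.deg hdim, hg, mul_inv, inv_inv,
      show KC (k := k) hdim * ((∏ i, P hdim (Q i)) * N⁻¹) = KC (k := k) hdim * N⁻¹ * ∏ i, P hdim (Q i) by
        rw [_root_.mul_comm (∏ i, P hdim (Q i)), _root_.mul_assoc]] at h4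
    omega
  · intro h z hz
    rw [cN_mul hdim σ hσ (show r + (g - 1 - r) = g - 1 by omega)]
    exact hz.mul hdim h (by omega)

end Sums

end Groth.Agent.JacPts22
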