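import Groth.Agent.Lib.JacPts22.GoodPoint
import Groth.Agent.Lib.IsQuot25.Desc
import Groth.Agent.S11992

/-!
# The Albanese property of the Jacobian
-/

set_option autoImplicit false
set_option linter.style.haveILetI false
set_option linter.unusedSectionVars false
set_option backward.isDefEq.respectTransparency false
set_option backward.isDefEq.respectTransparency.types false
set_option maxHeartbeats 1000000

universe u

open CategoryTheory CategoryTheory.Limits AlgebraicGeometry TopologicalSpace Opposite MonoidalCategory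
  CartesianMonoidalCategory MonObj

noncomputable section

namespace Groth.Agent.JacPts22

open Groth.Agent.Abel10 (pc pc_comp pc_id)
open Groth.Agent.Abel10 Groth.Agent.PicRep20
open Groth.Agent.PicDesc21 (isInvertibleCl_pull)

noncomputable local instance instLawAlbanese (Y : Scheme.{u}) : PicGrp.Law Y := M2.law Y

variable {k : Type u} [Field k] {C : Scheme.{u}} [C.Over (Spec (CommRingCat.of k))]
  [IsProper (C ↘ Spec (CommRingCat.of k))] [Smooth (C ↘ Spec (CommRingCat.of k))]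
  [GeometricallyConnected (C ↘ Spec (CommRingCat.of k))] [IsIntegral C]
  [GeometricallyIrreducible (C ↘ Spec (CommRingCat.of k))]
  (hdim : topologicalKrullDim C = 1)
  {σ : Spec (CommRingCat.of k) ⟶ C} (hσ : σ ≫ (C ↘ Spec (CommRingCat.of k)) = 𝟙 _)
  {J : Over (Spec (CommRingCat.of k))} [GrpObj J] [IsCommMonObj J]
  {ψ : (ModFun.PicDeg (C ↘ Spec (CommRingCat.of k)) 0).Hom ⊤ J}
  (hJ : Jac.IsJacobian (C ↘ Spec (CommRingCat.of k)) ⊤ J ψ)
  (j : Over.mk (C ↘ Spec (CommRingCat.of k)) ⟶ J)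
  (hj : Jac.IsAbelJacobiAt (C ↘ Spec (CommRingCat.of k)) σ ψ j)

include hdim hσ hJ hj

/-- A map to an abelian variety extends from the power of the curve to the Jacobian. -/
theorem exists_sumMap_factor {A : Over (Spec (CommRingCat.of k))} [GrpObj A] [IsCommMonObj A]
    [IsProper A.hom] [GeometricallyIntegral A.hom] (φ : Over.mk (C ↘ Spec (CommRingCat.of k)) ⟶ A) :
    ∃ χ : J ⟶ A, sumMap j (Curv2.genus k C) ≫ χ = sumMap φ (Curv2.genus k C) := by
  obtain ⟨-, -, -, ξ, hξ, hψ⟩ := exists_fine _ hdim σ hσ J ψ hJ.coarse.2.1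
  obtain ⟨hJp, hJs, hJg⟩ := jacobian_props hdim σ hσ hJ
  haveI := hJp
  haveI := hJs
  haveI := hJg
  have hsurj := surjective_sumMap hdim σ hσ hJ j hj
  obtain ⟨hP, LA, hLA, hAJ, hLj⟩ := id hj
  have hgood := exists_good_point hdim σ hσ hAJ
  set g := Curv2.genus k C with hgdef
  haveI := geometricallyIntegral_pw (k := k) (C := C) g
  haveI : IsIntegral (pw k C g).left := GeometricallyIntegral.isIntegral_of_subsingleton (pw k C g).hom
  haveI := CurveCartier25.smoothOfRelativeDimension_one (C ↘ Spec (CommRingCat.of k)) hdim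
  have hcurve : Curve.IsSmoothProperCurve k C (C ↘ Spec (CommRingCat.of k)) := ⟨‹_›, ‹_›, ‹_›, hdim⟩
  -- the Hilbert scheme and the tautological map
  obtain ⟨H, Z, hZ, hHp, -⟩ := S1170.result k C (C ↘ Spec (CommRingCat.of k)) hcurve g
  obtain ⟨Φ, hΦ, -⟩ := hZ _ (SymCurve14.powObj (C ↘ Spec (CommRingCat.of k)) g)
  have hsym := SymCurve14.isSymProd_classify (C ↘ Spec (CommRingCat.of k))
    (fun e => let ⟨H', Z', hZ', _⟩ := S1170.result k C (C ↘ Spec (CommRingCat.of k)) hcurve e; ⟨H', Z', hZ'⟩)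
    g H Z hZ Φ hΦ
  obtain ⟨Φφ, hΦφ, -⟩ := IsQuot25.desc_unique hsym.isQuot (sumMap φ g).left fun e => by
    rw [SymProd.permActU_hom]
    exact perm_comp_sumMap φ g e.down
  -- the inverse of the universal ideal
  haveI := PicRep20.smoothOfRelativeDimension_proj (C ↘ Spec (CommRingCat.of k)) hdim H
  have hE : BlowUp.IsEffCartierIdeal Z.1 :=
    ((S1184.result (PicF.XTproj (C ↘ Spec (CommRingCat.of k)) H) Z.1).2 Z.2.1).1
  obtain ⟨L, hL, ⟨eL⟩⟩ := M2.exists_inverse (M2.isInvertible_idealMod _ hE)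
  obtain ⟨s, hs⟩ := exists_locEq hE hL (M2.tensorComm _ _ ≪≫ eL)
  -- the classes
  let Λ : PicLoc.PicSet (PicF.XT (C ↘ Spec (CommRingCat.of k)) J) :=
    ξ * (pc (pullback.fst (C ↘ Spec (CommRingCat.of k)) J.hom) (Abel10.ptCls hdim σ hσ) ^ g)⁻¹
  let a : Fin g → PicLoc.PicSet (PicF.XT (C ↘ Spec (CommRingCat.of k)) (pw k C g)) := fun i =>
    pc (PicF.XTmap (C ↘ Spec (CommRingCat.of k)) (prj (k := k) (C := C) i)) (PicRep20.famCls _ 0 hLA)
  have hda : ∀ i t, PicTan20.degCl (C ↘ Spec (CommRingCat.of k)) (pw k C g) t (a i).1 = 0 := fun i t =>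
    (PicTan20.degCl_pull _ (prj (k := k) (C := C) i) t (PicRep20.famCls _ 0 hLA).2).trans (degCl_famCls _ hdim 0 hLA _)
  have hdp : ∀ t, PicTan20.degCl (C ↘ Spec (CommRingCat.of k)) (pw k C g) t (∏ i, a i).1 = 0 := fun t =>
    Finset.prod_induction a (fun c => PicTan20.degCl (C ↘ Spec (CommRingCat.of k)) (pw k C g) t c.1 = 0)
      (fun c c' h h' => by
        show PicTan20.degCl _ _ t (c * c').1 = 0
        rw [PicTan20.degCl_mul _ (fiber_dim _ hdim), h, h']; rfl)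
      (deg_one₀ hdim t) (fun i _ => hda i t)
  obtain ⟨m, hm⟩ := classify_spec hξ (∏ i, a i) hdp
  have hsum : classify hξ (∏ i, a i) hdp = sumMap j g := by
    rw [classify_prod hdim hξ hψ hJ a hda, sumMap, List.prod_ofFn]
    refine Finset.prod_congr rfl fun i _ => ?_
    exact comp_abel hdim hξ hψ hLA hLj (prj i) _
  rw [hsum] at hm
  have hℓ : pc (PicF.XTmap (C ↘ Spec (CommRingCat.of k)) Φ) (PicGrp.cls L hL) =
      pc (PicF.XTmap (C ↘ Spec (CommRingCat.of k)) (sumMap j g)) Λ *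
        pc (PicF.XTproj (C ↘ Spec (CommRingCat.of k)) (pw k C g)) m := by
    rw [pc_classify_pow hdim σ hσ hAJ Z hL hs Φ hΦ]
    simp only [Λ, map_mul, map_inv, map_pow,
      pc_comp _ _ (HilbBC25.XTmap_fst (C ↘ Spec (CommRingCat.of k)) (sumMap j g))]
    rw [mul_right_comm]
    refine congrArg (· * _) ?_
    exact hm
  -- the open set of the Jacobian where the class has no first cohomology
  let O : J.left.Opens :=
    ⟨_, isOpen_good (C ↘ Spec (CommRingCat.of k)) (fun t => (fiber_dim _ hdim t).le) J Λ.2 g⟩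
  have hO : ∃ q : J.left, q ∈ O := by
    obtain ⟨p, hp1, hp2⟩ := hgood
    refine ⟨(sumMap j g).left p, ?_⟩
    rw [← pc_classify_pow hdim σ hσ hAJ Z hL hs Φ hΦ, hℓ] at hp1 hp2
    have ht := fibre_twist (C ↘ Spec (CommRingCat.of k)) p
      (pc (PicF.XTmap (C ↘ Spec (CommRingCat.of k)) (sumMap j g)) Λ).2 m.2
    show _ ∧ _
    rw [← PicTan20.degCl_pull (C ↘ Spec (CommRingCat.of k)) (sumMap j g) p Λ.2,
      ← h1Cl_pull (C ↘ Spec (CommRingCat.of k)) (sumMap j g) p Λ.2]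
    exact ⟨ht.1.symm.trans hp1, ht.2.symm.trans hp2⟩
  obtain ⟨q₀, hq₀⟩ := hO
  let jO : AbDual.ovr J O.ι ⟶ J := AbDual.ovrHom J O.ι
  let c := PicF.pullCl (PicF.XTmap (C ↘ Spec (CommRingCat.of k)) jO) Λ.1
  have hc : PicF.IsInvertibleCl c := isInvertibleCl_pull _ Λ.2
  have hcgood : PicRep20.Good (C ↘ Spec (CommRingCat.of k)) (AbDual.ovr J O.ι) g c := fun v => by
    rw [PicTan20.degCl_pull _ jO v Λ.2, h1Cl_pull _ jO v Λ.2]
    exact v.2
  obtain ⟨U, b₀, hqU, hb₀⟩ := exists_local (C ↘ Spec (CommRingCat.of k)) hdim hgdef.symm Z hL hs hZ hc hcgood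
    (⟨q₀, hq₀⟩ : O.toScheme)
  let wU : AbDual.ovr (AbDual.ovr J O.ι) U.ι ⟶ AbDual.ovr J O.ι := AbDual.ovrHom _ U.ι
  let ι₀ : U.toScheme ⟶ J.left := U.ι ≫ O.ι
  let U' : J.left.Opens := ι₀.opensRange
  have hU' : (U' : Set J.left).Nonempty := ⟨ι₀ ⟨_, hqU⟩, ⟨_, rfl⟩⟩
  let e₀ : U.toScheme ≅ U'.toScheme := ι₀.isoOpensRange
  have he₀ : e₀.inv ≫ ι₀ = U'.ι := Scheme.Hom.isoOpensRange_inv_comp ι₀
  -- the rational map extends
  have hΦA : Φφ ≫ A.hom = H.hom := IsQuot25.hom_ext hsym.isQuot (by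
    rw [reassoc_of% hΦφ]
    exact (Over.w (sumMap φ g)).trans (Over.w Φ).symm)
  obtain ⟨χ₀, hχA, hχU⟩ := S11992.result k J.left J.hom A U' hU' (e₀.inv ≫ b₀.left ≫ Φφ) (by
    rw [Category.assoc, Category.assoc, hΦA, show b₀.left ≫ H.hom = ι₀ ≫ J.hom from
      (Over.w b₀).trans (Category.assoc _ _ _).symm, ← Category.assoc, he₀])
  refine ⟨Over.homMk χ₀ hχA, ?_⟩
  -- compare on a dense open of the power
  obtain ⟨z₀, hz₀⟩ := hsurj (ι₀ ⟨_, hqU⟩)
  obtain ⟨Um, hzm, hUm⟩ := exists_open_trivial m.2 z₀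
  let V : (pw k C g).left.Opens := (sumMap j g).left ⁻¹ᵁ U' ⊓ Um
  have hzV : z₀ ∈ V := ⟨⟨⟨_, hqU⟩, hz₀.symm⟩, hzm⟩
  let W := AbDual.ovr (pw k C g) V.ι
  let w : W ⟶ pw k C g := AbDual.ovrHom (pw k C g) V.ι
  have hr : Set.range (V.ι ≫ (sumMap j g).left) ⊆ Set.range ι₀ := by
    rintro _ ⟨y, rfl⟩
    exact y.2.1
  let l : V.toScheme ⟶ U.toScheme := IsOpenImmersion.lift ι₀ (V.ι ≫ (sumMap j g).left) hr
  have hl : l ≫ ι₀ = V.ι ≫ (sumMap j g).left := IsOpenImmersion.lift_fac _ _ _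
  let b : W ⟶ AbDual.ovr (AbDual.ovr J O.ι) U.ι := Over.homMk l (by
    show l ≫ U.ι ≫ O.ι ≫ J.hom = V.ι ≫ (pw k C g).hom
    rw [← Over.w (sumMap j g), ← Category.assoc U.ι, show (U.ι ≫ O.ι) = ι₀ from rfl, ← Category.assoc l, hl,
      Category.assoc])
  have hb : b ≫ wU ≫ jO = w ≫ sumMap j g := Over.OverMorphism.ext hl
  have hVm : PicF.IsTrivialCl (PicF.pullCl w.left m.1) := by
    have h1 := PicDesc21.pullCl_trivial ((pw k C g).left.homOfLE (inf_le_right : V ≤ Um)) hUm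
    rw [PicDesc21.pullCl_pullCl, Scheme.homOfLE_ι] at h1
    exact h1
  have e2 : PicF.pullCl (PicF.XTmap (C ↘ Spec (CommRingCat.of k)) (b ≫ b₀)) (PicF.cl L) =
      PicF.pullCl (PicF.XTmap (C ↘ Spec (CommRingCat.of k)) (w ≫ sumMap j g)) Λ.1 := by
    rw [← RigDesc22.pullCl_XTmap, hb₀, RigDesc22.pullCl_XTmap, RigDesc22.pullCl_XTmap, Category.assoc]
    rw [show b ≫ AbDual.ovrHom (AbDual.ovr J O.ι) U.ι ≫ jO = w ≫ sumMap j g from hb]
  have e1 : PicF.pullCl (PicF.XTmap (C ↘ Spec (CommRingCat.of k)) (w ≫ Φ)) (PicF.cl L) =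
      PicF.pullCl (PicF.XTmap (C ↘ Spec (CommRingCat.of k)) (w ≫ sumMap j g)) Λ.1 := by
    rw [← RigDesc22.pullCl_XTmap, ← RigDesc22.pullCl_XTmap (C ↘ Spec (CommRingCat.of k)) w (sumMap j g),
      show PicF.pullCl (PicF.XTmap (C ↘ Spec (CommRingCat.of k)) Φ) (PicF.cl L) = _ from congrArg Subtype.val hℓ]
    exact pull_twist (C ↘ Spec (CommRingCat.of k)) w _ hVm
  have hg2 : PicRep20.Good (C ↘ Spec (CommRingCat.of k)) W g
      (PicF.pullCl (PicF.XTmap (C ↘ Spec (CommRingCat.of k)) (b ≫ b₀)) (PicF.cl L)) := by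
    have h0 := PicRep20.Good.pull _ b (isInvertibleCl_pull _ hc) (PicRep20.Good.pull _ wU hc hcgood)
    rw [← RigDesc22.pullCl_XTmap, hb₀]
    exact h0
  have hab : w ≫ Φ = b ≫ b₀ :=
    eq_of_pull_eq (C ↘ Spec (CommRingCat.of k)) hdim hgdef.symm Z hL hs hZ (e1.trans e2.symm) hg2
  have hab' : V.ι ≫ Φ.left = l ≫ b₀.left := congrArg CommaMorphism.left hab
  have hχ₀ : ι₀ ≫ χ₀ = b₀.left ≫ Φφ := by
    rw [← cancel_epi e₀.inv, ← Category.assoc, he₀, hχU]
  haveI : IsDominant V.ι := ⟨by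
    rw [DenseRange, Scheme.Opens.range_ι]
    exact V.isOpen.dense ⟨z₀, hzV⟩⟩
  refine Over.OverMorphism.ext ?_
  refine ext_of_isDominant_of_isSeparated A.hom ((Over.w _).trans (Over.w _).symm) V.ι ?_
  show V.ι ≫ (sumMap j g).left ≫ χ₀ = _
  rw [← reassoc_of% hl, hχ₀, ← reassoc_of% hab', hΦφ]

/-- The Abel map sends the base point to the origin. -/
theorem base_comp_abel :
    (Over.homMk σ hσ : 𝟙_ (Over (Spec (CommRingCat.of k))) ⟶ Over.mk (C ↘ Spec (CommRingCat.of k))) ≫ j = 1 := by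
  obtain ⟨-, -, -, ξ, hξ, hψ⟩ := exists_fine _ hdim σ hσ J ψ hJ.coarse.2.1
  obtain ⟨hP, LA, hLA, hAJ, hLj⟩ := id hj
  let U₀ : Over (Spec (CommRingCat.of k)) := 𝟙_ (Over (Spec (CommRingCat.of k)))
  let y : U₀ ⟶ Over.mk (C ↘ Spec (CommRingCat.of k)) := Over.homMk σ hσ
  obtain ⟨hG, hGc⟩ := cls_secGraph hdim σ hσ hAJ y
  haveI : IsIso U₀.hom := inferInstanceAs (IsIso (𝟙 (Spec (CommRingCat.of k))))
  haveI : IsIso (pullback.fst (C ↘ Spec (CommRingCat.of k)) U₀.hom) := inferInstance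
  haveI := CurvePts22.isClosedImmersion_of_section σ hσ
  let q : U₀.left ⟶ PicF.XT (C ↘ Spec (CommRingCat.of k)) U₀ :=
    pullback.lift y.left (𝟙 U₀.left) (by rw [Category.id_comp]; exact Over.w y)
  haveI : IsSeparated (PicF.XTproj (C ↘ Spec (CommRingCat.of k)) U₀) :=
    inferInstanceAs (IsSeparated (pullback.snd (C ↘ Spec (CommRingCat.of k)) U₀.hom))
  haveI : IsClosedImmersion q :=
    CurveCartier25.isClosedImmersion_section (PicF.XTproj (C ↘ Spec (CommRingCat.of k)) U₀) q (pullback.lift_snd _ _ _)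
  have sq : IsPullback (𝟙 U₀.left) q σ (pullback.fst (C ↘ Spec (CommRingCat.of k)) U₀.hom) :=
    IsPullback.of_horiz_isIso ⟨(Category.id_comp _).trans (pullback.lift_fst _ _ _).symm⟩
  obtain ⟨D, hD, ⟨eD⟩⟩ := M2.exists_inverse (Abel10.isInvertible_point hdim σ hσ)
  obtain ⟨θ, hθ⟩ := exists_locEq (isEffCartierIdeal_point hdim σ hσ) hD (M2.tensorComm _ _ ≪≫ eD)
  have h1 : pc (pullback.fst (C ↘ Spec (CommRingCat.of k)) U₀.hom) (PicGrp.cls D hD) =
      (PicGrp.cls _ (M2.isInvertible_idealMod _ hG))⁻¹ := by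
    rw [pc, PicGrp.pullHom_cls]
    exact eq_inv_of_mul_eq_one_left ((PicGrp.cls_mul_cls_eq_one_iff _ _).2
      (nonempty_iso_of_locEq hG (PicLoc.isInvertible_pullback _ hD) (hθ.pullback sq)))
  have h2 : Abel10.ptCls hdim σ hσ * PicGrp.cls D hD = 1 := (PicGrp.cls_mul_cls_eq_one_iff _ _).2 ⟨eD⟩
  have h3 := congrArg (pc (pullback.fst (C ↘ Spec (CommRingCat.of k)) U₀.hom)) h2
  rw [map_mul, map_one, h1, mul_inv_eq_one] at h3
  rw [← h3] at hGc
  erw [_root_.mul_eq_right] at hGc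
  show y ≫ j = 1
  have hd : ∀ t, PicTan20.degCl (C ↘ Spec (CommRingCat.of k)) U₀ t
      (pc (PicF.XTmap _ y) (PicRep20.famCls _ 0 hLA)).1 = 0 := fun t =>
    (PicTan20.degCl_pull _ y t (PicRep20.famCls _ 0 hLA).2).trans (degCl_famCls _ hdim 0 hLA _)
  rw [← comp_abel hdim hξ hψ hLA hLj y hd]
  exact (classify_congr hξ hGc hd (deg_one₀ hdim)).trans (classify_one hdim hξ hψ hJ _)

/-- The Albanese property. -/
theorem exists_albanese {A : Over (Spec (CommRingCat.of k))} [GrpObj A] [IsCommMonObj A]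
    [IsProper A.hom] [GeometricallyIntegral A.hom] (hg : 0 < Curv2.genus k C)
    (φ : Over.mk (C ↘ Spec (CommRingCat.of k)) ⟶ A) (hφ : σ ≫ φ.left = η[A].left) :
    ∃ χ : J ⟶ A, IsMonHom χ ∧ j ≫ χ = φ := by
  obtain ⟨χ, hχ⟩ := exists_sumMap_factor hdim hσ hJ j hj φ
  obtain ⟨hJp, -, hJg⟩ := jacobian_props hdim σ hσ hJ
  haveI := hJp
  haveI := hJg
  obtain ⟨n, hn⟩ : ∃ n, Curv2.genus k C = n + 1 := ⟨_, (Nat.succ_pred_eq_of_pos hg).symm⟩
  rw [hn] at hχ
  let σ' : 𝟙_ (Over (Spec (CommRingCat.of k))) ⟶ Over.mk (C ↘ Spec (CommRingCat.of k)) := Over.homMk σ hσ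
  let X : Over (Spec (CommRingCat.of k)) := Over.mk (C ↘ Spec (CommRingCat.of k))
  let x : Fin (n + 1) → (X ⟶ X) := Fin.cons (𝟙 X) fun _ => toUnit X ≫ σ'
  let emb : X ⟶ pw k C (n + 1) :=
    Over.homMk (WidePullback.lift X.hom (fun i => (x i).left) fun i => Over.w (x i)) (WidePullback.lift_base _ _ _ _)
  have hι : ∀ i, emb ≫ prj i = x i := fun i => Over.OverMorphism.ext (WidePullback.lift_π _ _ _ _ i)
  have key : ∀ {B : Over (Spec (CommRingCat.of k))} [GrpObj B] [IsCommMonObj B] (θ : X ⟶ B),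
      σ' ≫ θ = 1 → emb ≫ sumMap θ (n + 1) = θ := by
    intro B _ _ θ hθ
    rw [comp_list_prod, List.map_ofFn, List.prod_ofFn, Fin.prod_univ_succ]
    have h0 : (((emb ≫ ·) : (pw k C (n + 1) ⟶ B) → _) ∘ fun i => prj i ≫ θ) = fun i => x i ≫ θ :=
      funext fun i => by rw [Function.comp_apply, ← Category.assoc, hι]
    rw [h0]
    simp only [x, Fin.cons_zero, Fin.cons_succ, Category.id_comp, Category.assoc, hθ, MonObj.comp_one,
      Finset.prod_const_one, _root_.mul_one]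
  have hφ1 : σ' ≫ φ = 1 := by
    rw [← one_eq_one]
    exact Over.OverMorphism.ext hφ
  have hj1 : σ' ≫ j = 1 := base_comp_abel hdim hσ hJ j hj
  have hjχ : j ≫ χ = φ := by
    rw [← key j hj1, Category.assoc, hχ, key φ hφ1]
  refine ⟨χ, AbRigid.isMonHom_of_one J A χ ?_, hjχ⟩
  rw [one_eq_one, one_eq_one, ← hj1, Category.assoc, hjχ, hφ1]

end Groth.Agent.JacPts22
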