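import Groth.Agent.Lib.JacPts22.Albanese
import Groth.Agent.S3239

/-!
# Every pointed curve has a Jacobian
-/

set_option autoImplicit false
set_option linter.style.haveILetI false
set_option linter.unusedSectionVars false
set_option backward.isDefEq.respectTransparency false
set_option backward.isDefEq.respectTransparency.types false
set_option maxHeartbeats 1000000

universe u

open CategoryTheory CategoryTheory.Limits AlgebraicGeometry TopologicalSpace Opposite MonoidalCategory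
  CartesianMonoidalCategory MonObj

noncomputable section

namespace Groth.Agent.JacPts22

open Groth.Agent.Abel10 (pc pc_comp pc_id)
open Groth.Agent.Abel10 Groth.Agent.PicRep20

noncomputable local instance instLawCurveJacobian (Y : Scheme.{u}) : PicGrp.Law Y := M2.law Y

variable {k : Type u} [Field k] {C : Scheme.{u}} [C.Over (Spec (CommRingCat.of k))]
  [IsProper (C ↘ Spec (CommRingCat.of k))] [Smooth (C ↘ Spec (CommRingCat.of k))]
  [GeometricallyConnected (C ↘ Spec (CommRingCat.of k))] [IsIntegral C]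
  [GeometricallyIrreducible (C ↘ Spec (CommRingCat.of k))]
  (hdim : topologicalKrullDim C = 1)
  (σ : Spec (CommRingCat.of k) ⟶ C) (hσ : σ ≫ (C ↘ Spec (CommRingCat.of k)) = 𝟙 _)

/-- An irreducible smooth scheme has the dimension of its tangent space at a rational point. -/
theorem topologicalKrullDim_eq_of_point {k : Type u} [Field k] {X : Scheme.{u}} [X.Over (Spec (CommRingCat.of k))]
    [Smooth (X ↘ Spec (CommRingCat.of k))] [IsSeparated (X ↘ Spec (CommRingCat.of k))] [IrreducibleSpace X] (d : ℕ)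
    (a : Spec (CommRingCat.of k) ⟶ X) (ha : a ≫ (X ↘ Spec (CommRingCat.of k)) = 𝟙 _)
    (h : Module.finrank (IsLocalRing.ResidueField (X.presheaf.stalk (a (IsLocalRing.closedPoint k))))
        (IsLocalRing.CotangentSpace (X.presheaf.stalk (a (IsLocalRing.closedPoint k)))) = d) :
    topologicalKrullDim X = (d : WithBot ℕ∞) := by
  let f := X ↘ Spec (CommRingCat.of k)
  haveI : JacobsonSpace X := LocallyOfFiniteType.jacobsonSpace f
  haveI : IsLocallyNoetherian X := LocallyOfFiniteType.isLocallyNoetherian f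
  have hac : IsClosed ({a (IsLocalRing.closedPoint k)} : Set X) := by
    haveI := CurvePts22.isClosedImmersion_of_section a ha
    have h0 : Set.range a = {a (IsLocalRing.closedPoint k)} := by
      haveI : Subsingleton (Spec (CommRingCat.of k)) := inferInstanceAs (Subsingleton (PrimeSpectrum k))
      exact Set.eq_singleton_iff_unique_mem.2 ⟨⟨_, rfl⟩, by rintro _ ⟨y, rfl⟩; rw [Subsingleton.elim y]⟩
    rw [← h0]
    exact a.isClosedEmbedding.isClosed_range
  have hcl : ∀ z : X, IsClosed ({z} : Set X) → ringKrullDim (X.presheaf.stalk z) = (d : WithBot ℕ∞) := by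
    intro z hz
    obtain ⟨n, V, hzV, hn⟩ := PicTan20.exists_relDim_nhd (k := k) z
    obtain ⟨n', V', haV, hn'⟩ := PicTan20.exists_relDim_nhd (k := k) (a (IsLocalRing.closedPoint k))
    have hdim : ∀ (m : ℕ) (W : X.Opens), SmoothOfRelativeDimension m (W.ι ≫ f) →
        ∀ w : X, w ∈ W → IsClosed ({w} : Set X) → ringKrullDim (X.presheaf.stalk w) = m := fun m W hm w hw hwc => by
      haveI := hm
      rw [← ringKrullDim_eq_of_ringEquiv (W.stalkIso ⟨w, hw⟩).commRingCatIsoToRingEquiv]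
      refine SmDim19.ringKrullDim_stalk_of_isClosed (W.ι ≫ f) m ?_
      have : IsClosed (W.ι ⁻¹' {w} : Set W) := hwc.preimage W.ι.continuous
      convert this
      ext v
      exact ⟨fun hv => by rw [Set.mem_singleton_iff] at hv; subst hv; rfl,
        fun hv => Subtype.ext hv⟩
    haveI := WeilExt.isRegularLocalRing_stalk_of_smooth f (a (IsLocalRing.closedPoint k))
    have h1 := (IsRegularLocalRing.iff_finrank_cotangentSpace _).1
      (inferInstance : IsRegularLocalRing (X.presheaf.stalk (a (IsLocalRing.closedPoint k))))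
    rw [h, hdim n' V' hn' _ haV hac] at h1
    obtain ⟨w, hw, hwc⟩ := nonempty_inter_closedPoints (Z := (V : Set X) ∩ V')
      (nonempty_preirreducible_inter V.isOpen V'.isOpen ⟨z, hzV⟩ ⟨_, haV⟩) (V.isOpen.inter V'.isOpen).isLocallyClosed
    rw [hdim n V hn z hzV hz, ← hdim n V hn w hw.1 hwc, hdim n' V' hn' w hw.2 hwc]
    exact h1.symm
  have hdim : topologicalKrullDim X = Order.krullDim X := by
    rw [VarDim.scheme_dim_eq_iSup_height, Order.krullDim_eq_iSup_height]
  rw [hdim, Order.krullDim_eq_iSup_coheight]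
  refine le_antisymm (iSup_le fun x => ?_) ?_
  · obtain ⟨z, hz, hzc⟩ := nonempty_inter_closedPoints (Z := closure ({x} : Set X))
      ⟨x, subset_closure rfl⟩ isClosed_closure.isLocallyClosed
    refine le_trans (WithBot.coe_le_coe.2 (Order.coheight_anti (Scheme.le_iff_specializes.2 (specializes_iff_mem_closure.2 hz)))) ?_
    rw [← ringKrullDim_stalk_eq_coheight, hcl z hzc]
  · refine le_trans ?_ (le_iSup (fun y : X => ((Order.coheight y : ℕ∞) : WithBot ℕ∞)) (a (IsLocalRing.closedPoint k)))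
    rw [← ringKrullDim_stalk_eq_coheight, hcl _ hac]

section Points

variable {J : Over (Spec (CommRingCat.of k))}
  {ξ : PicLoc.PicSet (PicF.XT (C ↘ Spec (CommRingCat.of k)) J)}
  (hξ : IsUnivClass (C ↘ Spec (CommRingCat.of k)) 0 J ξ)

/-- Points of the representing scheme are normalised classes of degree zero. -/
def clsEquiv (T : Over (Spec (CommRingCat.of k))) :
    (T ⟶ J) ≃ zeroSub (f := C ↘ Spec (CommRingCat.of k)) (σ := σ) (hσ := hσ) hdim T where
  toFun g := ⟨toPic (normCls σ hσ (pc (PicF.XTmap _ g) ξ)), toPic_rig _, fun t => (degCl_normCls _ t).trans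
    ((PicTan20.degCl_pull _ g t ξ.2).trans (hξ.1 _))⟩
  invFun c := classify hξ c.1 c.2.2
  left_inv g := (eq_classify hξ _ _ g (m := (pc (PicF.secT _ σ hσ T) (pc (PicF.XTmap _ g) ξ))⁻¹) rfl).symm
  right_inv c := by
    refine Subtype.ext ?_
    obtain ⟨m, hm⟩ := classify_spec hξ c.1 c.2.2
    show pc (PicF.XTmap _ (classify hξ c.1 c.2.2)) ξ *
      pc (PicF.XTproj _ T) (pc (PicF.secT _ σ hσ T) (pc (PicF.XTmap _ (classify hξ c.1 c.2.2)) ξ))⁻¹ = c.1
    generalize pc (PicF.XTmap _ (classify hξ c.1 c.2.2)) ξ = b at hm ⊢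
    have h := c.2.1
    rw [hm, map_mul, pc_secT_proj] at h
    rw [inv_eq_of_mul_eq_one_right h, hm]

theorem clsEquiv_comp {T T' : Over (Spec (CommRingCat.of k))} (g : T' ⟶ T) (a : T ⟶ J) :
    (clsEquiv hdim σ hσ hξ T' (g ≫ a)).1 = pc (PicF.XTmap _ g) (clsEquiv hdim σ hσ hξ T a).1 := by
  show pc (PicF.XTmap _ (g ≫ a)) ξ * pc (PicF.XTproj _ T') (pc (PicF.secT _ σ hσ T') (pc (PicF.XTmap _ (g ≫ a)) ξ))⁻¹ =
    pc (PicF.XTmap _ g) (pc (PicF.XTmap _ a) ξ * pc (PicF.XTproj _ T) (pc (PicF.secT _ σ hσ T) (pc (PicF.XTmap _ a) ξ))⁻¹)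
  rw [map_mul, pc_proj_map, map_inv (pc g.left), ← pc_secT_map, pc_comp _ _ (HilbBC25.XTmap_comp _ g a).symm]

/-- The functor of points with its group law. -/
def clsFunctor : (Over (Spec (CommRingCat.of k)))ᵒᵖ ⥤ GrpCat.{u} where
  obj T := @GrpCat.of (T.unop ⟶ J) (clsEquiv hdim σ hσ hξ T.unop).group
  map {T T'} g :=
    letI := (clsEquiv hdim σ hσ hξ T.unop).group
    letI := (clsEquiv hdim σ hσ hξ T'.unop).group
    GrpCat.ofHom (MonoidHom.mk' (fun a => g.unop ≫ a) fun a b => by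
      refine (clsEquiv hdim σ hσ hξ T'.unop).injective (Subtype.ext ?_)
      show (clsEquiv hdim σ hσ hξ T'.unop (g.unop ≫ (clsEquiv hdim σ hσ hξ T.unop).symm
          (clsEquiv hdim σ hσ hξ T.unop a * clsEquiv hdim σ hσ hξ T.unop b))).1 =
        (clsEquiv hdim σ hσ hξ T'.unop ((clsEquiv hdim σ hσ hξ T'.unop).symm
          (clsEquiv hdim σ hσ hξ T'.unop (g.unop ≫ a) * clsEquiv hdim σ hσ hξ T'.unop (g.unop ≫ b)))).1
      rw [clsEquiv_comp, Equiv.apply_symm_apply, Equiv.apply_symm_apply]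
      push_cast
      rw [map_mul, clsEquiv_comp, clsEquiv_comp])
  map_id T := by
    apply GrpCat.ext
    exact fun a => Category.id_comp a
  map_comp g h := by
    apply GrpCat.ext
    exact fun a => Category.assoc h.unop g.unop a

/-- The group law. -/
@[implicit_reducible]
def clsGrpObj : GrpObj J :=
  GrpObj.ofRepresentableBy J (clsFunctor hdim σ hσ hξ)
    { homEquiv := fun {T} => Equiv.refl (T ⟶ J)
      homEquiv_comp := fun _ _ => rfl }

theorem clsEquiv_mul {T : Over (Spec (CommRingCat.of k))} (a b : T ⟶ J) :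
    letI := clsGrpObj hdim σ hσ hξ
    (clsEquiv hdim σ hσ hξ T (a * b)).1 = (clsEquiv hdim σ hσ hξ T a).1 * (clsEquiv hdim σ hσ hξ T b).1 := by
  letI := clsGrpObj hdim σ hσ hξ
  have hμ : (clsEquiv hdim σ hσ hξ (J ⊗ J) μ[J]).1 =
      (clsEquiv hdim σ hσ hξ (J ⊗ J) (fst J J)).1 * (clsEquiv hdim σ hσ hξ (J ⊗ J) (snd J J)).1 := by
    show (clsEquiv hdim σ hσ hξ (J ⊗ J) ((clsEquiv hdim σ hσ hξ (J ⊗ J)).symm
      (clsEquiv hdim σ hσ hξ (J ⊗ J) (fst J J) * clsEquiv hdim σ hσ hξ (J ⊗ J) (snd J J)))).1 = _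
    rw [Equiv.apply_symm_apply]
    rfl
  rw [Hom.mul_def, clsEquiv_comp, hμ, map_mul, ← clsEquiv_comp, ← clsEquiv_comp, lift_fst, lift_snd]

theorem isCommMonObj_cls : letI := clsGrpObj hdim σ hσ hξ; IsCommMonObj J := by
  letI := clsGrpObj hdim σ hσ hξ
  constructor
  refine (clsEquiv hdim σ hσ hξ _).injective (Subtype.ext ?_)
  have h : ∀ x y : J ⊗ J ⟶ J, x * y = y * x := fun x y =>
    (clsEquiv hdim σ hσ hξ _).injective (Subtype.ext (by rw [clsEquiv_mul, clsEquiv_mul, _root_.mul_comm]))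
  have e1 : (β_ J J).hom ≫ μ[J] = snd J J * fst J J := by
    rw [Hom.mul_def]
    congr 1
  have e2 : μ[J] = fst J J * snd J J := by
    rw [Hom.mul_def, lift_fst_snd, Category.id_comp]
  rw [e1, h]
  exact congrArg (fun x => ((clsEquiv hdim σ hσ hξ (J ⊗ J)) x).1) e2.symm

end Points

include hdim hσ

set_option maxHeartbeats 2000000 in
/-- An Abel–Jacobi family is trivial at the base point. -/
theorem pc_base_aj {L : (PicF.XT (C ↘ Spec (CommRingCat.of k)) (Over.mk (C ↘ Spec (CommRingCat.of k)))).Modules}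
    (hAJ : Jac.IsAJFamilyAt (C ↘ Spec (CommRingCat.of k)) σ L) :
    pc (PicF.XTmap (C ↘ Spec (CommRingCat.of k))
      (Over.homMk σ hσ : 𝟙_ (Over (Spec (CommRingCat.of k))) ⟶ Over.mk (C ↘ Spec (CommRingCat.of k))))
      (PicGrp.cls L hAJ.1) = 1 := by
  haveI := CurveCartier25.smoothOfRelativeDimension_one (C ↘ Spec (CommRingCat.of k)) hdim
  let f := C ↘ Spec (CommRingCat.of k)
  let U₀ : Over (Spec (CommRingCat.of k)) := 𝟙_ (Over (Spec (CommRingCat.of k)))
  let y : U₀ ⟶ Over.mk f := Over.homMk σ hσ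
  obtain ⟨hG, hGc⟩ := cls_secGraph hdim σ hσ hAJ y
  haveI : IsIso U₀.hom := inferInstanceAs (IsIso (𝟙 (Spec (CommRingCat.of k))))
  haveI := CurvePts22.isClosedImmersion_of_section σ hσ
  let q : U₀.left ⟶ PicF.XT f U₀ :=
    pullback.lift y.left (𝟙 U₀.left) (by rw [Category.id_comp]; exact Over.w y)
  haveI : IsSeparated (PicF.XTproj f U₀) := inferInstanceAs (IsSeparated (pullback.snd f U₀.hom))
  haveI : IsClosedImmersion q := CurveCartier25.isClosedImmersion_section (PicF.XTproj f U₀) q (pullback.lift_snd _ _ _)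
  have sq : IsPullback (𝟙 U₀.left) q σ (pullback.fst f U₀.hom) :=
    IsPullback.of_horiz_isIso ⟨(Category.id_comp _).trans (pullback.lift_fst _ _ _).symm⟩
  obtain ⟨D', hD', ⟨eD'⟩⟩ := M2.exists_inverse (Abel10.isInvertible_point hdim σ hσ)
  obtain ⟨θ, hθ⟩ := exists_locEq (isEffCartierIdeal_point hdim σ hσ) hD' (M2.tensorComm _ _ ≪≫ eD')
  have h1 : pc (pullback.fst f U₀.hom) (PicGrp.cls D' hD') = (PicGrp.cls _ (M2.isInvertible_idealMod _ hG))⁻¹ := by
    rw [pc, PicGrp.pullHom_cls]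
    exact eq_inv_of_mul_eq_one_left ((PicGrp.cls_mul_cls_eq_one_iff _ _).2
      (nonempty_iso_of_locEq hG (PicLoc.isInvertible_pullback _ hD') (hθ.pullback sq)))
  have h2 : Abel10.ptCls hdim σ hσ * PicGrp.cls D' hD' = 1 := (PicGrp.cls_mul_cls_eq_one_iff _ _).2 ⟨eD'⟩
  have h3 := congrArg (pc (pullback.fst f U₀.hom)) h2
  rw [map_mul, map_one, h1, mul_inv_eq_one] at h3
  rw [← h3] at hGc
  erw [_root_.mul_eq_right] at hGc
  exact hGc

/-- An Abel–Jacobi family has degree zero. -/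
theorem ok_of_aj {L : (PicF.XT (C ↘ Spec (CommRingCat.of k)) (Over.mk (C ↘ Spec (CommRingCat.of k)))).Modules}
    (hAJ : Jac.IsAJFamilyAt (C ↘ Spec (CommRingCat.of k)) σ L) :
    (ModFun.PicDeg (C ↘ Spec (CommRingCat.of k)) 0).ok _ L := by
  refine ok_of_class _ hdim 0 hAJ.1 fun t => ?_
  let f := C ↘ Spec (CommRingCat.of k)
  have hc : PicF.IsInvertibleCl (PicF.cl L) := (PicGrp.cls L hAJ.1).2
  have hlc : IsLocallyConstant fun t => PicTan20.degMod f (Over.mk f) t L :=
    PicTan20.isLocallyConstant_degMod _ (fun s => (fiber_dim _ hdim s).le) _ hAJ.1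
  haveI : IrreducibleSpace (Over.mk f).left := inferInstanceAs (IrreducibleSpace C)
  haveI : PreconnectedSpace (Over.mk f).left := PreirreducibleSpace.preconnectedSpace _
  let y : 𝟙_ (Over (Spec (CommRingCat.of k))) ⟶ Over.mk f := Over.homMk σ hσ
  have h4 := PicTan20.degCl_pull f y (IsLocalRing.closedPoint k) hc
  have h0 : PicF.pullCl (PicF.XTmap f y) (PicF.cl L) =
      (1 : PicLoc.PicSet (PicF.XT f (𝟙_ (Over (Spec (CommRingCat.of k)))))).1 :=
    congrArg Subtype.val (pc_base_aj hdim σ hσ hAJ)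
  rw [h0, deg_one₀ hdim, PicTan20.degCl_cl] at h4
  rw [PicTan20.degCl_cl]
  exact (hlc.apply_eq_of_preconnectedSpace t _).trans h4.symm

/-- An Abel–Jacobi family. -/
theorem exists_ajFamily : ∃ L : (PicF.XT (C ↘ Spec (CommRingCat.of k)) (Over.mk (C ↘ Spec (CommRingCat.of k)))).Modules,
    Jac.IsAJFamilyAt (C ↘ Spec (CommRingCat.of k)) σ L ∧
      (ModFun.PicDeg (C ↘ Spec (CommRingCat.of k)) 0).ok _ L := by
  haveI := CurveCartier25.smoothOfRelativeDimension_one (C ↘ Spec (CommRingCat.of k)) hdim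
  haveI := smoothOfRelativeDimension_isStableUnderBaseChange 1
  haveI : SmoothOfRelativeDimension 1 (pullback.snd (C ↘ Spec (CommRingCat.of k)) (C ↘ Spec (CommRingCat.of k))) :=
    MorphismProperty.of_isPullback (P := @SmoothOfRelativeDimension 1)
      (IsPullback.of_hasPullback (C ↘ Spec (CommRingCat.of k)) (C ↘ Spec (CommRingCat.of k))) inferInstance
  have hJ' : BlowUp.IsEffCartierIdeal (pullback.diagonal (C ↘ Spec (CommRingCat.of k))).ker :=
    (S15990.result (pullback.snd (C ↘ Spec (CommRingCat.of k)) (C ↘ Spec (CommRingCat.of k)))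
      (pullback.diagonal (C ↘ Spec (CommRingCat.of k))) (pullback.diagonal_snd _)).1
  have hI := M2.isInvertible_idealMod _ hJ'
  obtain ⟨D, hD, ⟨eD⟩⟩ := M2.exists_inverse hI
  have hσI := Abel10.isInvertible_point hdim σ hσ
  have hP := PicLoc.isInvertible_pullback (pullback.fst (C ↘ Spec (CommRingCat.of k)) (C ↘ Spec (CommRingCat.of k))) hσI
  let L : (pullback (C ↘ Spec (CommRingCat.of k)) (C ↘ Spec (CommRingCat.of k))).Modules :=
    CohB1.tensorMod ((Scheme.Modules.pullback (pullback.fst (C ↘ Spec (CommRingCat.of k)) (C ↘ Spec (CommRingCat.of k)))).obj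
      (ClSub.idealMod σ.ker)) D
  have hL : PicF.IsInvertible L := M2.isInvertible_tensor hP hD
  have hAJ : Jac.IsAJFamilyAt (C ↘ Spec (CommRingCat.of k)) σ L := ⟨hL, (PicGrp.cls_eq_cls_iff
      (M2.isInvertible_tensor hL hI) hP).1 (by
    rw [← AlgEquiv22.cls_tensor hL hI]
    show PicGrp.cls L hL * _ = _
    rw [show PicGrp.cls L hL = _ from (AlgEquiv22.cls_tensor hP hD).symm, _root_.mul_assoc,
      _root_.mul_comm (PicGrp.cls D hD), (PicGrp.cls_mul_cls_eq_one_iff _ _).2 ⟨eD⟩, _root_.mul_one])⟩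
  refine ⟨L, hAJ, ?_⟩
  exact ok_of_aj hdim σ hσ hAJ

/-- A pointed curve has a Jacobian with an Abel map. -/
theorem exists_jacobian_pair : ∃ (J : Over (Spec (CommRingCat.of k))) (_ : GrpObj J) (_ : IsCommMonObj J)
    (ψ : (ModFun.PicDeg (C ↘ Spec (CommRingCat.of k)) 0).Hom ⊤ J) (j : Over.mk (C ↘ Spec (CommRingCat.of k)) ⟶ J),
    Jac.IsJacobian (C ↘ Spec (CommRingCat.of k)) ⊤ J ψ ∧
      Jac.IsAbelJacobiAt (C ↘ Spec (CommRingCat.of k)) σ ψ j := by
  obtain ⟨J, ξ, -, -, -, hξ⟩ := exists_isUnivClass (C ↘ Spec (CommRingCat.of k)) hdim σ hσ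
  letI := clsGrpObj hdim σ hσ hξ
  haveI := isCommMonObj_cls hdim σ hσ hξ
  let f := C ↘ Spec (CommRingCat.of k)
  let ψ : (ModFun.PicDeg f 0).Hom ⊤ J :=
    { app := fun T x _ hx => classify hξ (famCls f 0 hx) (degCl_famCls f hdim 0 hx)
      natural := by
        intro T T' g x _ _ hx hx'
        have h := famCls_pull g hx hx'
        have hd' : ∀ t, PicTan20.degCl f T' t (pc (PicF.XTmap f g) (famCls f 0 hx)).1 = 0 :=
          h ▸ degCl_famCls f hdim 0 hx'
        rw [← classify_pc hξ g _ (degCl_famCls f hdim 0 hx) hd']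
        congr 1
      resp := by
        intro T x y _ hx hy hr
        obtain ⟨m, hm⟩ := classify_spec hξ _ (degCl_famCls f hdim 0 hx)
        obtain ⟨m', hm'⟩ := (r_iff f 0 ((M2.isInvertible_iff_isFinLocFreeOfRank_one x).2 hx.1.2)
          ((M2.isInvertible_iff_isFinLocFreeOfRank_one y).2 hy.1.2)).1 hr
        refine eq_classify hξ _ _ _ (m := m * m') ?_
        change famCls f 0 hy = famCls f 0 hx * pc (PicF.XTproj f T) m' at hm'
        rw [hm', map_mul, ← _root_.mul_assoc, ← hm] }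
  obtain ⟨E, hE, hEc⟩ := PicGrp.exists_eq_cls ξ
  have hok : (ModFun.PicDeg f 0).ok J E := ok_of_class f hdim 0 hE fun t => by
    have := hξ.1 t
    rwa [hEc] at this
  have hba : ModFun.IsBestApprox ⊤ (ModFun.PicDeg f 0) J ψ := by
    intro N φ
    have hE1 : ψ.app J E trivial hok = 𝟙 J := by
      show classify hξ (famCls f 0 hok) (degCl_famCls f hdim 0 hok) = 𝟙 J
      refine (eq_classify hξ (famCls f 0 hok) (degCl_famCls f hdim 0 hok) (𝟙 J) (m := 1) ?_).symm
      rw [show famCls f 0 hok = ξ from hEc.symm, HilbBC25.XTmap_id, pc_id, map_one, _root_.mul_one]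
    refine ⟨φ.app J E trivial hok, fun T x hT hx => ?_, fun h hh => ?_⟩
    · let g := classify hξ (famCls f 0 hx) (degCl_famCls f hdim 0 hx)
      obtain ⟨m, hm⟩ := classify_spec hξ (famCls f 0 hx) (degCl_famCls f hdim 0 hx)
      have hg := ok_pull hdim g hok
      show φ.app T x hT hx = g ≫ φ.app J E trivial hok
      rw [← φ.natural g E trivial hT hok hg]
      refine (φ.resp _ _ hT hg hx ((r_iff f 0 ((M2.isInvertible_iff_isFinLocFreeOfRank_one _).2 hg.1.2)
        ((M2.isInvertible_iff_isFinLocFreeOfRank_one x).2 hx.1.2)).2 ⟨m, ?_⟩)).symm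
      show famCls f 0 hx = famCls f 0 hg * _
      rw [famCls_pull g hok hg, show famCls f 0 hok = ξ from hEc.symm]
      exact hm
    · rw [hh J E trivial hok, hE1, Category.id_comp]
  have hgeo : ModFun.GeomBij (ModFun.PicDeg f 0) J ψ := fun Ω _ _ t _ =>
    geomBij_degHom hdim hξ Ω t (inferInstanceAs (IsAffine (Spec (CommRingCat.of Ω))))
  have hψJ : Jac.IsJacobian f ⊤ J ψ := by
    refine ⟨⟨fun _ _ _ _ => trivial, hba, hgeo⟩, fun T hT L M N hL hM hN ⟨e⟩ => ?_⟩
    let cE := clsEquiv hdim σ hσ hξ T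
    refine cE.injective (Subtype.ext ?_)
    rw [clsEquiv_mul]
    have key : ∀ (x : (PicF.XT f T).Modules) (hx : (ModFun.PicDeg f 0).ok T x),
        (cE (ψ.app T x hT hx)).1 = toPic (normCls σ hσ (famCls f 0 hx)) := by
      intro x hx
      obtain ⟨m, hm⟩ := classify_spec hξ (famCls f 0 hx) (degCl_famCls f hdim 0 hx)
      show pc (PicF.XTmap f (classify hξ (famCls f 0 hx) (degCl_famCls f hdim 0 hx))) ξ * pc (PicF.XTproj f T)
        (pc (PicF.secT f σ hσ T) (pc (PicF.XTmap f (classify hξ (famCls f 0 hx) (degCl_famCls f hdim 0 hx))) ξ))⁻¹ =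
        famCls f 0 hx * pc (PicF.XTproj f T) (pc (PicF.secT f σ hσ T) (famCls f 0 hx))⁻¹
      generalize pc (PicF.XTmap f (classify hξ (famCls f 0 hx) (degCl_famCls f hdim 0 hx))) ξ = b at hm ⊢
      rw [hm, map_mul, pc_secT_proj, mul_inv, map_mul, map_inv _ m]
      rw [_root_.mul_mul_mul_comm, _root_.mul_comm (pc (PicF.XTproj f T) m), inv_mul_cancel, _root_.mul_one]
    rw [key, key, key]
    show famCls f 0 hN * _ = (famCls f 0 hL * _) * (famCls f 0 hM * _)
    have hc : famCls f 0 hN = famCls f 0 hL * famCls f 0 hM := by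
      show PicGrp.cls N _ = PicGrp.cls L _ * PicGrp.cls M _
      rw [AlgEquiv22.cls_tensor]
      exact (PicGrp.cls_eq_cls_iff _ _).2 ⟨e⟩
    rw [hc, map_mul, mul_inv, map_mul, _root_.mul_mul_mul_comm]
  obtain ⟨L, hAJ, hLok⟩ := exists_ajFamily hdim σ hσ
  exact ⟨J, inferInstance, inferInstance, ψ, ψ.app _ L trivial hLok, hψJ, trivial, L, hLok, hAJ, rfl⟩

/-- The dimension of a Jacobian is the genus. -/
theorem dim_jacobian {J : Over (Spec (CommRingCat.of k))} [GrpObj J] [IsCommMonObj J]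
    {ψ : (ModFun.PicDeg (C ↘ Spec (CommRingCat.of k)) 0).Hom ⊤ J}
    (hJ : Jac.IsJacobian (C ↘ Spec (CommRingCat.of k)) ⊤ J ψ) :
    topologicalKrullDim J.left = (Curv2.genus k C : WithBot ℕ∞) := by
  obtain ⟨hp, hs, -, ξ, hξ, -⟩ := exists_fine _ hdim σ hσ J ψ hJ.coarse.2.1
  haveI := hs
  let f := C ↘ Spec (CommRingCat.of k)
  let u : PicF.Rig f σ hσ J := normCls σ hσ ξ
  have hu : FGA.HasFibreDegreeZeroCl f J u.1 :=
    (hasFibreDegreeZeroCl_iff f _).2 fun t => (degCl_normCls ξ t).trans (hξ.1 t)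
  have huniv : ∀ (T : Over (Spec (CommRingCat.of k))) (c : PicF.Rig f σ hσ T), FGA.HasFibreDegreeZeroCl f T c.1 →
      ∃! g : T ⟶ J, PicF.pullCl (PicF.XTmap f g) u.1 = c.1 := fun T c hc => by
    have hd := (hasFibreDegreeZeroCl_iff f _).1 hc
    let cc : zeroSub (f := f) (σ := σ) (hσ := hσ) hdim T := ⟨toPic c, toPic_rig c, hd⟩
    have key : ∀ g : T ⟶ J, (PicF.pullCl (PicF.XTmap f g) u.1 = c.1 ↔ clsEquiv hdim σ hσ hξ T g = cc) := fun g => by
      have h : pc (PicF.XTmap f g) (toPic u) = (clsEquiv hdim σ hσ hξ T g).1 := by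
        show pc (PicF.XTmap f g) (ξ * pc (PicF.XTproj f J) (pc (PicF.secT f σ hσ J) ξ)⁻¹) =
          pc (PicF.XTmap f g) ξ * pc (PicF.XTproj f T) (pc (PicF.secT f σ hσ T) (pc (PicF.XTmap f g) ξ))⁻¹
        rw [map_mul, pc_proj_map, map_inv (pc g.left), ← pc_secT_map]
      constructor
      · intro e
        exact Subtype.ext (h.symm.trans (Subtype.ext e))
      · intro e
        exact congrArg Subtype.val (h.trans (congrArg Subtype.val e))
    refine ⟨(clsEquiv hdim σ hσ hξ T).symm cc, (key _).2 (Equiv.apply_symm_apply _ _), fun g hg => ?_⟩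
    rw [← (key g).1 hg, Equiv.symm_apply_apply]
  letI : J.left.Over (Spec (CommRingCat.of k)) := ⟨J.hom⟩
  haveI : IsSeparated (J.left ↘ Spec (CommRingCat.of k)) := AbRigid.isSeparated_of_grpObj J
  haveI : Smooth (J.left ↘ Spec (CommRingCat.of k)) := hs
  haveI : IrreducibleSpace J.left := by
    obtain ⟨-, -, hgi⟩ := jacobian_props hdim σ hσ hJ
    haveI := hgi
    haveI : IsIntegral J.left := GeometricallyIntegral.isIntegral_of_subsingleton J.hom
    infer_instance
  let a : Spec (CommRingCat.of k) ⟶ J.left := (η[J]).left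
  have ha : a ≫ (J.left ↘ Spec (CommRingCat.of k)) = 𝟙 _ := Over.w η[J]
  refine topologicalKrullDim_eq_of_point (k := k) _ a ha ?_
  let p : Over.mk (𝟙 (Spec (CommRingCat.of k))) ⟶ J := Over.homMk a ha
  refine ((PicTan20.rigTanData (K := AlgebraicClosure k) _ σ hσ u p hu (fun {T T'} g {c} hc h => PicTan20.hasFibreDegreeZeroCl_pull _ g hc h)
    (fun {T T'} g _ hg {c} hc h => PicTan20.hasFibreDegreeZeroCl_of_pull _ g hg.surj hc h) huniv).finrank_cotangent_eq).trans ?_
  haveI : CompactSpace C := QuasiCompact.compactSpace_of_compactSpace f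
  haveI : QuasiSeparatedSpace C := quasiSeparatedSpace_of_quasiSeparated f
  refine CurveCoh17.finrank_HH_of_isPullback (g := pullback.fst f _) ?_ 1
  exact IsPullback.of_hasPullback f (PicTan20.tS k (K := AlgebraicClosure k) (AlgebraicClosure k))

end Groth.Agent.JacPts22
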