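import Groth.Agent.S17805
import Groth.Agent.Lib.PicRep20.Fine
import Groth.Prelude.Def_Jac

/-!
# A Jacobian in the sense of coarse moduli is fine
-/

set_option autoImplicit false
set_option linter.style.haveILetI false
set_option linter.unusedSectionVars false
set_option backward.isDefEq.respectTransparency false
set_option backward.isDefEq.respectTransparency.types false
set_option maxHeartbeats 1000000

universe u

open CategoryTheory CategoryTheory.Limits AlgebraicGeometry TopologicalSpace Opposite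

noncomputable section

namespace Groth.Agent.JacPts22

open Groth.Agent.Abel10 (pc pc_comp pc_id)
open Groth.Agent.PicRep20

noncomputable local instance instLawBridge (Y : Scheme.{u}) : PicGrp.Law Y := M2.law Y

variable {k : Type u} [Field k] {X : Scheme.{u}} (f : X ⟶ Spec (CommRingCat.of k)) [IsProper f] [Smooth f]
  [GeometricallyConnected f] [IsIntegral X] [GeometricallyIrreducible f] (hdim : topologicalKrullDim X = 1)
  (σ : Spec (CommRingCat.of k) ⟶ X) (hσ : σ ≫ f = 𝟙 _)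

include hdim σ hσ

/-- The universal class of degree zero on the scheme representing the rigidified functor. -/
theorem exists_isUnivClass : ∃ (J₀ : Over (Spec (CommRingCat.of k))) (ξ : PicLoc.PicSet (PicF.XT f J₀)),
    IsProper J₀.hom ∧ Smooth J₀.hom ∧ GeometricallyIrreducible J₀.hom ∧ IsUnivClass f 0 J₀ ξ := by
  obtain ⟨J₀, u, h1, h2, h3, hd, hu⟩ := S17805.result k X f hdim σ hσ
  have hd' := (hasFibreDegreeZeroCl_iff f _).1 hd
  refine ⟨J₀, toPic u, h1, h2, h3, hd', fun T c hc => ?_⟩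
  have hn : FGA.HasFibreDegreeZeroCl f T (normCls σ hσ c).1 :=
    (hasFibreDegreeZeroCl_iff f _).2 fun t => (degCl_normCls c t).trans (hc t)
  obtain ⟨g, hg, hgu⟩ := hu T (normCls σ hσ c) hn
  have hg' : pc (PicF.XTmap f g) (toPic u) = toPic (normCls σ hσ c) := Subtype.ext hg
  refine ⟨g, ⟨pc (PicF.secT f σ hσ T) c, ?_⟩, fun g' ⟨m, hm⟩ => hgu g' ?_⟩
  · rw [hg']
    show c = c * pc (PicF.XTproj f T) (pc (PicF.secT f σ hσ T) c)⁻¹ * pc (PicF.XTproj f T) (pc (PicF.secT f σ hσ T) c)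
    rw [map_inv, inv_mul_cancel_right]
  · have h' : toPic (normCls σ hσ c) = pc (PicF.XTmap f g') (toPic u) := by
      show c * pc (PicF.XTproj f T) (pc (PicF.secT f σ hσ T) c)⁻¹ = _
      rw [hm, map_mul, pc_secT_map, pc_secT_proj, toPic_rig, map_one, one_mul, map_inv, mul_inv_cancel_right]
    exact (congrArg Subtype.val h').symm

/-- A Jacobian is proper, smooth, geometrically irreducible and carries a universal class classifying `ψ`. -/
theorem exists_fine (J : Over (Spec (CommRingCat.of k))) (ψ : (ModFun.PicDeg f 0).Hom ⊤ J)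
    (hJ : ModFun.IsBestApprox ⊤ (ModFun.PicDeg f 0) J ψ) :
    IsProper J.hom ∧ Smooth J.hom ∧ GeometricallyIrreducible J.hom ∧
      ∃ (ξ : PicLoc.PicSet (PicF.XT f J)) (hξ : IsUnivClass f 0 J ξ),
        ∀ (T : Over (Spec (CommRingCat.of k))) (x : (ModFun.PicDeg f 0).Fam T) (hx : (ModFun.PicDeg f 0).ok T x),
          ψ.app T x trivial hx = classify hξ (famCls f 0 hx) (degCl_famCls f hdim 0 hx) := by
  obtain ⟨J₀, ξ₀, h1, h2, h3, hξ₀⟩ := exists_isUnivClass f hdim σ hσ
  obtain ⟨E, hE, hEc⟩ := PicGrp.exists_eq_cls ξ₀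
  have hok : (ModFun.PicDeg f 0).ok J₀ E := ok_of_class f hdim 0 hE fun t => by
    have := hξ₀.1 t
    rwa [hEc] at this
  have hEc' : famCls f 0 hok = ξ₀ := hEc.symm
  let ψ₀ : (ModFun.PicDeg f 0).Hom ⊤ J₀ :=
    { app := fun T x _ hx => classify hξ₀ (famCls f 0 hx) (degCl_famCls f hdim 0 hx)
      natural := by
        intro T T' g x _ _ hx hx'
        have h := famCls_pull g hx hx'
        have hd' : ∀ t, PicTan20.degCl f T' t (pc (PicF.XTmap f g) (famCls f 0 hx)).1 = 0 :=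
          h ▸ degCl_famCls f hdim 0 hx'
        rw [← classify_pc hξ₀ g _ (degCl_famCls f hdim 0 hx) hd']
        congr 1
      resp := by
        intro T x y _ hx hy hr
        obtain ⟨m, hm⟩ := classify_spec hξ₀ _ (degCl_famCls f hdim 0 hx)
        obtain ⟨m', hm'⟩ := (r_iff f 0 ((M2.isInvertible_iff_isFinLocFreeOfRank_one x).2 hx.1.2)
          ((M2.isInvertible_iff_isFinLocFreeOfRank_one y).2 hy.1.2)).1 hr
        refine eq_classify hξ₀ _ _ _ (m := m * m') ?_
        change famCls f 0 hy = famCls f 0 hx * pc (PicF.XTproj f T) m' at hm'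
        rw [hm', map_mul, ← mul_assoc, ← hm] }
  obtain ⟨u, hu, -⟩ := hJ J₀ ψ₀
  let v : J₀ ⟶ J := ψ.app J₀ E trivial hok
  have hv : ∀ (T : Over (Spec (CommRingCat.of k))) (x : (ModFun.PicDeg f 0).Fam T) (hx : (ModFun.PicDeg f 0).ok T x),
      ψ.app T x trivial hx = ψ₀.app T x trivial hx ≫ v := by
    intro T x hx
    let g := classify hξ₀ (famCls f 0 hx) (degCl_famCls f hdim 0 hx)
    obtain ⟨m, hm⟩ := classify_spec hξ₀ (famCls f 0 hx) (degCl_famCls f hdim 0 hx)
    have hg := ok_pull hdim g hok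
    rw [show ψ₀.app T x trivial hx ≫ v = ψ.app T _ trivial hg from
      (ψ.natural g E trivial trivial hok hg).symm]
    refine (ψ.resp _ _ trivial hg hx ((r_iff f 0 ((M2.isInvertible_iff_isFinLocFreeOfRank_one _).2 hg.1.2)
      ((M2.isInvertible_iff_isFinLocFreeOfRank_one x).2 hx.1.2)).2 ⟨m, ?_⟩)).symm
    change famCls f 0 hx = famCls f 0 hg * _
    rw [famCls_pull g hok hg, hEc']
    exact hm
  have huv : u ≫ v = 𝟙 J := by
    obtain ⟨w, -, hw⟩ := hJ J ψ
    rw [hw (u ≫ v) fun T x hT hx => by rw [← Category.assoc, ← hu T x hT hx]; exact hv T x hx]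
    exact (hw (𝟙 J) fun T x hT hx => (Category.comp_id _).symm).symm
  have hvu : v ≫ u = 𝟙 J₀ := by
    rw [← hu J₀ E trivial hok]
    refine (eq_classify hξ₀ (famCls f 0 hok) (degCl_famCls f hdim 0 hok) (𝟙 J₀) (m := 1) ?_).symm
    rw [hEc', show PicF.XTmap f (𝟙 J₀) = 𝟙 _ by apply pullback.hom_ext <;> simp [PicF.XTmap],
      pc_id, map_one, mul_one]
  haveI : IsIso u := ⟨v, huv, hvu⟩
  haveI : IsIso u.left := inferInstanceAs (IsIso ((Over.forget _).map u))
  haveI := h1; haveI := h2; haveI := h3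
  have hdeg : ∀ t, PicTan20.degCl f J t (pc (PicF.XTmap f u) ξ₀).1 = 0 :=
    fun t => (PicTan20.degCl_pull f u t ξ₀.2).trans (hξ₀.1 _)
  have hξ : IsUnivClass f 0 J (pc (PicF.XTmap f u) ξ₀) := by
    refine ⟨hdeg, fun T c hc => ?_⟩
    obtain ⟨g, ⟨m, hm⟩, hgu⟩ := hξ₀.2 T c hc
    refine ⟨g ≫ v, ⟨m, ?_⟩, fun g' ⟨m', hm'⟩ => ?_⟩
    · rwa [pc_comp _ _ (show PicF.XTmap f (g ≫ v) ≫ PicF.XTmap f u = PicF.XTmap f g by
        rw [← HilbBC25.XTmap_comp, Category.assoc, hvu, Category.comp_id])]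
    · rw [pc_comp _ _ (HilbBC25.XTmap_comp f g' u).symm] at hm'
      rw [← hgu (g' ≫ u) ⟨m', hm'⟩, Category.assoc, huv, Category.comp_id]
  refine ⟨?_, ?_, ?_, _, hξ, fun T x hx => ?_⟩
  · rw [← Over.w u]; infer_instance
  · rw [← Over.w u]; infer_instance
  · rw [← Over.w u]
    exact (MorphismProperty.cancel_left_of_respectsIso @GeometricallyIrreducible u.left J₀.hom).2 h3
  obtain ⟨m, hm⟩ := classify_spec hξ₀ (famCls f 0 hx) (degCl_famCls f hdim 0 hx)
  refine eq_classify hξ _ _ _ (m := m) ?_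
  rwa [hv T x hx, pc_comp _ _ (show PicF.XTmap f (ψ₀.app T x trivial hx ≫ v) ≫ PicF.XTmap f u =
    PicF.XTmap f (ψ₀.app T x trivial hx) by rw [← HilbBC25.XTmap_comp, Category.assoc, hvu, Category.comp_id])]

end Groth.Agent.JacPts22
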