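import Groth.Agent.Lib.JacPts22.CurveJacobian
import Groth.Agent.S12408

/-!
# The Abel map is a closed immersion, and abelian varieties are commutative
-/

set_option autoImplicit false
set_option linter.style.haveILetI false
set_option linter.unusedSectionVars false
set_option backward.isDefEq.respectTransparency false
set_option backward.isDefEq.respectTransparency.types false
set_option maxHeartbeats 1000000

universe u

open CategoryTheory CategoryTheory.Limits AlgebraicGeometry TopologicalSpace Opposite MonoidalCategory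
  CartesianMonoidalCategory MonObj

noncomputable section

namespace Groth.Agent.JacPts22

open Groth.Agent.Abel10 (pc pc_comp pc_id)
open Groth.Agent.Abel10 Groth.Agent.PicRep20

noncomputable local instance instLawAbelImm (Y : Scheme.{u}) : PicGrp.Law Y := M2.law Y

variable {k : Type u} [Field k]

/-- An abelian variety is commutative. -/
theorem isCommMonObj_of_proper (A : Over (Spec (CommRingCat.of k))) [GrpObj A] [IsProper A.hom]
    [GeometricallyIntegral A.hom] : IsCommMonObj A := by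
  have h0 : η[A] ≫ (𝟙 A)⁻¹ = η[A] := by
    rw [GrpObj.comp_inv, Category.comp_id, one_eq_one, inv_one]
  haveI := AbRigid.isMonHom_of_one A A (𝟙 A)⁻¹ h0
  have h : ∀ {T : Over (Spec (CommRingCat.of k))} (x y : T ⟶ A), x * y = y * x := fun {T} x y => by
    have e : (x⁻¹ * y⁻¹) ≫ (𝟙 A)⁻¹ = (x⁻¹ ≫ (𝟙 A)⁻¹) * (y⁻¹ ≫ (𝟙 A)⁻¹) := MonObj.mul_comp _ _ _
    simp only [GrpObj.comp_inv, Category.comp_id, inv_inv, mul_inv_rev] at e
    exact e.symm
  constructor
  have e1 : (β_ A A).hom ≫ μ[A] = snd A A * fst A A := by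
    rw [Hom.mul_def]
    congr 1
  have e2 : μ[A] = fst A A * snd A A := by
    rw [Hom.mul_def, lift_fst_snd, Category.id_comp]
  rw [e1, h]
  exact e2.symm

variable {C : Scheme.{u}} [C.Over (Spec (CommRingCat.of k))]
  [IsProper (C ↘ Spec (CommRingCat.of k))] [Smooth (C ↘ Spec (CommRingCat.of k))]
  [GeometricallyConnected (C ↘ Spec (CommRingCat.of k))] [IsIntegral C]
  [GeometricallyIrreducible (C ↘ Spec (CommRingCat.of k))]
  (hdim : topologicalKrullDim C = 1)
  (σ : Spec (CommRingCat.of k) ⟶ C) (hσ : σ ≫ (C ↘ Spec (CommRingCat.of k)) = 𝟙 _)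
  {J : Over (Spec (CommRingCat.of k))} [GrpObj J] [IsCommMonObj J]
  {ψ : (ModFun.PicDeg (C ↘ Spec (CommRingCat.of k)) 0).Hom ⊤ J}
  (hJ : Jac.IsJacobian (C ↘ Spec (CommRingCat.of k)) ⊤ J ψ)
  (j : Over.mk (C ↘ Spec (CommRingCat.of k)) ⟶ J)
  (hj : Jac.IsAbelJacobiAt (C ↘ Spec (CommRingCat.of k)) σ ψ j)

include hdim hσ hJ hj

/-- The Abel map of a curve of positive genus is a closed immersion. -/
theorem isClosedImmersion_abel (hg : 0 < Curv2.genus k C) : IsClosedImmersion j.left := by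
  obtain ⟨hp, -, -⟩ := jacobian_props hdim σ hσ hJ
  haveI := hp
  obtain ⟨-, -, -, ξ, hξ, hψ⟩ := exists_fine _ hdim σ hσ J ψ hJ.coarse.2.1
  obtain ⟨hP, LA, hLA, hAJ, hLj⟩ := id hj
  haveI : IsProper (j.left ≫ J.hom) := by
    rw [Over.w]
    exact ‹IsProper (C ↘ Spec (CommRingCat.of k))›
  haveI : IsProper j.left := IsProper.of_comp _ J.hom
  haveI : Mono j.left := by
    haveI := CurveCartier25.smoothOfRelativeDimension_one (C ↘ Spec (CommRingCat.of k)) hdim
    haveI := smoothOfRelativeDimension_isStableUnderBaseChange 1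
    haveI : SmoothOfRelativeDimension 1 (pullback.snd (C ↘ Spec (CommRingCat.of k)) (C ↘ Spec (CommRingCat.of k))) :=
      MorphismProperty.of_isPullback (P := @SmoothOfRelativeDimension 1)
        (IsPullback.of_hasPullback (C ↘ Spec (CommRingCat.of k)) (C ↘ Spec (CommRingCat.of k))) inferInstance
    let f := C ↘ Spec (CommRingCat.of k)
    have hJ' : BlowUp.IsEffCartierIdeal (pullback.diagonal f).ker :=
      (S15990.result (pullback.snd f f) (pullback.diagonal f) (pullback.diagonal_snd _)).1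
    have hI := M2.isInvertible_idealMod _ hJ'
    obtain ⟨D, hD, ⟨eD⟩⟩ := M2.exists_inverse hI
    obtain ⟨θ, hθ⟩ := exists_locEq hJ' hD (M2.tensorComm _ _ ≪≫ eD)
    have hf : ∀ s, topologicalKrullDim ↥(f.fiber s) = 1 := fiber_dim f hdim
    have hgf : ∀ s : Spec (CommRingCat.of k), 1 ≤ CohIII.fiberRank f (Coh.structureModule C) 1 s := fun s => by
      have h : IsPullback (𝟙 C) (C ↘ Spec (CommRingCat.of k)) f (𝟙 _) :=
        IsPullback.of_horiz_isIso ⟨by rw [Category.id_comp, Category.comp_id]⟩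
      have h' := Abel10.genus_fieldPt h
      haveI : Subsingleton (Spec (CommRingCat.of k)) := inferInstanceAs (Subsingleton (PrimeSpectrum k))
      rw [show s = (𝟙 (Spec (CommRingCat.of k))) (IsLocalRing.closedPoint k) from Subsingleton.elim _ _, ← h']
      exact hg
    refine ⟨fun {T} x y hxy => ?_⟩
    have hfxy : x ≫ f = y ≫ f := by
      have h := congrArg (· ≫ J.hom) hxy
      simp only [Category.assoc, Over.w] at h
      exact h
    let T' : Over (Spec (CommRingCat.of k)) := Over.mk (x ≫ f)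
    let x' : T' ⟶ Over.mk f := Over.homMk x rfl
    let y' : T' ⟶ Over.mk f := Over.homMk y hfxy.symm
    let A : PicLoc.PicSet (PicF.XT f T') := pc (pullback.fst f T'.hom) (Abel10.ptCls hdim σ hσ)
    have key : ∀ z : T' ⟶ Over.mk f,
        pc (PicF.XTmap f z) (famCls f 0 hLA) = A * pc (PicF.XTmap f z) (PicGrp.cls (Y := PicF.XT f (Over.mk f)) D hD) := by
      intro z
      obtain ⟨e⟩ := hAJ.2
      let IΔ : PicLoc.PicSet (PicF.XT f (Over.mk f)) := PicGrp.cls _ hI
      let LΔ : PicLoc.PicSet (PicF.XT f (Over.mk f)) := PicGrp.cls LA hAJ.1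
      have h4 : LΔ * IΔ = pc (pullback.fst f (Over.mk f).hom) (Abel10.ptCls hdim σ hσ) := by
        show PicGrp.cls (Y := pullback f f) LA hAJ.1 * PicGrp.cls (Y := pullback f f) _ hI = _
        rw [AlgEquiv22.cls_tensor hAJ.1 hI, Abel10.ptCls, pc, PicGrp.pullHom_cls]
        exact (PicGrp.cls_eq_cls_iff _ _).2 ⟨e⟩
      have h2 : IΔ * PicGrp.cls (Y := PicF.XT f (Over.mk f)) D hD = 1 :=
        (PicGrp.cls_mul_cls_eq_one_iff _ _).2 ⟨eD⟩
      have h5 : famCls f 0 hLA = pc (pullback.fst f (Over.mk f).hom) (Abel10.ptCls hdim σ hσ) *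
          PicGrp.cls (Y := PicF.XT f (Over.mk f)) D hD := by
        rw [← h4, _root_.mul_assoc, h2, _root_.mul_one]
        rfl
      rw [h5, map_mul, pc_comp _ _ (HilbBC25.XTmap_fst f z)]
    have hd : ∀ z : T' ⟶ Over.mk f, ∀ t, PicTan20.degCl f T' t (pc (PicF.XTmap f z) (famCls f 0 hLA)).1 = 0 :=
      fun z t => (PicTan20.degCl_pull _ z t (famCls f 0 hLA).2).trans (degCl_famCls _ hdim 0 hLA _)
    have he : classify hξ _ (hd x') = classify hξ _ (hd y') := by
      rw [comp_abel hdim hξ hψ hLA hLj x', comp_abel hdim hξ hψ hLA hLj y']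
      exact Over.OverMorphism.ext hxy
    obtain ⟨m, hm⟩ := classify_spec hξ _ (hd x')
    obtain ⟨m', hm'⟩ := classify_spec hξ _ (hd y')
    rw [he] at hm
    generalize pc (PicF.XTmap f (classify hξ _ (hd y'))) ξ = b at hm hm'
    rw [key] at hm hm'
    have hxy' : pc (PicF.XTmap f x') (PicGrp.cls (Y := PicF.XT f (Over.mk f)) D hD) =
        pc (PicF.XTmap f y') (PicGrp.cls (Y := PicF.XT f (Over.mk f)) D hD) * pc (PicF.XTproj f T') (m'⁻¹ * m) := by
      apply mul_left_cancel (a := A)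
      rw [← _root_.mul_assoc, hm, hm', map_mul, map_inv, _root_.mul_assoc b, mul_inv_cancel_left]
    choose U hUt hUtriv using fun t : T => exists_open_trivial (m'⁻¹ * m).2 (Y := T) t
    refine Scheme.Cover.hom_ext (T.openCoverOfIsOpenCover U (top_le_iff.1 fun z _ => Opens.mem_iSup.2 ⟨z, hUt z⟩)) _ _ fun t => ?_
    let v := (U t).ι
    let w : AbDual.ovr T' v ⟶ T' := AbDual.ovrHom T' v
    have h6 : PicF.pullCl (PicF.XTmap f (w ≫ x')) (PicF.cl D) = PicF.pullCl (PicF.XTmap f (w ≫ y')) (PicF.cl D) := by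
      rw [← RigDesc22.pullCl_XTmap, ← RigDesc22.pullCl_XTmap f w y',
        show PicF.pullCl (PicF.XTmap f x') (PicF.cl D) = _ from congrArg Subtype.val hxy']
      exact (congrArg (PicF.pullCl _) (PicGrp.Law.mul_val _ _)).trans (pull_twist f w _ (hUtriv t))
    rw [PicLoc.pullCl_cl, PicLoc.pullCl_cl] at h6
    obtain ⟨e⟩ := (PicGrp.cl_eq_cl_iff _ _).1 h6
    show v ≫ x = v ≫ y
    exact Abel10.eq_of_iso f _ hf hgf hD hθ (w ≫ x').left (w ≫ y').left (Over.w _) (Over.w _)
      ((Scheme.Modules.pullbackCongr (S12408.toSq_eq f (w ≫ x'))).symm.app D ≪≫ e ≪≫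
        (Scheme.Modules.pullbackCongr (S12408.toSq_eq f (w ≫ y'))).app D)
  exact (IsClosedImmersion.iff_isProper_and_mono _).2 ⟨inferInstance, inferInstance⟩

end Groth.Agent.JacPts22
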