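import Groth.Agent.S15554
import Groth.Agent.Lib.AffCompl.Ample
import Groth.Agent.Lib.VB17.Setup
import Groth.Agent.Lib.PicSep22.Smooth
import Groth.Agent.Lib.DimF18.Basic
import Groth.Agent.Lib.DimF18.Prod
import Groth.Agent.Lib.NumPoly18.SurfProj
import Groth.Agent.Lib.Ample18.Sections
import Groth.Agent.Lib.ArithLW25.SchemeZ
import Groth.Agent.Lib.AmpleFin18.Components

/-!
# Smooth curve sections control morphisms
-/

set_option autoImplicit false
set_option linter.style.haveILetI false
set_option linter.unusedSectionVars false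
set_option backward.isDefEq.respectTransparency false
set_option backward.isDefEq.respectTransparency.types false
set_option maxHeartbeats 1000000

universe u

open CategoryTheory CategoryTheory.Limits AlgebraicGeometry TopologicalSpace Opposite Order

noncomputable section

namespace Groth.Agent.JacPts22

variable {k : Type u} [Field k] {X : Scheme.{u}}

/-- A closed set of a proper scheme lying in an affine open consists of closed points. -/
theorem isClosed_singleton_of_subset_affine (p : X ⟶ Spec (CommRingCat.of k)) [IsProper p] {T : Set X}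
    (hT : IsClosed T) {U : X.Opens} (hU : IsAffineOpen U) (hTU : T ⊆ U) {x : X} (hx : x ∈ T) :
    IsClosed ({x} : Set X) := by
  let I : X.IdealSheafData := Scheme.IdealSheafData.vanishingIdeal ⟨T, hT⟩
  let i := I.subschemeι
  have hr : Set.range i = T := by
    rw [Scheme.IdealSheafData.range_subschemeι, Scheme.IdealSheafData.coe_support_vanishingIdeal]
    rfl
  have hsub : Set.range i ⊆ Set.range U.ι := by rw [hr, Scheme.Opens.range_ι]; exact hTU
  let l := IsOpenImmersion.lift U.ι i hsub
  haveI : IsClosedImmersion (l ≫ U.ι) := by rw [IsOpenImmersion.lift_fac]; infer_instance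
  haveI : IsClosedImmersion l := IsClosedImmersion.of_comp l U.ι
  haveI : IsAffine U := hU
  haveI : IsAffine I.subscheme := isAffine_of_isAffineHom l
  haveI : IsFinite (i ≫ p) := IsFinite.iff_isProper_and_isAffineHom.2 ⟨inferInstance, inferInstance⟩
  haveI : Finite ↥I.subscheme := by
    haveI : CompactSpace ↥I.subscheme := QuasiCompact.compactSpace_of_compactSpace (i ≫ p)
    exact Set.finite_univ_iff.1 (((i ≫ p).finite_preimage_singleton (IsLocalRing.closedPoint k)).subset
      fun z _ => Subsingleton.elim (α := PrimeSpectrum k) _ _)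
  haveI : JacobsonSpace ↥I.subscheme := LocallyOfFiniteType.jacobsonSpace (i ≫ p)
  obtain ⟨z, rfl⟩ := hr.ge hx
  simpa using i.isClosedEmbedding.isClosedMap {z} (isClosed_discrete _)

/-- A connected closed set of a proper scheme lying in an affine open is a point. -/
theorem subsingleton_of_subset_affine (p : X ⟶ Spec (CommRingCat.of k)) [IsProper p] {T : Set X}
    (hT : IsClosed T) (hTc : _root_.IsPreconnected T) {U : X.Opens} (hU : IsAffineOpen U) (hTU : T ⊆ U) :
    T.Subsingleton := by
  haveI : PreconnectedSpace T := isPreconnected_iff_preconnectedSpace.1 hTc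
  haveI : T1Space T := ⟨fun x => by
    have h : IsClosed ((Subtype.val : T → X) ⁻¹' {(x : X)}) :=
      (isClosed_singleton_of_subset_affine p hT hU hTU x.2).preimage continuous_subtype_val
    rwa [show Subtype.val ⁻¹' {(x : X)} = ({x} : Set T) by ext y; simp [Subtype.ext_iff]] at h⟩
  haveI : Finite T := by
    let I : X.IdealSheafData := Scheme.IdealSheafData.vanishingIdeal ⟨T, hT⟩
    let i := I.subschemeι
    have hr : Set.range i = T := by
      rw [Scheme.IdealSheafData.range_subschemeι, Scheme.IdealSheafData.coe_support_vanishingIdeal]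
      rfl
    have hsub : Set.range i ⊆ Set.range U.ι := by rw [hr, Scheme.Opens.range_ι]; exact hTU
    let l := IsOpenImmersion.lift U.ι i hsub
    haveI : IsClosedImmersion (l ≫ U.ι) := by rw [IsOpenImmersion.lift_fac]; infer_instance
    haveI : IsClosedImmersion l := IsClosedImmersion.of_comp l U.ι
    haveI : IsAffine U := hU
    haveI : IsAffine I.subscheme := isAffine_of_isAffineHom l
    haveI : IsFinite (i ≫ p) := IsFinite.iff_isProper_and_isAffineHom.2 ⟨inferInstance, inferInstance⟩
    haveI : CompactSpace ↥I.subscheme := QuasiCompact.compactSpace_of_compactSpace (i ≫ p)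
    haveI : Finite ↥I.subscheme := Set.finite_univ_iff.1
      (((i ≫ p).finite_preimage_singleton (IsLocalRing.closedPoint k)).subset
        fun z _ => Subsingleton.elim (α := PrimeSpectrum k) _ _)
    rw [← hr]
    exact (Set.finite_range i).to_subtype
  intro a ha b hb
  exact congrArg Subtype.val (PreconnectedSpace.trivial_of_discrete.elim (⟨a, ha⟩ : T) ⟨b, hb⟩)

/-- The zero locus of a section has a point which is not closed, in dimension at least two. -/
theorem false_of_closedPoints [IsIntegral X] (f : X ⟶ Spec (CommRingCat.of k)) [LocallyOfFiniteType f]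
    (hdim : (2 : WithBot ℕ∞) ≤ topologicalKrullDim X) {L : X.Modules} (hL : PicF.IsInvertible L)
    (s : Coh.structureModule X ⟶ L) {x : X} (hx : x ∉ CohB1.genLocus L s)
    (hS : ∀ y : X, y ∉ CohB1.genLocus L s → IsClosed ({y} : Set X)) : False := by
  haveI : IsLocallyNoetherian X := LocallyOfFiniteType.isLocallyNoetherian f
  obtain ⟨U, e, a, hxU, -, hU, -, -, hgl⟩ := Amp.exists_local hL s (V := ⊤) (x := x) trivial
  haveI : IsNoetherianRing Γ(X, U) := IsLocallyNoetherian.component_noetherian (X := X) ⟨U, hU⟩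
  let m := hU.primeIdealOf ⟨x, hxU⟩
  have hmem : ∀ y : U, a ∈ (hU.primeIdealOf y).asIdeal ↔ (y : X) ∉ CohB1.genLocus L s := fun y => by
    have h1 : (y : X) ∈ X.basicOpen a ↔ (y : X) ∈ CohB1.genLocus L s := by
      rw [← hgl]; exact ⟨fun h => h.1, fun h => ⟨h, y.2⟩⟩
    have h2 : (y : X) ∈ X.basicOpen a ↔ a ∉ (hU.primeIdealOf y).asIdeal := by
      conv_lhs => rw [← hU.fromSpec_primeIdealOf y, ← SetLike.mem_coe, ← hU.fromSpec_image_basicOpen]
      exact hU.fromSpec.isOpenEmbedding.injective.mem_set_image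
    tauto
  have hmin : m.asIdeal ∈ (Ideal.span {a}).minimalPrimes := by
    refine ⟨⟨m.2, (Ideal.span_singleton_le_iff_mem _).2 ((hmem _).2 hx)⟩, fun P hP hle => ?_⟩
    let P' : PrimeSpectrum Γ(X, U) := ⟨P, hP.1⟩
    let y : X := hU.fromSpec P'
    have hyU : y ∈ U := VarDim.fromSpec_mem hU P'
    have hy : y ∉ CohB1.genLocus L s := (hmem ⟨y, hyU⟩).1 (by
      rw [VarDim.primeIdealOf_fromSpec hU P']; exact hP.2 (Ideal.mem_span_singleton_self a))
    have hsp : y ⤳ x := by
      have h := (VarDim.fromSpec_le_iff hU P' m).2 hle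
      rw [hU.fromSpec_primeIdealOf] at h
      exact h
    have hyx : x = y := hsp.mem_closed (hS y hy) rfl
    have : P' = m := by
      show P' = hU.primeIdealOf ⟨x, hxU⟩
      rw [← VarDim.primeIdealOf_fromSpec hU P']
      exact congrArg hU.primeIdealOf (Subtype.ext hyx.symm)
    exact (congrArg PrimeSpectrum.asIdeal this).ge
  have hht : m.asIdeal.height ≤ 1 := Ideal.height_le_one_of_isPrincipal_of_mem_minimalPrimes _ _ hmin
  have hgx : genericPoint X ≠ x := fun h => by
    have h0 := (VarDim.sdim_eq_zero_iff_isClosed f x).2 (hS x hx)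
    rw [VarDim.dim_eq_sdim_genericPoint f, h, h0] at hdim
    norm_num at hdim
  have hcov := DimF18.sdim_covBy f hgx (genericPoint_specializes x) fun y h1 h2 => by
    by_contra hne
    push_neg at hne
    have hyU : y ∈ U := h2.mem_open U.2 hxU
    have hgU : genericPoint X ∈ U := h1.mem_open U.2 hyU
    let P := hU.primeIdealOf ⟨y, hyU⟩
    let P₀ := hU.primeIdealOf ⟨genericPoint X, hgU⟩
    have hinj : ∀ a b : U, hU.primeIdealOf a = hU.primeIdealOf b → (a : X) = b := fun a b h => by
      rw [← hU.fromSpec_primeIdealOf a, ← hU.fromSpec_primeIdealOf b, h]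
    have l1 : P₀.asIdeal < P.asIdeal := lt_of_le_of_ne ((VarDim.primeIdealOf_le_iff hU _ _).2 h1)
      fun h => hne.1 (hinj _ _ (PrimeSpectrum.ext h)).symm
    have l2 : P.asIdeal < m.asIdeal := lt_of_le_of_ne ((VarDim.primeIdealOf_le_iff hU _ _).2 h2)
      fun h => hne.2 (hinj _ _ (PrimeSpectrum.ext h))
    have a1 := Ideal.height_add_one_le_of_lt_of_isPrime l1
    have a2 := Ideal.height_add_one_le_of_lt_of_isPrime l2
    have : (2 : ℕ∞) ≤ 1 := calc
      (2 : ℕ∞) = 0 + 1 + 1 := by norm_num
      _ ≤ P₀.asIdeal.height + 1 + 1 := by gcongr; exact zero_le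
      _ ≤ P.asIdeal.height + 1 := by gcongr
      _ ≤ m.asIdeal.height := a2
      _ ≤ 1 := hht
    norm_num at this
  rw [(VarDim.sdim_eq_zero_iff_isClosed f x).2 (hS x hx)] at hcov
  rw [VarDim.dim_eq_sdim_genericPoint f, hcov] at hdim
  norm_num at hdim

/-- A coordinate hyperplane avoiding a given point. -/
theorem exists_hyperplane_avoiding (n : ℕ) (q : CohB1.ProjSpace n k) :
    ∃ s : Coh.structureModule (CohB1.ProjSpace n k) ⟶ Twist.twistProjSpace n k 1,
      q ∈ CohB1.genLocus _ s ∧ IsAffineOpen (CohB1.genLocus _ s) := by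
  have hq : q ∈ (⨆ i : Fin (n + 1), Proj.basicOpen (CohB1.polyGrading n k) (MvPolynomial.X i)) := by
    rw [ProjSpace.iSup_basicOpen]; trivial
  obtain ⟨i, hi⟩ := TopologicalSpace.Opens.mem_iSup.1 hq
  have hcov : (⨆ f : CohB1.polyGrading n k 1, Proj.basicOpen (CohB1.polyGrading n k) (f : MvPolynomial (Fin (n + 1)) k)) = ⊤ :=
    top_le_iff.1 fun x _ => by
      have hx : x ∈ (⨆ i : Fin (n + 1), Proj.basicOpen (CohB1.polyGrading n k) (MvPolynomial.X i)) := by
        rw [ProjSpace.iSup_basicOpen]; trivial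
      obtain ⟨j, hj⟩ := TopologicalSpace.Opens.mem_iSup.1 hx
      exact TopologicalSpace.Opens.mem_iSup.2 ⟨⟨_, ProjSpace.X_mem' n k j⟩, hj⟩
  have e : CohB1.genLocus (Twist.twistProjSpace n k 1)
      (M1.secHom (Twist.gsec (CohB1.polyGrading n k) ⟨_, ProjSpace.X_mem' n k i⟩)) =
      Proj.basicOpen (CohB1.polyGrading n k) (MvPolynomial.X i) :=
    Twist.genLocus_gsec (CohB1.polyGrading n k) hcov ⟨_, ProjSpace.X_mem' n k i⟩
  refine ⟨_, e.ge hi, ?_⟩
  · rw [e]
    exact Proj.isAffineOpen_basicOpen (CohB1.polyGrading n k) _ (ProjSpace.X_mem' n k i) Nat.one_pos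

/-- A pulled back section with its locus. -/
theorem exists_pullback_section {P : Scheme.{u}} (g : X ⟶ P) {L : P.Modules} (hL : PicF.IsInvertible L)
    (s : Coh.structureModule P ⟶ L) : ∃ t : Coh.structureModule X ⟶ (Scheme.Modules.pullback g).obj L,
      CohB1.genLocus _ t = g ⁻¹ᵁ CohB1.genLocus L s :=
  ⟨_, Amp.genLocus_pullback g hL s (PicLoc.pullbackStructureIso g).symm⟩

/-- A smooth hyperplane section of dimension one less, with affine complement. -/
theorem exists_smooth_section [Infinite k] [IsIntegral X] {N : ℕ} (ι : X ⟶ CohB1.ProjSpace N k)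
    [IsClosedImmersion ι] [IsProper (ι ≫ CohB1.ProjSpace.toSpec N k)] [Smooth (ι ≫ CohB1.ProjSpace.toSpec N k)]
    [GeometricallyConnected (ι ≫ CohB1.ProjSpace.toSpec N k)] {d : ℕ}
    (hd : topologicalKrullDim X = ((d + 2 : ℕ) : WithBot ℕ∞)) :
    ∃ (Z : Scheme.{u}) (i : Z ⟶ X) (U : X.Opens), IsClosedImmersion i ∧ IsAffineOpen U ∧
      Set.range i = (U : Set X)ᶜ ∧ Smooth (i ≫ ι ≫ CohB1.ProjSpace.toSpec N k) ∧
      GeometricallyConnected (i ≫ ι ≫ CohB1.ProjSpace.toSpec N k) ∧ IsIntegral Z ∧
      (1 : WithBot ℕ∞) ≤ topologicalKrullDim Z ∧ topologicalKrullDim Z ≤ ((d + 1 : ℕ) : WithBot ℕ∞) := by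
  let f := ι ≫ CohB1.ProjSpace.toSpec N k
  obtain ⟨s, ⟨x₀, hx₀⟩, hsm⟩ := S15554.result k N X ι
  let H := PicF2.zeroScheme (Twist.twistProjSpace N k 1) s
  have hL1 : CohB1.IsAmple (Twist.twistProjSpace N k 1) := Twist.isAmple_twist (CohB1.polyGrading N k) _
    (fun i => ProjSpace.X_mem' N k i) (ProjSpace.irrelevant_le_span N k) (d := 1) one_pos
  have hsupp : (H.support : Set (CohB1.ProjSpace N k)) = (CohB1.genLocus _ s : Set (CohB1.ProjSpace N k))ᶜ :=
    AffCompl.coe_support_zeroScheme hL1.1 s
  let U : X.Opens := ι ⁻¹ᵁ CohB1.genLocus _ s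
  haveI := ProjSpace.isProper_toSpec (n := N) (R := k)
  have hUa : IsAffineOpen U :=
    (RA.isAffineOpen_genLocus_of_universallyClosed (CohB1.ProjSpace.toSpec N k) hL1 s).preimage ι
  have hUne : (U : Set X).Nonempty := ⟨x₀, by
    by_contra h
    exact hx₀ (hsupp.ge h)⟩
  let Z := pullback ι H.subschemeι
  let i : Z ⟶ X := pullback.fst ι H.subschemeι
  have hr : Set.range i = (U : Set X)ᶜ := by
    rw [Scheme.Pullback.range_fst, Scheme.IdealSheafData.range_subschemeι, hsupp]
    rfl
  have hGI : GeometricallyIntegral f := PicSep22.geometricallyIntegral_of_smooth f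
  have hd2 : (2 : WithBot ℕ∞) ≤ topologicalKrullDim X := by rw [hd]; exact_mod_cast Nat.le_add_left 2 d
  haveI hgc : GeometricallyConnected (i ≫ f) := ⟨fun K _ y W p₁ p₂ hW => by
    let XK := pullback f y
    haveI : GeometricallyIntegral (pullback.snd f y) := MorphismProperty.pullback_snd _ _ hGI
    haveI : IsIntegral XK := GeometricallyIntegral.isIntegral_of_subsingleton (pullback.snd f y)
    letI : Algebra k K := (Spec.preimage y).hom.toAlgebra
    have hy : y = Spec.map (CommRingCat.ofHom (algebraMap k K)) := (Spec.map_preimage y).symm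
    have hdK : (2 : WithBot ℕ∞) ≤ topologicalKrullDim XK := by
      have hT : (Set.univ : Set XK) ∈ irreducibleComponents XK :=
        ⟨IrreducibleSpace.isIrreducible_univ _, fun t _ _ => Set.subset_univ t⟩
      obtain ⟨Z', hZ', e⟩ := DimF18.exists_component_dim_bc (k := k) (K := K)
        (show IsPullback (pullback.fst f y) (pullback.snd f y) f (Spec.map (CommRingCat.ofHom (algebraMap k K))) by
          rw [← hy]; exact IsPullback.of_hasPullback f y) hT
      have hZu : Z' = Set.univ :=
        Set.Subset.antisymm (Set.subset_univ _) (hZ'.2 (IrreducibleSpace.isIrreducible_univ _) (Set.subset_univ _))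
      subst hZu
      rw [← IsHomeomorph.topologicalKrullDim_eq _ (Homeomorph.Set.univ ↥XK).isHomeomorph, e,
        IsHomeomorph.topologicalKrullDim_eq _ (Homeomorph.Set.univ ↥X).isHomeomorph]
      exact hd2
    let q := pullback.fst f y
    haveI : IsAffineHom q := MorphismProperty.pullback_fst _ _ (inferInstanceAs (IsAffineHom y))
    haveI : Surjective q := MorphismProperty.pullback_fst _ _ ⟨fun z => ⟨IsLocalRing.closedPoint K, Subsingleton.elim (α := PrimeSpectrum k) _ _⟩⟩
    have hconn := AffCompl.isConnected_compl_affineOpen (pullback.snd f y) hdK (hUa.preimage q)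
      (hUne.preimage q.surjective)
    let w : W ⟶ XK := pullback.lift (p₁ ≫ i) p₂ (by rw [Category.assoc]; exact hW.w)
    have sq : IsPullback p₁ w i q := by
      refine IsPullback.of_bot ?_ (pullback.lift_fst _ _ _).symm (IsPullback.of_hasPullback f y)
      rw [pullback.lift_snd]
      exact hW
    haveI : IsClosedImmersion w := MorphismProperty.of_isPullback sq inferInstance
    have hw : Set.range w = (q ⁻¹ᵁ U : Set XK)ᶜ := by
      show Set.range w = (q ⁻¹' (U : Set X))ᶜ
      rw [← Set.preimage_compl, ← hr, ← Scheme.Pullback.range_snd, ← sq.isoPullback_hom_snd, Scheme.Hom.comp_base,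
        TopCat.coe_comp, Set.range_comp, Set.range_eq_univ.2 sq.isoPullback.hom.surjective, Set.image_univ]
    haveI : ConnectedSpace (Set.range w) := isConnected_iff_connectedSpace.1 (hw ▸ hconn)
    exact w.isEmbedding.toHomeomorph.symm.surjective.connectedSpace w.isEmbedding.toHomeomorph.symm.continuous⟩
  haveI hZs : Smooth (i ≫ f) := hsm
  letI : Z.Over (Spec (CommRingCat.of k)) := ⟨i ≫ f⟩
  haveI : IsProper (Z ↘ Spec (CommRingCat.of k)) := inferInstanceAs (IsProper (i ≫ f))
  haveI : Smooth (Z ↘ Spec (CommRingCat.of k)) := hZs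
  haveI : GeometricallyConnected (Z ↘ Spec (CommRingCat.of k)) := hgc
  haveI hZi : IsIntegral Z := VB17.isIntegral_of_smooth (k := k) (X := Z)
  have hZd : topologicalKrullDim Z = topologicalKrullDim ((U : Set X)ᶜ : Set X) := by
    rw [← hr]
    exact IsHomeomorph.topologicalKrullDim_eq _ i.isEmbedding.toHomeomorph.isHomeomorph
  refine ⟨Z, i, U, inferInstance, hUa, hr, hZs, hgc, hZi, ?_, ?_⟩
  · rw [VarDim.dim_eq_sdim_genericPoint (i ≫ f)]
    by_contra hlt
    have h0 : VarDim.sdim (i ≫ f) (genericPoint Z) = 0 := by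
      by_contra h
      exact hlt (by exact_mod_cast Nat.one_le_iff_ne_zero.2 h)
    have hcl : ∀ z : Z, IsClosed ({z} : Set Z) := fun z => by
      have hg := (VarDim.sdim_eq_zero_iff_isClosed (i ≫ f) _).1 h0
      have : z = genericPoint Z := (genericPoint_specializes z).mem_closed hg rfl
      rw [this]; exact hg
    obtain ⟨t, ht⟩ := exists_pullback_section ι hL1.1 s
    obtain ⟨z₀⟩ : Nonempty Z := inferInstance
    refine false_of_closedPoints f hd2 (PicLoc.isInvertible_pullback ι hL1.1) t (x := i z₀) ?_ fun y hy => ?_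
    · rw [ht]; exact hr.le ⟨z₀, rfl⟩
    · rw [ht] at hy
      obtain ⟨z, rfl⟩ := hr.ge hy
      simpa using i.isClosedEmbedding.isClosedMap {z} (hcl z)
  · rw [hZd]
    refine ArithLW25.dim_closed_lt U.2.isClosed_compl ?_ hd.le
    exact fun h => by
      obtain ⟨x, hx⟩ := hUne
      exact (h.ge (Set.mem_univ x)) hx

/-- A smooth curve in a projective variety on which constancy of morphisms to projective spaces is decided. -/
theorem exists_curve [Infinite k] {N : ℕ} : ∀ (d : ℕ) (X : Scheme.{u}) (ι : X ⟶ CohB1.ProjSpace N k)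
    [IsClosedImmersion ι] [IsIntegral X] [Smooth (ι ≫ CohB1.ProjSpace.toSpec N k)]
    [GeometricallyConnected (ι ≫ CohB1.ProjSpace.toSpec N k)],
    topologicalKrullDim X ≤ (d : WithBot ℕ∞) → (1 : WithBot ℕ∞) ≤ topologicalKrullDim X →
    ∃ (C : Scheme.{u}) (i : C ⟶ X), IsClosedImmersion i ∧ Smooth (i ≫ ι ≫ CohB1.ProjSpace.toSpec N k) ∧
      GeometricallyConnected (i ≫ ι ≫ CohB1.ProjSpace.toSpec N k) ∧ topologicalKrullDim C = 1 ∧
      ∀ (M : ℕ) (g : X ⟶ CohB1.ProjSpace M k),
        g ≫ CohB1.ProjSpace.toSpec M k = ι ≫ CohB1.ProjSpace.toSpec N k →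
        ∀ q : CohB1.ProjSpace M k, (∀ c : C, g (i c) = q) → ∀ x : X, g x = q := by
  intro d
  induction d using Nat.strong_induction_on with
  | _ d ih =>
    intro X ι _ _ _ _ hd h1
    haveI := ProjSpace.isProper_toSpec (n := N) (R := k)
    obtain ⟨e, he⟩ : ∃ e : ℕ, topologicalKrullDim X = (e : WithBot ℕ∞) :=
      ⟨_, VarDim.dim_eq_sdim_genericPoint (ι ≫ CohB1.ProjSpace.toSpec N k)⟩
    have he1 : 1 ≤ e := by rw [he] at h1; exact_mod_cast h1
    have hed : e ≤ d := by rw [he] at hd; exact_mod_cast hd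
    rcases eq_or_lt_of_le he1 with rfl | h2
    · refine ⟨X, 𝟙 X, inferInstance, ?_, ?_, by simpa using he, fun M g _ q h x => by simpa using h x⟩
      · rw [Category.id_comp]; infer_instance
      · rw [Category.id_comp]; infer_instance
    obtain ⟨e', rfl⟩ := Nat.exists_eq_add_of_le' (Nat.succ_le_of_lt h2)
    obtain ⟨Z, i, U, hi, hU, hr, hs, hgc, hZi, hZ1, hZd⟩ := exists_smooth_section ι he
    haveI := hi
    haveI := hZi
    haveI : Smooth ((i ≫ ι) ≫ CohB1.ProjSpace.toSpec N k) := by rw [Category.assoc]; exact hs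
    haveI : GeometricallyConnected ((i ≫ ι) ≫ CohB1.ProjSpace.toSpec N k) := by rw [Category.assoc]; exact hgc
    obtain ⟨C, j, hj, hCs, hCg, hC1, hC⟩ := ih (e' + 1) (by omega) Z (i ≫ ι) hZd hZ1
    haveI := hj
    refine ⟨C, j ≫ i, inferInstance, by simpa using hCs, by simpa using hCg, hC1, fun M g hg q hq x => ?_⟩
    have hgZ : ∀ z : Z, g (i z) = q := fun z => hC M (i ≫ g) (by rw [Category.assoc, hg, Category.assoc]) q
      (fun c => hq c) z
    haveI := ProjSpace.isProper_toSpec (n := M) (R := k)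
    haveI : IsProper (g ≫ CohB1.ProjSpace.toSpec M k) := by rw [hg]; infer_instance
    haveI : IsProper g := IsProper.of_comp g (CohB1.ProjSpace.toSpec M k)
    obtain ⟨s, hsq, hV⟩ := exists_hyperplane_avoiding M q
    have hL : PicF.IsInvertible (Twist.twistProjSpace M k 1) := (Twist.isAmple_twist (CohB1.polyGrading M k) _
      (fun i => ProjSpace.X_mem' M k i) (ProjSpace.irrelevant_le_span M k) (d := 1) one_pos).1
    obtain ⟨t, ht⟩ := exists_pullback_section g hL s
    have hall : ∀ y : X, g y ∈ CohB1.genLocus _ s := fun y => by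
      by_contra hy
      have hT : IsClosed ((g ⁻¹ᵁ CohB1.genLocus _ s : X.Opens) : Set X)ᶜ :=
        (g ⁻¹ᵁ CohB1.genLocus _ s).2.isClosed_compl
      have hTU : ((g ⁻¹ᵁ CohB1.genLocus _ s : X.Opens) : Set X)ᶜ ⊆ U := fun w hw => by
        by_contra hwU
        obtain ⟨z, rfl⟩ := hr.ge hwU
        exact hw (show g (i z) ∈ CohB1.genLocus _ s by rw [hgZ]; exact hsq)
      refine false_of_closedPoints (ι ≫ CohB1.ProjSpace.toSpec N k) ?_ (PicLoc.isInvertible_pullback g hL) t
        (x := y) (by rw [ht]; exact hy) fun w hw => ?_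
      · rw [he]; exact_mod_cast Nat.le_add_left 2 e'
      · rw [ht] at hw
        exact isClosed_singleton_of_subset_affine (ι ≫ CohB1.ProjSpace.toSpec N k) hT hU hTU hw
    have hsub : Set.range g ⊆ CohB1.genLocus _ s := by rintro _ ⟨y, rfl⟩; exact hall y
    have hss := subsingleton_of_subset_affine (CohB1.ProjSpace.toSpec M k) g.isClosedMap.isClosed_range
      (isConnected_range g.continuous).isPreconnected hV hsub
    obtain ⟨z₀⟩ : Nonempty Z := inferInstance
    rw [← hgZ z₀]
    exact hss ⟨x, rfl⟩ ⟨i z₀, rfl⟩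

end Groth.Agent.JacPts22
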