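import Groth.Agent.Lib.Torelli22.Jac

/-!
# Rational points of a Jacobian as divisor classes of degree zero
-/

set_option autoImplicit false
set_option linter.style.haveILetI false
set_option linter.unusedSectionVars false
set_option backward.isDefEq.respectTransparency false
set_option backward.isDefEq.respectTransparency.types false
set_option maxHeartbeats 1000000

universe u

open CategoryTheory CategoryTheory.Limits AlgebraicGeometry TopologicalSpace Opposite MonoidalCategory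
  CartesianMonoidalCategory MonObj

noncomputable section

namespace Groth.Agent.JacPts22

open Groth.Agent.CurveCoh17 Groth.Agent.Abel10 Groth.Agent.Torelli22

noncomputable local instance instLawJacPtsDict (Y : Scheme.{u}) : PicGrp.Law Y := M2.law Y

variable {k : Type u} [Field k] [IsAlgClosed k] {C : Scheme.{u}} [C.Over (Spec (CommRingCat.of k))]
  [IsProper (C ↘ Spec (CommRingCat.of k))] [Smooth (C ↘ Spec (CommRingCat.of k))]
  [GeometricallyConnected (C ↘ Spec (CommRingCat.of k))] [IsIntegral C]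

local notation "pC" => C ↘ Spec (CommRingCat.of k)
local notation "PD" => ModFun.PicDeg (C ↘ Spec (CommRingCat.of k)) 0

variable (k C) in
/-- The base as a test object. -/
abbrev T₀ : Over (Spec (CommRingCat.of k)) := Over.mk (𝟙 (Spec (CommRingCat.of k)))

variable (k C) in
/-- The curve over the base as test object. -/
def rho : C ⟶ PicF.XT pC (T₀ k) := pullback.lift (𝟙 C) pC (by simp)

theorem fst_rho : pullback.fst pC (T₀ k).hom ≫ rho k C = 𝟙 _ := by
  apply pullback.hom_ext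
  · rw [Category.assoc, rho, pullback.lift_fst, Category.comp_id, Category.id_comp]
  · rw [Category.assoc, rho, pullback.lift_snd, Category.id_comp, pullback.condition]
    exact Category.comp_id _

variable (hdim : topologicalKrullDim C = 1)
include hdim

theorem invOfOk {E : (PicF.XT pC (T₀ k)).Modules} (hE : (PD).ok (T₀ k) E) : PicF.IsInvertible E :=
  (M2.isInvertible_iff_isFinLocFreeOfRank_one E).2 hE.1.2

/-- The class on the curve of a family over the base. -/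
def cl₀ (E : (PicF.XT pC (T₀ k)).Modules) (hE : (PD).ok (T₀ k) E) : PicLoc.PicSet C :=
  PicGrp.pullHom (rho k C) (M2.pullMul _) (PicGrp.cls E (invOfOk hdim hE))

theorem rho_injective (c d : PicLoc.PicSet (PicF.XT pC (T₀ k)))
    (h : PicGrp.pullHom (rho k C) (M2.pullMul _) c = PicGrp.pullHom (rho k C) (M2.pullMul _) d) : c = d := by
  have h' := congrArg (pc (pullback.fst pC (T₀ k).hom)) h
  change pc _ (pc _ c) = pc _ (pc _ d) at h'
  rwa [pc_comp _ _ fst_rho, pc_comp _ _ fst_rho, pc_id, pc_id] at h'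

theorem fibre_dim (s : Spec (CommRingCat.of k)) : topologicalKrullDim ↥((pC).fiber s) = 1 := by
  haveI : Subsingleton ↥(Spec (CommRingCat.of k)) := inferInstanceAs (Subsingleton (PrimeSpectrum k))
  have hu : (pC).base ⁻¹' {s} = Set.univ := Set.eq_univ_of_forall fun x => Subsingleton.elim _ _
  exact ((((pC).fiberHomeo s).trans (Homeomorph.setCongr hu)).trans (Homeomorph.Set.univ C)).isHomeomorph.topologicalKrullDim_eq.trans hdim

/-- The class of an admissible family has degree zero. -/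
theorem deg_cl₀ (E : (PicF.XT pC (T₀ k)).Modules) (hE : (PD).ok (T₀ k) E) :
    Curv2.deg k C ((Scheme.Modules.pullback (rho k C)).obj E) 1 = 0 := by
  let t : Spec (CommRingCat.of k) ⟶ (T₀ k).left := 𝟙 _
  let W : Over (Spec (CommRingCat.of k)) := Over.mk (t ≫ (T₀ k).hom)
  let g : W ⟶ T₀ k := Over.homMk t rfl
  let Z := PicF.XT pC W
  letI : Z.Over (Spec (CommRingCat.of k)) := ⟨PicF.XTproj pC W⟩
  have h0 : Curv2.deg k Z ((Scheme.Modules.pullback (PicF.XTmap pC g)).obj E) 1 = 0 := hE.2 k t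
  have hm : pullback.fst pC W.hom ≫ rho k C = PicF.XTmap pC g := by
    apply pullback.hom_ext
    · simp [rho, PicF.XTmap]
    · simp only [rho, PicF.XTmap, pullback.lift_snd, Category.assoc, g, Over.homMk_left]
      rw [pullback.condition]
      simp [W, t]
  have hL := PicLoc.isInvertible_pullback (rho k C) (invOfOk hdim hE)
  have e := CurveCoh17.deg_iso (k := k) (X := Z) (r := 1) ((Scheme.Modules.pullbackComp _ _).app E ≪≫
    (Scheme.Modules.pullbackCongr hm).app E)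
  rw [h0] at e
  have h1 := deg_fieldPt (K := k) (Z := Z) (pr := pullback.fst pC W.hom) (τ := W.hom) (IsPullback.of_hasPullback _ _) hL
  have hid : IsPullback (𝟙 C) (C ↘ Spec (CommRingCat.of k)) pC W.hom := by
    have hW : W.hom = 𝟙 (Spec (CommRingCat.of k)) := Category.id_comp _
    rw [hW]
    haveI : IsIso (𝟙 (Spec (CommRingCat.of k))) := inferInstance
    exact IsPullback.of_horiz_isIso ⟨by simp⟩
  have h2 := deg_fieldPt (K := k) (Z := C) (pr := 𝟙 C) (τ := W.hom) hid hL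
  rw [CurveCoh17.deg_iso ((Scheme.Modules.pullbackId C).app _)] at h2
  rw [Functor.id_obj] at h2
  rw [h2, ← h1]
  exact e

theorem cl₀_eq_of_app_eq (J : Over (Spec (CommRingCat.of k))) [GrpObj J] (ψ : (PD).Hom ⊤ J) (hJ : Jac.IsJacobian pC ⊤ J ψ) {E F : (PicF.XT pC (T₀ k)).Modules} (hE : (PD).ok (T₀ k) E) (hF : (PD).ok (T₀ k) F)
    (h : ψ.app (T₀ k) E trivial hE = ψ.app (T₀ k) F trivial hF) : cl₀ hdim E hE = cl₀ hdim F hF := by
  have hr := (hJ.coarse.2.2 k (𝟙 _) trivial).2 E F hE hF h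
  obtain ⟨N, hN, ⟨i⟩⟩ := hr
  have hN1 : PicGrp.cls N hN = 1 :=
    (PicGrp.cls_eq_one_iff_isTrivialCl hN).2 (AbDual21.isTrivialCl_spec_field ⟨_, rfl, hN⟩)
  have hp := PicLoc.isInvertible_pullback (PicF.XTproj pC (T₀ k)) hN
  have h1 : PicGrp.cls _ hp = 1 := by rw [← PicGrp.pullHom_cls _ (M2.pullMul _) _ hN, hN1, map_one]
  refine congrArg (PicGrp.pullHom (rho k C) (M2.pullMul _)) (Eq.symm ?_)
  rw [← _root_.mul_one (PicGrp.cls E (invOfOk hdim hE)), ← h1, AlgEquiv22.cls_tensor]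
  exact (PicGrp.cls_eq_cls_iff _ _).2 ⟨i⟩

theorem app_eq_of_cl₀_eq (J : Over (Spec (CommRingCat.of k))) [GrpObj J] (ψ : (PD).Hom ⊤ J) (hJ : Jac.IsJacobian pC ⊤ J ψ) {E F : (PicF.XT pC (T₀ k)).Modules} (hE : (PD).ok (T₀ k) E) (hF : (PD).ok (T₀ k) F)
    (h : cl₀ hdim E hE = cl₀ hdim F hF) : ψ.app (T₀ k) E trivial hE = ψ.app (T₀ k) F trivial hF := by
  refine ψ.resp E F trivial hE hF ⟨Coh.structureModule _, PicLoc.isInvertible_structureModule _, ?_⟩
  have hp := PicLoc.isInvertible_pullback (PicF.XTproj pC (T₀ k)) (PicLoc.isInvertible_structureModule (T₀ k).left)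
  refine (PicGrp.cls_eq_cls_iff (invOfOk hdim hF) (M2.isInvertible_tensor (invOfOk hdim hE) hp)).1 ?_
  rw [← AlgEquiv22.cls_tensor (invOfOk hdim hE) hp, ← rho_injective hdim _ _ h,
    (PicGrp.cls_eq_one_iff hp).2 ⟨PicLoc.pullbackStructureIso _⟩]
  exact (_root_.mul_one _).symm

theorem exists_fam (J : Over (Spec (CommRingCat.of k))) [GrpObj J] (ψ : (PD).Hom ⊤ J) (hJ : Jac.IsJacobian pC ⊤ J ψ) (a : 𝟙_ (Over (Spec (CommRingCat.of k))) ⟶ J) :
    ∃ (E : (PicF.XT pC (T₀ k)).Modules) (hE : (PD).ok (T₀ k) E), ψ.app (T₀ k) E trivial hE = a :=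
  (hJ.coarse.2.2 k (𝟙 _) trivial).1 a

/-- A family representing a rational point. -/
def fam (J : Over (Spec (CommRingCat.of k))) [GrpObj J] (ψ : (PD).Hom ⊤ J) (hJ : Jac.IsJacobian pC ⊤ J ψ) (a : 𝟙_ (Over (Spec (CommRingCat.of k))) ⟶ J) : (PicF.XT pC (T₀ k)).Modules :=
  (exists_fam hdim J ψ hJ a).choose

theorem fam_ok (J : Over (Spec (CommRingCat.of k))) [GrpObj J] (ψ : (PD).Hom ⊤ J) (hJ : Jac.IsJacobian pC ⊤ J ψ) (a : 𝟙_ (Over (Spec (CommRingCat.of k))) ⟶ J) : (PD).ok (T₀ k) (fam hdim J ψ hJ a) :=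
  (exists_fam hdim J ψ hJ a).choose_spec.choose

theorem fam_app (J : Over (Spec (CommRingCat.of k))) [GrpObj J] (ψ : (PD).Hom ⊤ J) (hJ : Jac.IsJacobian pC ⊤ J ψ) (a : 𝟙_ (Over (Spec (CommRingCat.of k))) ⟶ J) :
    ψ.app (T₀ k) (fam hdim J ψ hJ a) trivial (fam_ok hdim J ψ hJ a) = a :=
  (exists_fam hdim J ψ hJ a).choose_spec.choose_spec

/-- The divisor class of a rational point of the Jacobian. -/
def iota (J : Over (Spec (CommRingCat.of k))) [GrpObj J] (ψ : (PD).Hom ⊤ J) (hJ : Jac.IsJacobian pC ⊤ J ψ) : (𝟙_ (Over (Spec (CommRingCat.of k))) ⟶ J) →* PicLoc.PicSet C :=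
  MonoidHom.mk' (fun a => cl₀ hdim (fam hdim J ψ hJ a) (fam_ok hdim J ψ hJ a))
    fun a b => by
      have ha := fam_ok hdim J ψ hJ a
      have hb := fam_ok hdim J ψ hJ b
      have ht := ok_tensor hdim (T₀ k) _ _ ha hb
      have key : ψ.app (T₀ k) _ trivial ht = a * b :=
        (hJ.mul (T₀ k) trivial _ _ _ ha hb ht ⟨Iso.refl _⟩).trans
          (by rw [fam_app hdim J ψ hJ a, fam_app hdim J ψ hJ b])
      refine (cl₀_eq_of_app_eq hdim J ψ hJ (fam_ok hdim J ψ hJ (a * b)) ht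
        ((fam_app hdim J ψ hJ (a * b)).trans key.symm)).trans ?_
      simp only [cl₀]
      rw [← map_mul, AlgEquiv22.cls_tensor]

theorem iota_app (J : Over (Spec (CommRingCat.of k))) [GrpObj J] (ψ : (PD).Hom ⊤ J) (hJ : Jac.IsJacobian pC ⊤ J ψ) {E : (PicF.XT pC (T₀ k)).Modules} (hE : (PD).ok (T₀ k) E) :
    iota hdim J ψ hJ (ψ.app (T₀ k) E trivial hE) = cl₀ hdim E hE :=
  cl₀_eq_of_app_eq hdim J ψ hJ (fam_ok hdim J ψ hJ _) hE (fam_app hdim J ψ hJ _)

theorem iota_injective (J : Over (Spec (CommRingCat.of k))) [GrpObj J] (ψ : (PD).Hom ⊤ J) (hJ : Jac.IsJacobian pC ⊤ J ψ) : Function.Injective (iota hdim J ψ hJ) := by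
  intro a b h
  obtain ⟨E, hE, rfl⟩ := exists_fam hdim J ψ hJ a
  obtain ⟨F, hF, rfl⟩ := exists_fam hdim J ψ hJ b
  rw [iota_app hdim J ψ hJ hE, iota_app hdim J ψ hJ hF] at h
  exact app_eq_of_cl₀_eq hdim J ψ hJ hE hF h

/-- Points of the Jacobian have classes of degree zero. -/
theorem iota_deg (J : Over (Spec (CommRingCat.of k))) [GrpObj J] (ψ : (PD).Hom ⊤ J) (hJ : Jac.IsJacobian pC ⊤ J ψ) (a : 𝟙_ (Over (Spec (CommRingCat.of k))) ⟶ J) (L : C.Modules) (hL : PicF.IsInvertible L)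
    (h : PicGrp.cls L hL = iota hdim J ψ hJ a) : Curv2.deg k C L 1 = 0 := by
  obtain ⟨E, hE, rfl⟩ := exists_fam hdim J ψ hJ a
  rw [iota_app hdim J ψ hJ hE, cl₀, PicGrp.pullHom_cls] at h
  obtain ⟨i⟩ := (PicGrp.cls_eq_cls_iff _ _).1 h
  rw [CurveCoh17.deg_iso i]
  exact deg_cl₀ hdim E hE

/-- The class of the value of the Abel map at a point. -/
theorem iota_abel (J : Over (Spec (CommRingCat.of k))) [GrpObj J] (ψ : (PD).Hom ⊤ J) (hJ : Jac.IsJacobian pC ⊤ J ψ) (σ : Spec (CommRingCat.of k) ⟶ C) (hσ : σ ≫ pC = 𝟙 _)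
    (j : Over.mk pC ⟶ J) (hj : Jac.IsAbelJacobiAt pC σ ψ j)
    (x : 𝟙_ (Over (Spec (CommRingCat.of k))) ⟶ Over.mk pC) :
    iota hdim J ψ hJ (x ≫ j) = ptCls hdim σ hσ * (ptCls hdim x.left (Over.w x))⁻¹ := by
  obtain ⟨hP, L, hL, hAJ, rfl⟩ := hj
  let x' : T₀ k ⟶ Over.mk pC := x
  have hok := ok_pull hdim x' L hL
  have hv : ψ.app (T₀ k) ((PD).pull x' L) trivial hok = x ≫ ψ.app (Over.mk pC) L hP hL :=
    ψ.natural x' L hP trivial hL hok
  rw [← hv, iota_app hdim J ψ hJ hok]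
  refine Eq.trans ?_ (eq_mul_inv_of_mul_eq (slice_ajFamily hdim σ hσ hAJ x.left (Over.w x)))
  have hm : rho k C ≫ PicF.XTmap pC x' = Pic13.sliceAt k C pC x.left (Over.w x) := by
    apply pullback.hom_ext <;> simp [rho, PicF.XTmap, Pic13.sliceAt, x']
  rw [cl₀, slice, PicGrp.pullHom_cls, PicGrp.pullHom_cls]
  exact (PicGrp.cls_eq_cls_iff _ _).2
    ⟨(Scheme.Modules.pullbackComp _ _).app L ≪≫ (Scheme.Modules.pullbackCongr hm).app L⟩

end Groth.Agent.JacPts22
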