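import Groth.Agent.Lib.JacPts22.Bridge
import Groth.Agent.Lib.JacPts22.Sets
import Groth.Agent.Lib.CurveCoh17.GenusBC
import Groth.Agent.Lib.AmpleFib.CurveRel

/-!
# The curve generates its Jacobian
-/

set_option autoImplicit false
set_option linter.style.haveILetI false
set_option linter.unusedSectionVars false
set_option backward.isDefEq.respectTransparency false
set_option backward.isDefEq.respectTransparency.types false
set_option maxHeartbeats 1000000

universe u

open CategoryTheory CategoryTheory.Limits AlgebraicGeometry TopologicalSpace Opposite MonoidalCategory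
  CartesianMonoidalCategory MonObj

noncomputable section

namespace Groth.Agent.JacPts22

open Groth.Agent.Abel10 (pc pc_comp pc_id)
open Groth.Agent.Abel10 Groth.Agent.PicRep20

noncomputable local instance instLawGenerate (Y : Scheme.{u}) : PicGrp.Law Y := M2.law Y

variable {k : Type u} [Field k] {C : Scheme.{u}} [C.Over (Spec (CommRingCat.of k))]
  [IsProper (C ↘ Spec (CommRingCat.of k))] [Smooth (C ↘ Spec (CommRingCat.of k))]
  [GeometricallyConnected (C ↘ Spec (CommRingCat.of k))] [IsIntegral C]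
  [GeometricallyIrreducible (C ↘ Spec (CommRingCat.of k))]
  (hdim : topologicalKrullDim C = 1)

include hdim

section Classify

variable {J : Over (Spec (CommRingCat.of k))} [GrpObj J] [IsCommMonObj J]
  {ψ : (ModFun.PicDeg (C ↘ Spec (CommRingCat.of k)) 0).Hom ⊤ J}
  {ξ : PicLoc.PicSet (PicF.XT (C ↘ Spec (CommRingCat.of k)) J)}
  (hξ : IsUnivClass (C ↘ Spec (CommRingCat.of k)) 0 J ξ)
  (hψ : ∀ (T : Over (Spec (CommRingCat.of k))) (x : (ModFun.PicDeg (C ↘ Spec (CommRingCat.of k)) 0).Fam T)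
    (hx : (ModFun.PicDeg (C ↘ Spec (CommRingCat.of k)) 0).ok T x),
    ψ.app T x trivial hx = classify hξ (famCls _ 0 hx) (degCl_famCls _ hdim 0 hx))

omit hdim in
theorem classify_congr {T : Over (Spec (CommRingCat.of k))}
    {a b : PicLoc.PicSet (PicF.XT (C ↘ Spec (CommRingCat.of k)) T)} (h : a = b) (ha hb) :
    classify hξ a ha = classify hξ b hb := by
  subst h
  rfl

theorem deg_mul₀ {T : Over (Spec (CommRingCat.of k))} {a b : PicLoc.PicSet (PicF.XT (C ↘ Spec (CommRingCat.of k)) T)}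
    (ha : ∀ t, PicTan20.degCl _ T t a.1 = 0) (hb : ∀ t, PicTan20.degCl _ T t b.1 = 0) :
    ∀ t, PicTan20.degCl _ T t (a * b).1 = 0 := fun t => by
  rw [PicTan20.degCl_mul _ (fiber_dim _ hdim), ha, hb, add_zero]

omit hdim in
/-- The value on the universal class. -/
theorem classify_univ {T : Over (Spec (CommRingCat.of k))} (g : T ⟶ J) (hd) :
    classify hξ (pc (PicF.XTmap (C ↘ Spec (CommRingCat.of k)) g) ξ) hd = g :=
  (eq_classify hξ _ hd g (m := 1) (by rw [map_one, _root_.mul_one])).symm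

/-- Classes differing by a class from the base have the same classifying morphism. -/
theorem classify_twist {T : Over (Spec (CommRingCat.of k))}
    (a : PicLoc.PicSet (PicF.XT (C ↘ Spec (CommRingCat.of k)) T)) (m : PicLoc.PicSet T.left) (ha hb) :
    classify hξ (a * pc (PicF.XTproj _ T) m) hb = classify hξ a ha := by
  obtain ⟨m', hm'⟩ := classify_spec hξ a ha
  refine (eq_classify hξ _ hb _ (m := m' * m) ?_).symm
  rw [map_mul, ← _root_.mul_assoc, ← hm']

include hψ in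
theorem classify_mul (hJ : Jac.IsJacobian (C ↘ Spec (CommRingCat.of k)) ⊤ J ψ) {T : Over (Spec (CommRingCat.of k))}
    (a b : PicLoc.PicSet (PicF.XT (C ↘ Spec (CommRingCat.of k)) T)) (ha hb hab) :
    classify hξ (a * b) hab = classify hξ a ha * classify hξ b hb := by
  obtain ⟨L, hL, rfl⟩ := PicGrp.exists_eq_cls a
  obtain ⟨M, hM, rfl⟩ := PicGrp.exists_eq_cls b
  have hLM := M2.isInvertible_tensor hL hM
  have h1 := ok_of_class _ hdim 0 hL ha
  have h2 := ok_of_class _ hdim 0 hM hb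
  have h3 : (ModFun.PicDeg (C ↘ Spec (CommRingCat.of k)) 0).ok T (CohB1.tensorMod L M) :=
    ok_of_class _ hdim 0 hLM fun t => by
      have := hab t
      rwa [AlgEquiv22.cls_tensor hL hM] at this
  have h := hJ.mul T trivial L M _ h1 h2 h3 ⟨Iso.refl _⟩
  rw [hψ T _ h3, hψ T L h1, hψ T M h2] at h
  refine Eq.trans ?_ h
  exact classify_congr hξ (AlgEquiv22.cls_tensor hL hM) _ _

theorem deg_one₀ {T : Over (Spec (CommRingCat.of k))} :
    ∀ t, PicTan20.degCl (C ↘ Spec (CommRingCat.of k)) T t (1 : PicLoc.PicSet (PicF.XT _ T)).1 = 0 := fun t => by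
  have h := PicTan20.degCl_mul _ (fiber_dim _ hdim) t (1 : PicLoc.PicSet (PicF.XT (C ↘ Spec (CommRingCat.of k)) T)) 1
  rw [_root_.one_mul] at h
  omega

include hψ in
theorem classify_one (hJ : Jac.IsJacobian (C ↘ Spec (CommRingCat.of k)) ⊤ J ψ) {T : Over (Spec (CommRingCat.of k))} (h) :
    classify hξ (1 : PicLoc.PicSet (PicF.XT (C ↘ Spec (CommRingCat.of k)) T)) h = 1 := by
  have e := classify_mul hdim hξ hψ hJ (T := T) 1 1 h h (deg_mul₀ hdim h h)
  rw [classify_congr hξ (_root_.one_mul 1) (deg_mul₀ hdim h h) h] at e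
  exact left_eq_mul.1 e

include hψ in
theorem classify_prod (hJ : Jac.IsJacobian (C ↘ Spec (CommRingCat.of k)) ⊤ J ψ) {T : Over (Spec (CommRingCat.of k))}
    {n : ℕ} (a : Fin n → PicLoc.PicSet (PicF.XT (C ↘ Spec (CommRingCat.of k)) T))
    (ha : ∀ i t, PicTan20.degCl _ T t (a i).1 = 0) (h : ∀ t, PicTan20.degCl _ T t (∏ i, a i).1 = 0) :
    classify hξ (∏ i, a i) h = ∏ i, classify hξ (a i) (ha i) := by
  induction n with
  | zero =>
    rw [classify_congr hξ (Finset.prod_of_isEmpty _) h (deg_one₀ hdim), classify_one hdim hξ hψ hJ,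
      Finset.prod_of_isEmpty]
  | succ n ih =>
    have h' : ∀ t, PicTan20.degCl _ T t (∏ i : Fin n, a i.succ).1 = 0 := fun t => by
      have := h t
      rw [Fin.prod_univ_succ, PicTan20.degCl_mul _ (fiber_dim _ hdim), ha, zero_add] at this
      exact this
    rw [classify_congr hξ (Fin.prod_univ_succ a) h (deg_mul₀ hdim (ha 0) h'),
      classify_mul hdim hξ hψ hJ _ _ (ha 0) h', ih (fun i => a i.succ) (fun i => ha _) h', Fin.prod_univ_succ]

variable {σ : Spec (CommRingCat.of k) ⟶ C}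

include hψ in
/-- The Abel map after a morphism to the curve. -/
theorem comp_abel {j : Over.mk (C ↘ Spec (CommRingCat.of k)) ⟶ J}
    {L : (PicF.XT (C ↘ Spec (CommRingCat.of k)) (Over.mk (C ↘ Spec (CommRingCat.of k)))).Modules}
    {hP} (hL : (ModFun.PicDeg (C ↘ Spec (CommRingCat.of k)) 0).ok _ L) (hLj : ψ.app _ L hP hL = j)
    {T : Over (Spec (CommRingCat.of k))} (y : T ⟶ Over.mk (C ↘ Spec (CommRingCat.of k))) (h) :
    classify hξ (pc (PicF.XTmap _ y) (famCls _ 0 hL)) h = y ≫ j := by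
  rw [classify_pc hξ y _ (degCl_famCls _ hdim 0 hL), ← hψ]
  exact congrArg (y ≫ ·) hLj

end Classify

section FieldPoint

variable {Ω : Type u} [Field Ω] [IsAlgClosed Ω] (s : Spec (CommRingCat.of Ω) ⟶ Spec (CommRingCat.of k))

/-- The curve over a geometric point. -/
theorem fieldPt_setup :
    letI : (PicF.XT (C ↘ Spec (CommRingCat.of k)) (Over.mk s)).Over (Spec (CommRingCat.of Ω)) := ⟨PicF.XTproj _ _⟩
    IsProper (PicF.XT (C ↘ Spec (CommRingCat.of k)) (Over.mk s) ↘ Spec (CommRingCat.of Ω)) ∧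
      Smooth (PicF.XT (C ↘ Spec (CommRingCat.of k)) (Over.mk s) ↘ Spec (CommRingCat.of Ω)) ∧
      IsIntegral (PicF.XT (C ↘ Spec (CommRingCat.of k)) (Over.mk s)) ∧
      topologicalKrullDim ↥(PicF.XT (C ↘ Spec (CommRingCat.of k)) (Over.mk s)) = 1 ∧
      Curv2.genus Ω (PicF.XT (C ↘ Spec (CommRingCat.of k)) (Over.mk s)) = Curv2.genus k C := by
  letI : (PicF.XT (C ↘ Spec (CommRingCat.of k)) (Over.mk s)).Over (Spec (CommRingCat.of Ω)) := ⟨PicF.XTproj _ _⟩
  have sq : IsPullback (pullback.fst (C ↘ Spec (CommRingCat.of k)) s)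
      (PicF.XT (C ↘ Spec (CommRingCat.of k)) (Over.mk s) ↘ Spec (CommRingCat.of Ω))
      (C ↘ Spec (CommRingCat.of k)) s := IsPullback.of_hasPullback _ _
  refine ⟨Abel10.isProper_fieldPt sq, Abel10.smooth_fieldPt sq, Abel10.isIntegral_fieldPt sq,
    Abel10.topologicalKrullDim_fieldPt sq (fiber_dim _ hdim), ?_⟩
  letI : Algebra k Ω := (Spec.preimage s).hom.toAlgebra
  have hs : Spec.map (CommRingCat.ofHom (algebraMap k Ω)) = s := Spec.map_preimage _
  haveI : CompactSpace C := QuasiCompact.compactSpace_of_compactSpace (C ↘ Spec (CommRingCat.of k))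
  haveI : QuasiSeparatedSpace C := quasiSeparatedSpace_of_quasiSeparated (C ↘ Spec (CommRingCat.of k))
  exact CurveCoh17.finrank_HH_of_isPullback (g := pullback.fst (C ↘ Spec (CommRingCat.of k)) s) (by rw [hs]; exact sq) 1

/-- Slices of an Abel–Jacobi family at geometric points. -/
theorem pc_ajFamily (σ : Spec (CommRingCat.of k) ⟶ C)
    {L : (PicF.XT (C ↘ Spec (CommRingCat.of k)) (Over.mk (C ↘ Spec (CommRingCat.of k)))).Modules}
    (hL : Jac.IsAJFamilyAt (C ↘ Spec (CommRingCat.of k)) σ L) (hσ : σ ≫ (C ↘ Spec (CommRingCat.of k)) = 𝟙 _) :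
    letI : (PicF.XT (C ↘ Spec (CommRingCat.of k)) (Over.mk s)).Over (Spec (CommRingCat.of Ω)) := ⟨PicF.XTproj _ _⟩
    haveI := (fieldPt_setup hdim s).1
    haveI := (fieldPt_setup hdim s).2.1
    haveI := (fieldPt_setup hdim s).2.2.1
    ∀ (y : Over.mk s ⟶ Over.mk (C ↘ Spec (CommRingCat.of k))) (q : Torelli22.Pts Ω (PicF.XT (C ↘ Spec (CommRingCat.of k)) (Over.mk s))),
      q.1 ≫ pullback.fst (C ↘ Spec (CommRingCat.of k)) s = y.left →
      pc (PicF.XTmap _ y) (PicGrp.cls L hL.1) * Torelli22.P (fieldPt_setup hdim s).2.2.2.1 q =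
        pc (pullback.fst (C ↘ Spec (CommRingCat.of k)) s) (Abel10.ptCls hdim σ hσ) := by
  letI : (PicF.XT (C ↘ Spec (CommRingCat.of k)) (Over.mk s)).Over (Spec (CommRingCat.of Ω)) := ⟨PicF.XTproj _ _⟩
  haveI := (fieldPt_setup hdim s).1
  haveI := (fieldPt_setup hdim s).2.1
  haveI := (fieldPt_setup hdim s).2.2.1
  intro y q hy
  have hdZ := (fieldPt_setup hdim s).2.2.2.1
  haveI := CurveCartier25.smoothOfRelativeDimension_one (C ↘ Spec (CommRingCat.of k)) hdim
  haveI := smoothOfRelativeDimension_isStableUnderBaseChange 1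
  haveI : SmoothOfRelativeDimension 1 (pullback.snd (C ↘ Spec (CommRingCat.of k)) (C ↘ Spec (CommRingCat.of k))) :=
    MorphismProperty.of_isPullback (P := @SmoothOfRelativeDimension 1)
      (IsPullback.of_hasPullback (C ↘ Spec (CommRingCat.of k)) (C ↘ Spec (CommRingCat.of k))) inferInstance
  have hJ' : BlowUp.IsEffCartierIdeal (pullback.diagonal (C ↘ Spec (CommRingCat.of k))).ker :=
    (S15990.result (pullback.snd (C ↘ Spec (CommRingCat.of k)) (C ↘ Spec (CommRingCat.of k)))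
      (pullback.diagonal (C ↘ Spec (CommRingCat.of k))) (pullback.diagonal_snd _)).1
  have hI := M2.isInvertible_idealMod _ hJ'
  obtain ⟨D, hD, ⟨eD⟩⟩ := M2.exists_inverse hI
  obtain ⟨θ, hθ⟩ := exists_locEq hJ' hD (M2.tensorComm _ _ ≪≫ eD)
  haveI : IsClosedImmersion q.1 := CurvePts22.isClosedImmersion_of_section q.1 q.2
  have hq : q.1 ≫ pullback.snd (C ↘ Spec (CommRingCat.of k)) s = 𝟙 _ := q.2
  have sq : IsPullback y.left q.1 (pullback.diagonal (C ↘ Spec (CommRingCat.of k)))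
      (PicF.XTmap (C ↘ Spec (CommRingCat.of k)) y) := by
    refine IsPullback.of_bot ?_ ?_ (HilbBC25.isPullback_XTmap (C ↘ Spec (CommRingCat.of k)) y)
    · rw [show q.1 ≫ PicF.XTproj (C ↘ Spec (CommRingCat.of k)) (Over.mk s) = 𝟙 _ from hq,
        show pullback.diagonal (C ↘ Spec (CommRingCat.of k)) ≫ PicF.XTproj _ (Over.mk (C ↘ Spec (CommRingCat.of k))) = 𝟙 C from
          pullback.diagonal_snd _]
      haveI : IsIso (𝟙 (Spec (CommRingCat.of Ω))) := IsIso.id _
      haveI : IsIso (𝟙 (Over.mk s).left) := IsIso.id _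
      haveI : IsIso (𝟙 C) := IsIso.id _
      exact IsPullback.of_vert_isIso ⟨(Category.comp_id _).trans (Category.id_comp _).symm⟩
    · apply pullback.hom_ext
      · rw [Category.assoc, Category.assoc, pullback.diagonal_fst, Category.comp_id]
        exact (hy.symm.trans (congrArg (q.1 ≫ ·) (HilbBC25.XTmap_fst (C ↘ Spec (CommRingCat.of k)) y).symm))
      · rw [Category.assoc, Category.assoc, pullback.diagonal_snd, Category.comp_id]
        have e : PicF.XTmap (C ↘ Spec (CommRingCat.of k)) y ≫ pullback.snd _ _ = pullback.snd _ _ ≫ y.left :=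
          pullback.lift_snd _ _ _
        exact ((congrArg (q.1 ≫ ·) e).trans ((Category.assoc _ _ _).symm.trans
          ((congrArg (· ≫ y.left) hq).trans (Category.id_comp _)))).symm
  have h1 : pc (PicF.XTmap _ y) (PicGrp.cls D hD) = (Torelli22.P hdZ q)⁻¹ := by
    rw [pc, PicGrp.pullHom_cls]
    show _ = (PicGrp.cls _ (Abel10.isInvertible_point hdZ q.1 q.2))⁻¹
    exact eq_inv_of_mul_eq_one_left ((PicGrp.cls_mul_cls_eq_one_iff _ _).2
      (nonempty_iso_of_locEq (isEffCartierIdeal_point hdZ q.1 q.2) (PicLoc.isInvertible_pullback _ hD) (hθ.pullback sq)))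
  have h2 : PicGrp.cls _ hI * PicGrp.cls D hD = 1 := (PicGrp.cls_mul_cls_eq_one_iff _ _).2 ⟨eD⟩
  have hΔ := congrArg (pc (PicF.XTmap (C ↘ Spec (CommRingCat.of k)) y)) h2
  rw [map_mul, map_one, h1, mul_inv_eq_one] at hΔ
  obtain ⟨e⟩ := hL.2
  have hσI := Abel10.isInvertible_point hdim σ hσ
  have h4 : (PicGrp.cls (Y := pullback (C ↘ Spec (CommRingCat.of k)) (C ↘ Spec (CommRingCat.of k))) L hL.1) * PicGrp.cls _ hI =
      pc (pullback.fst (C ↘ Spec (CommRingCat.of k)) (C ↘ Spec (CommRingCat.of k))) (PicGrp.cls _ hσI) := by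
    rw [AlgEquiv22.cls_tensor hL.1 hI, pc, PicGrp.pullHom_cls]
    exact (PicGrp.cls_eq_cls_iff _ _).2 ⟨e⟩
  have h5 := congrArg (pc (PicF.XTmap (C ↘ Spec (CommRingCat.of k)) y)) h4
  rw [map_mul, hΔ] at h5
  exact h5.trans (pc_comp _ _ (HilbBC25.XTmap_fst (C ↘ Spec (CommRingCat.of k)) y) _)

end FieldPoint

/-- The sums of `g` points fill the Jacobian. -/
theorem surjective_sumMap (σ : Spec (CommRingCat.of k) ⟶ C) (hσ : σ ≫ (C ↘ Spec (CommRingCat.of k)) = 𝟙 _)
    {J : Over (Spec (CommRingCat.of k))} [GrpObj J] [IsCommMonObj J]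
    {ψ : (ModFun.PicDeg (C ↘ Spec (CommRingCat.of k)) 0).Hom ⊤ J}
    (hJ : Jac.IsJacobian (C ↘ Spec (CommRingCat.of k)) ⊤ J ψ)
    (j : Over.mk (C ↘ Spec (CommRingCat.of k)) ⟶ J) (hj : Jac.IsAbelJacobiAt (C ↘ Spec (CommRingCat.of k)) σ ψ j) :
    Function.Surjective (sumMap j (Curv2.genus k C)).left.base := by
  obtain ⟨-, -, -, ξ, hξ, hψ⟩ := exists_fine _ hdim σ hσ J ψ hJ.coarse.2.1
  obtain ⟨hP, L, hL, hAJ, hLj⟩ := hj
  obtain ⟨E, hE, hEc⟩ := PicGrp.exists_eq_cls ξ
  have hok : (ModFun.PicDeg (C ↘ Spec (CommRingCat.of k)) 0).ok J E := ok_of_class _ hdim 0 hE (by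
    rw [show PicF.cl E = ξ.1 from (congrArg Subtype.val hEc).symm]
    exact hξ.1)
  intro p
  let Ω := AlgebraicClosure (J.left.residueField p)
  let t : Spec (CommRingCat.of Ω) ⟶ J.left :=
    Spec.map (CommRingCat.ofHom (algebraMap (J.left.residueField p) Ω)) ≫ J.left.fromSpecResidueField p
  have ht : ∀ z, t z = p := fun z => by
    rw [show t z = (J.left.fromSpecResidueField p)
      ((Spec.map (CommRingCat.ofHom (algebraMap (J.left.residueField p) Ω))) z) from Scheme.Hom.comp_apply _ _ _]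
    exact Scheme.fromSpecResidueField_apply p _
  let s := t ≫ J.hom
  let t' : (Over.mk s) ⟶ J := Over.homMk t rfl
  letI : (PicF.XT (C ↘ Spec (CommRingCat.of k)) (Over.mk s)).Over (Spec (CommRingCat.of Ω)) := ⟨PicF.XTproj _ (Over.mk s)⟩
  obtain ⟨hp, hsm, hint, hdZ, hgZ⟩ := fieldPt_setup hdim s
  haveI : IsProper ((PicF.XT (C ↘ Spec (CommRingCat.of k)) (Over.mk s)) ↘ Spec (CommRingCat.of Ω)) := hp
  haveI : Smooth ((PicF.XT (C ↘ Spec (CommRingCat.of k)) (Over.mk s)) ↘ Spec (CommRingCat.of Ω)) := hsm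
  haveI : IsIntegral (PicF.XT (C ↘ Spec (CommRingCat.of k)) (Over.mk s)) := hint
  have hc0 : degC Ω (pc (PicF.XTmap (C ↘ Spec (CommRingCat.of k)) t') ξ) = 0 := by
    rw [hEc, pc, PicGrp.pullHom_cls, degC_cls (k := Ω)]
    exact hok.2 Ω t
  let S₀ : Torelli22.Pts Ω (PicF.XT (C ↘ Spec (CommRingCat.of k)) (Over.mk s)) := ⟨PicF.secT (C ↘ Spec (CommRingCat.of k)) σ hσ (Over.mk s), pullback.lift_snd _ _ _⟩
  let pt' : Torelli22.Pts Ω (PicF.XT (C ↘ Spec (CommRingCat.of k)) (Over.mk s)) → ((Over.mk s) ⟶ Over.mk (C ↘ Spec (CommRingCat.of k))) := fun q =>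
    Over.homMk (q.1 ≫ pullback.fst (C ↘ Spec (CommRingCat.of k)) s) (by
      show (q.1 ≫ pullback.fst (C ↘ Spec (CommRingCat.of k)) s) ≫ (C ↘ Spec (CommRingCat.of k)) = s
      rw [Category.assoc, pullback.condition, ← Category.assoc]
      exact (congrArg (· ≫ s) q.2).trans (Category.id_comp _))
  let A : PicLoc.PicSet (PicF.XT (C ↘ Spec (CommRingCat.of k)) (Over.mk s)) := pc (pullback.fst (C ↘ Spec (CommRingCat.of k)) s) (Abel10.ptCls hdim σ hσ)
  let a : Torelli22.Pts Ω (PicF.XT (C ↘ Spec (CommRingCat.of k)) (Over.mk s)) → PicLoc.PicSet (PicF.XT (C ↘ Spec (CommRingCat.of k)) (Over.mk s)) := fun q =>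
    pc (PicF.XTmap (C ↘ Spec (CommRingCat.of k)) (pt' q)) (famCls _ 0 hL)
  have ha : ∀ q, a q * Torelli22.P hdZ q = A := fun q => pc_ajFamily hdim s σ hAJ hσ (pt' q) q rfl
  have hda : ∀ q t₁, PicTan20.degCl (C ↘ Spec (CommRingCat.of k)) (Over.mk s) t₁ (a q).1 = 0 := fun q t₁ =>
    (PicTan20.degCl_pull _ (pt' q) t₁ (famCls _ 0 hL).2).trans (degCl_famCls _ hdim 0 hL _)
  have hA : degC Ω A = -1 := by
    have h0 : degC Ω (a S₀) = 0 := by
      show degC Ω (pc (PicF.XTmap _ (pt' S₀)) (PicGrp.cls L _)) = 0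
      rw [pc, PicGrp.pullHom_cls, degC_cls (k := Ω)]
      have := hL.2 Ω (pt' S₀).left
      have key : ∀ (s' : Spec (CommRingCat.of Ω) ⟶ Spec (CommRingCat.of k)) (g : Over.mk s' ⟶ Over.mk (C ↘ Spec (CommRingCat.of k))),
          (pt' S₀).left ≫ (C ↘ Spec (CommRingCat.of k)) = s' → g.left = (pt' S₀).left →
          letI : (PicF.XT (C ↘ Spec (CommRingCat.of k)) (Over.mk s')).Over (Spec (CommRingCat.of Ω)) := ⟨PicF.XTproj _ _⟩
          Curv2.deg Ω (PicF.XT (C ↘ Spec (CommRingCat.of k)) (Over.mk s'))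
            ((Scheme.Modules.pullback (PicF.XTmap (C ↘ Spec (CommRingCat.of k)) g)).obj L) 1 = 0 := by
        rintro s' g rfl hg
        rw [show g = (Over.homMk (pt' S₀).left rfl : Over.mk ((pt' S₀).left ≫ (C ↘ Spec (CommRingCat.of k))) ⟶ Over.mk (C ↘ Spec (CommRingCat.of k))) from Over.OverMorphism.ext hg]
        exact this
      exact key s (pt' S₀) (Over.w (pt' S₀)) rfl
    rw [← ha S₀, degC_mul hdZ, h0, degC_P hdZ, zero_add]
  set g := Curv2.genus k C
  have hd : degC Ω (pc (PicF.XTmap (C ↘ Spec (CommRingCat.of k)) t') ξ * (A ^ g)⁻¹) = g := by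
    rw [degC_mul hdZ, degC_inv hdZ, degC_pow hdZ, hc0, hA]
    ring
  have hr := rr hdZ S₀ (pc (PicF.XTmap (C ↘ Spec (CommRingCat.of k)) t') ξ * (A ^ g)⁻¹)
  rw [hd, hgZ] at hr
  obtain ⟨Q, hQ⟩ := eff_of_h0_pos (k := Ω) hdZ g _ hd (by omega)
  have hc : pc (PicF.XTmap (C ↘ Spec (CommRingCat.of k)) t') ξ = ∏ i, a (Q i) := by
    have e : ∀ i, a (Q i) = A * (Torelli22.P hdZ (Q i))⁻¹ := fun i => eq_mul_inv_of_mul_eq (ha (Q i))
    simp only [e, Finset.prod_mul_distrib, Finset.prod_const, Finset.card_univ, Fintype.card_fin,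
      Finset.prod_inv_distrib, ← hQ]
    rw [_root_.mul_comm (pc (PicF.XTmap _ t') ξ), mul_inv_cancel_left]
  have hdc : ∀ t₁, PicTan20.degCl (C ↘ Spec (CommRingCat.of k)) (Over.mk s) t₁ (pc (PicF.XTmap _ t') ξ).1 = 0 := fun t₁ =>
    (PicTan20.degCl_pull _ t' t₁ ξ.2).trans (hξ.1 _)
  let x : (Over.mk s) ⟶ pw k C g := Over.homMk (WidePullback.lift s (fun i => (pt' (Q i)).left) fun i => Over.w (pt' (Q i)))
    (WidePullback.lift_base _ _ _ _)
  have hx : x ≫ sumMap j g = t' := by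
    rw [← classify_univ hξ t' hdc, classify_congr hξ hc hdc (hc ▸ hdc),
      classify_prod hdim hξ hψ hJ _ (fun i => hda (Q i)), comp_list_prod, List.map_ofFn, List.prod_ofFn]
    refine Finset.prod_congr rfl fun i _ => ?_
    rw [Function.comp_apply, ← Category.assoc, comp_abel hdim hξ hψ hL hLj (pt' (Q i))]
    congr 1
    exact Over.OverMorphism.ext (WidePullback.lift_π _ _ _ _ i)
  refine ⟨x.left (IsLocalRing.closedPoint Ω), ?_⟩
  rw [← Scheme.Hom.comp_apply, ← Over.comp_left, hx]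
  exact ht _

end Groth.Agent.JacPts22
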