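import Groth.Agent.Lib.JacPts22.Generate
import Groth.Agent.Lib.AbRigid.Hom
import Groth.Agent.Lib.AbRigid.SmoothGI
import Groth.Agent.Lib.PicTan20.DegFun

/-!
# Homomorphisms from a Jacobian are determined on the curve
-/

set_option autoImplicit false
set_option linter.style.haveILetI false
set_option linter.unusedSectionVars false
set_option backward.isDefEq.respectTransparency false
set_option backward.isDefEq.respectTransparency.types false
set_option maxHeartbeats 1000000

universe u

open CategoryTheory CategoryTheory.Limits AlgebraicGeometry TopologicalSpace Opposite MonoidalCategory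
  CartesianMonoidalCategory MonObj

noncomputable section

namespace Groth.Agent.JacPts22

open Groth.Agent.Abel10 (pc pc_comp pc_id)
open Groth.Agent.PicRep20

noncomputable local instance instLawHomExt (Y : Scheme.{u}) : PicGrp.Law Y := M2.law Y

variable {k : Type u} [Field k] {C : Scheme.{u}} [C.Over (Spec (CommRingCat.of k))]
  [IsProper (C ↘ Spec (CommRingCat.of k))] [Smooth (C ↘ Spec (CommRingCat.of k))]
  [GeometricallyConnected (C ↘ Spec (CommRingCat.of k))] [IsIntegral C]
  [GeometricallyIrreducible (C ↘ Spec (CommRingCat.of k))]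
  (hdim : topologicalKrullDim C = 1) (σ : Spec (CommRingCat.of k) ⟶ C)
  (hσ : σ ≫ (C ↘ Spec (CommRingCat.of k)) = 𝟙 _)
  {J : Over (Spec (CommRingCat.of k))} [GrpObj J] [IsCommMonObj J]
  {ψ : (ModFun.PicDeg (C ↘ Spec (CommRingCat.of k)) 0).Hom ⊤ J}
  (hJ : Jac.IsJacobian (C ↘ Spec (CommRingCat.of k)) ⊤ J ψ)

include hdim hσ hJ

/-- A Jacobian is an abelian variety. -/
theorem jacobian_props : IsProper J.hom ∧ Smooth J.hom ∧ GeometricallyIntegral J.hom := by
  obtain ⟨h1, h2, h3, -⟩ := exists_fine _ hdim σ hσ J ψ hJ.coarse.2.1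
  haveI := h2
  haveI := h3
  haveI : GeometricallyConnected J.hom := PicPn.geometricallyConnected_of_irreducible J.hom
  exact ⟨h1, h2, AbRigid.geometricallyIntegral_of_smooth J⟩

/-- Homomorphisms agreeing on the curve are equal. -/
theorem hom_ext_abel (j : Over.mk (C ↘ Spec (CommRingCat.of k)) ⟶ J)
    (hj : Jac.IsAbelJacobiAt (C ↘ Spec (CommRingCat.of k)) σ ψ j)
    {A : Over (Spec (CommRingCat.of k))} [GrpObj A] [IsSeparated A.hom] (χ₁ χ₂ : J ⟶ A) [IsMonHom χ₁] [IsMonHom χ₂]
    (h : j ≫ χ₁ = j ≫ χ₂) : χ₁ = χ₂ := by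
  obtain ⟨hp, hs, hgi⟩ := jacobian_props hdim σ hσ hJ
  haveI := hgi
  haveI : IsIntegral J.left := GeometricallyIntegral.isIntegral_of_subsingleton J.hom
  have hl : ∀ l : List (pw k C (Curv2.genus k C) ⟶ Over.mk (C ↘ Spec (CommRingCat.of k))),
      (l.map (· ≫ j)).prod ≫ χ₁ = (l.map (· ≫ j)).prod ≫ χ₂ := by
    intro l
    induction l with
    | nil => simp [MonObj.one_comp]
    | cons a l ih => simp only [List.map_cons, List.prod_cons, MonObj.mul_comp, ih, Category.assoc, h]
  have hsum : sumMap j (Curv2.genus k C) ≫ χ₁ = sumMap j (Curv2.genus k C) ≫ χ₂ := by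
    have e : (List.ofFn fun i => prj (k := k) (C := C) i ≫ j) =
        (List.ofFn fun i : Fin (Curv2.genus k C) => prj (k := k) (C := C) i).map (· ≫ j) := by
      rw [List.map_ofFn]; rfl
    simp only [sumMap, e]
    exact hl _
  haveI : IsDominant (sumMap j (Curv2.genus k C)).left :=
    ⟨(surjective_sumMap hdim σ hσ hJ j hj).denseRange⟩
  exact Over.OverMorphism.ext (ext_of_isDominant_of_isSeparated A.hom ((Over.w χ₁).trans (Over.w χ₂).symm)
    (sumMap j (Curv2.genus k C)).left (by rw [← Over.comp_left, hsum, Over.comp_left]))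

end Groth.Agent.JacPts22
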