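import Groth.Agent.Lib.TateTors22.SepDeg
import Groth.Agent.Lib.AVDegree22.MulDeg
import Mathlib.RingTheory.Unramified.Field
import Mathlib.RingTheory.Etale.Field
import Mathlib.FieldTheory.PrimitiveElement
import Mathlib.Data.Finite.Perm

/-!
# A splitting field of the torsion of an abelian variety
-/

set_option autoImplicit false
set_option linter.style.haveILetI false
set_option backward.isDefEq.respectTransparency false
set_option maxHeartbeats 1000000

universe u

open CategoryTheory CategoryTheory.Limits AlgebraicGeometry MonoidalCategory CartesianMonoidalCategory MonObj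
open scoped GrpObj

namespace Groth.Agent.JacPts22

/-- A finite étale algebra has all its geometric points over a separable extension of bounded degree. -/
theorem exists_split_algebra (K R : Type u) [Field K] [CommRing R] [Algebra K R] [Module.Finite K R]
    [Algebra.Etale K R] : ∃ (L : Type u) (_ : Field L) (_ : Algebra K L),
      FiniteDimensional K L ∧ Algebra.IsSeparable K L ∧
      Module.finrank K L ≤ (Nat.card (R →ₐ[K] AlgebraicClosure K)).factorial ∧
      Nat.card (R →ₐ[K] L) = Nat.card (R →ₐ[K] AlgebraicClosure K) := by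
  classical
  let Ω := AlgebraicClosure K
  haveI : Finite (R →ₐ[K] Ω) := inferInstance
  haveI : Fintype (R →ₐ[K] Ω) := Fintype.ofFinite _
  obtain ⟨s, hs⟩ := (inferInstance : Module.Finite K R)
  let S : Set Ω := ⋃ g : R →ₐ[K] Ω, g '' (s : Set R)
  haveI : Finite S := (Set.finite_iUnion fun g : R →ₐ[K] Ω => s.finite_toSet.image g).to_subtype
  let L := IntermediateField.adjoin K S
  haveI : FiniteDimensional K L := IntermediateField.finiteDimensional_adjoin fun x _ =>
    (Algebra.IsAlgebraic.isAlgebraic x).isIntegral
  have hsep : ∀ (g : R →ₐ[K] Ω) (r : R), IsSeparable K (g r) := fun g r => by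
    let E : IntermediateField K Ω := g.range.toIntermediateField' (Subalgebra.isField_of_algebraic g.range)
    let g' : R →ₐ[K] E := g.rangeRestrict
    have hg' : Function.Surjective g' := g.rangeRestrict_surjective
    haveI : Module.Finite K E := Module.Finite.of_surjective g'.toLinearMap hg'
    haveI : Algebra.FormallyUnramified K E := Algebra.FormallyUnramified.of_surjective g' hg'
    haveI : Algebra.IsSeparable K E := Algebra.FormallyUnramified.isSeparable K E
    have h1 : (minpoly K (g' r)).Separable := Algebra.IsSeparable.isSeparable K (g' r)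
    rw [← minpoly.algHom_eq E.val E.val.injective (g' r)] at h1
    have h2 : E.val (g' r) = g r := rfl
    rw [h2] at h1
    exact h1
  have hLsep : Algebra.IsSeparable K L := by
    refine (IntermediateField.isSeparable_adjoin_iff_isSeparable K Ω).2 fun x hx => ?_
    obtain ⟨g, r, -, rfl⟩ := Set.mem_iUnion.1 hx
    exact hsep g r
  have hmem : ∀ (g : R →ₐ[K] Ω) (r : R), g r ∈ L := fun g r => by
    have h : Submodule.span K (s : Set R) ≤ L.toSubalgebra.toSubmodule.comap g.toLinearMap :=
      Submodule.span_le.2 fun x hx => IntermediateField.subset_adjoin K S (Set.mem_iUnion.2 ⟨g, x, hx, rfl⟩)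
    exact h (hs ▸ Submodule.mem_top)
  let res : (R →ₐ[K] Ω) → (R →ₐ[K] L) := fun g => g.codRestrict L.toSubalgebra (hmem g)
  have hval : ∀ g r, ((res g r : L) : Ω) = g r := fun g r => rfl
  have hbij : Function.Bijective fun h : R →ₐ[K] L => L.val.comp h :=
    ⟨fun a b h => AlgHom.ext fun r => Subtype.ext (AlgHom.congr_fun h r), fun g => ⟨res g, AlgHom.ext (hval g)⟩⟩
  refine ⟨L, inferInstance, inferInstance, inferInstance, hLsep, ?_, Nat.card_eq_of_bijective _ hbij⟩
  haveI := hLsep
  rw [← AlgHom.card K L Ω, ← Nat.card_eq_fintype_card, ← Nat.card_perm]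
  have hact : ∀ τ : L →ₐ[K] Ω, Function.Bijective fun g : R →ₐ[K] Ω => τ.comp (res g) := fun τ =>
    (Finite.injective_iff_bijective).1 fun a b h => AlgHom.ext fun r =>
      congrArg Subtype.val (τ.toRingHom.injective (AlgHom.congr_fun h r))
  refine Nat.card_le_card_of_injective (fun τ => Equiv.ofBijective _ (hact τ)) fun τ τ' h => ?_
  refine IntermediateField.adjoin_algHom_ext K fun x hx => ?_
  obtain ⟨g, r, hr, rfl⟩ := Set.mem_iUnion.1 hx
  exact AlgHom.congr_fun (congrFun (congrArg DFunLike.coe h) g) r

variable {k : Type u} [Field k]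

/-- Points of a finite scheme are algebra maps. -/
theorem exists_points_equiv (N : Over (Spec (CommRingCat.of k))) [IsFinite N.hom] [Etale N.hom] :
    ∃ (R : Type u) (_ : CommRing R) (_ : Algebra k R), Module.Finite k R ∧ Algebra.Etale k R ∧
      ∀ (L : Type u) [Field L] [Algebra k L], Nat.card (SGA7.pt (K := k) L ⟶ N) = Nat.card (R →ₐ[k] L) := by
  haveI : IsAffine N.left := isAffine_of_isAffineHom N.hom
  let R := Γ(N.left, ⊤)
  let φ : CommRingCat.of k ⟶ R := Spec.preimage (N.left.isoSpec.inv ≫ N.hom)
  have hφ : Spec.map φ = N.left.isoSpec.inv ≫ N.hom := Spec.map_preimage _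
  letI : Algebra k R := φ.hom.toAlgebra
  have hfin : IsFinite (Spec.map φ) := by rw [hφ]; infer_instance
  rw [IsFinite.SpecMap_iff] at hfin
  haveI : Module.Finite k R := hfin
  have het : Etale (Spec.map φ) := by rw [hφ]; infer_instance
  rw [HasRingHomProperty.Spec_iff (P := @Etale)] at het
  haveI : Algebra.Etale k R := RingHom.etale_algebraMap.1 het
  refine ⟨R, inferInstance, inferInstance, inferInstance, inferInstance, fun L _ _ => Nat.card_congr
    { toFun := fun y => AlgHom.mk (Spec.preimage (y.left ≫ N.left.isoSpec.hom)).hom fun c => by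
        have h : φ ≫ Spec.preimage (y.left ≫ N.left.isoSpec.hom) = CommRingCat.ofHom (algebraMap k L) := by
          apply Spec.map_injective
          rw [Spec.map_comp, Spec.map_preimage, hφ, Category.assoc, Iso.hom_inv_id_assoc]
          exact Over.w y
        exact congrArg (fun r : CommRingCat.of k ⟶ CommRingCat.of L => r.hom c) h
      invFun := fun g => Over.homMk (Spec.map (CommRingCat.ofHom g.toRingHom) ≫ N.left.isoSpec.inv) (by
        show (Spec.map (CommRingCat.ofHom g.toRingHom) ≫ N.left.isoSpec.inv) ≫ N.hom = _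
        rw [Category.assoc, ← hφ, ← Spec.map_comp]
        congr 1
        ext c
        exact g.commutes c)
      left_inv := fun y => by
        ext1
        show Spec.map (Spec.preimage (y.left ≫ N.left.isoSpec.hom)) ≫ N.left.isoSpec.inv = y.left
        rw [Spec.map_preimage, Category.assoc, Iso.hom_inv_id, Category.comp_id]
      right_inv := fun g => by
        refine AlgHom.ext fun r => ?_
        show (Spec.preimage ((Spec.map (CommRingCat.ofHom g.toRingHom) ≫ N.left.isoSpec.inv) ≫
          N.left.isoSpec.hom)).hom r = g r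
        rw [Category.assoc, Iso.inv_hom_id, Category.comp_id, Spec.preimage_map]
        rfl }⟩

/-- All torsion of order `n` is rational over a finite separable extension of bounded degree. -/
theorem exists_split_torsion (A : Over (Spec (CommRingCat.of k))) [GrpObj A] [IsCommMonObj A] [IsProper A.hom]
    [GeometricallyIntegral A.hom] {g : ℕ} (hg : topologicalKrullDim A.left = g) {n : ℕ} (hn : (n : k) ≠ 0) :
    ∃ (L : Type u) (_ : Field L) (_ : Algebra k L), FiniteDimensional k L ∧ Algebra.IsSeparable k L ∧
      Module.finrank k L ≤ (n ^ (2 * g)).factorial ∧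
      Nat.card (AbDual.torsPts A n (SGA7.pt (K := k) L)) = n ^ (2 * g) := by
  haveI : IsIntegral A.left := GeometricallyIntegral.isIntegral_of_subsingleton A.hom
  obtain ⟨hf, he, -⟩ := TateTors22.mul_props (A := A) hn
  haveI := hf
  haveI := he
  let Z : Over (Spec (CommRingCat.of k)) := Over.mk (pullback.snd (𝟙 A ^ n).left η[A].left)
  haveI : Etale Z.hom := MorphismProperty.pullback_snd _ _ ‹Etale (𝟙 A ^ n).left›
  haveI : IsFinite Z.hom := MorphismProperty.pullback_snd _ _ ‹IsFinite (𝟙 A ^ n).left›
  let i : Z ⟶ A := Over.homMk (pullback.fst (𝟙 A ^ n).left η[A].left) (by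
    show pullback.fst (𝟙 A ^ n).left η[A].left ≫ A.hom = pullback.snd _ _
    rw [← Over.w (𝟙 A ^ n), pullback.condition_assoc, Over.w η[A]]
    exact Category.comp_id _)
  have hcard : ∀ (L : Type u) [Field L] [Algebra k L],
      Nat.card (SGA7.pt (K := k) L ⟶ Z) = Nat.card (AbDual.torsPts A n (SGA7.pt (K := k) L)) := fun L _ _ => by
    let T : Over (Spec (CommRingCat.of k)) := SGA7.pt (K := k) L
    have hone : ∀ y : T ⟶ Z, (y ≫ i) ^ n = 1 := fun y => by
      rw [← TateTors22.comp_pow_id]
      ext1
      show (y.left ≫ pullback.fst (𝟙 A ^ n).left η[A].left) ≫ (𝟙 A ^ n).left = _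
      rw [Category.assoc, pullback.condition, ← Category.assoc, Hom.one_def, Over.comp_left]
      congr 1
      exact (Over.w y).trans rfl
    refine Nat.card_eq_of_bijective (fun y : T ⟶ Z => (⟨y ≫ i, hone y⟩ : AbDual.torsPts A n T))
      ⟨fun a b h => ?_, fun x => ?_⟩
    · have h1 := congrArg (fun t : T ⟶ A => t.left) (congrArg Subtype.val h)
      ext1
      exact pullback.hom_ext h1 ((Over.w a).trans (Over.w b).symm)
    · have hx : x.1.left ≫ (𝟙 A ^ n).left = Spec.map (CommRingCat.ofHom (algebraMap k L)) ≫ η[A].left := by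
        have := congrArg (fun a : T ⟶ A => a.left) ((TateTors22.comp_pow_id x.1 n).trans x.2)
        simp only [Over.comp_left] at this
        rw [this, Hom.one_def, Over.comp_left]
        rfl
      refine ⟨Over.homMk (pullback.lift x.1.left _ hx) (pullback.lift_snd _ _ _), Subtype.ext ?_⟩
      ext1
      exact pullback.lift_fst _ _ _
  obtain ⟨R, _, _, hR, hRe, hp⟩ := exists_points_equiv Z
  haveI := hR
  haveI := hRe
  obtain ⟨L, iL, iA, hLf, hLs, hLd, hLc⟩ := exists_split_algebra k R
  have hΩ : Nat.card (R →ₐ[k] AlgebraicClosure k) = n ^ (2 * g) :=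
    ((hp _).symm.trans (hcard _)).trans (AVDegree22.card_tors A (AlgebraicClosure k) hg hn)
  refine ⟨L, iL, iA, hLf, hLs, hΩ ▸ hLd, ?_⟩
  rw [← hcard, hp, hLc, hΩ]

end Groth.Agent.JacPts22
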