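import Groth.Agent.Lib.JacPts22.CurveJacobian
import Groth.Agent.Lib.JacPts22.SplitTors
import Groth.Agent.Lib.FGA3.TorsionLift
import Groth.Agent.Lib.PicSep22.Smooth
import Groth.Agent.S16754

/-!
# Separable extensions over which all torsion classes of a curve are defined
-/

set_option autoImplicit false
set_option linter.style.haveILetI false
set_option linter.unusedSectionVars false
set_option backward.isDefEq.respectTransparency false
set_option backward.isDefEq.respectTransparency.types false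
set_option maxHeartbeats 1000000

universe u

open CategoryTheory CategoryTheory.Limits AlgebraicGeometry MonoidalCategory CartesianMonoidalCategory MonObj

noncomputable section

namespace Groth.Agent.JacPts22

open Groth.Agent.Abel10 (pc pc_comp pc_id)

noncomputable local instance instLawTorsExt (Y : Scheme.{u}) : PicGrp.Law Y := M2.law Y

/-- Torsion classes as elements of the Picard group. -/
theorem natCard_torsion_eq (Z : Scheme.{u}) (n : ℕ) :
    Nat.card {c : PicF.Cl Z | ∃ M : Scheme.Modules Z, PicF.cl M = c ∧ PicF.IsInvertible M ∧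
      Nonempty (CohB1.tensorPow M n ≅ Coh.structureModule Z)} = Nat.card {c : PicLoc.PicSet Z // c ^ n = 1} := by
  have hmem : ∀ c : {c : PicLoc.PicSet Z // c ^ n = 1}, c.1.1 ∈ {c : PicF.Cl Z | ∃ M : Scheme.Modules Z,
      PicF.cl M = c ∧ PicF.IsInvertible M ∧ Nonempty (CohB1.tensorPow M n ≅ Coh.structureModule Z)} := fun c => by
    obtain ⟨M, hM, hMc⟩ := PicGrp.exists_eq_cls c.1
    refine ⟨M, (congrArg Subtype.val hMc).symm, hM, (PicGrp.cls_eq_one_iff (M2.isInvertible_tensorPow hM n)).1 ?_⟩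
    rw [FGA3.cls_tensorPow hM n, ← hMc, c.2]
  refine (Nat.card_eq_of_bijective (fun c => ⟨_, hmem c⟩) ⟨fun a b h => ?_, fun c => ?_⟩).symm
  · exact Subtype.ext (Subtype.ext (Subtype.mk.inj h))
  · obtain ⟨M, hMc, hM, hi⟩ := c.2
    exact ⟨⟨PicGrp.cls M hM, (FGA3.cls_tensorPow hM n).symm.trans ((PicGrp.cls_eq_one_iff _).2 hi)⟩,
      Subtype.ext hMc⟩

/-- Torsion classes do not change under isomorphisms. -/
theorem natCard_torsion_iso {Z W : Scheme.{u}} (e : Z ≅ W) (n : ℕ) :
    Nat.card {c : PicLoc.PicSet W // c ^ n = 1} = Nat.card {c : PicLoc.PicSet Z // c ^ n = 1} := by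
  have h1 : ∀ c : PicLoc.PicSet W, pc e.inv (pc e.hom c) = c := fun c => by
    rw [pc_comp _ _ e.inv_hom_id, pc_id]
  have h2 : ∀ c : PicLoc.PicSet Z, pc e.hom (pc e.inv c) = c := fun c => by
    rw [pc_comp _ _ e.hom_inv_id, pc_id]
  exact Nat.card_congr
    { toFun := fun c => ⟨pc e.hom c.1, by rw [← map_pow, c.2, map_one]⟩
      invFun := fun c => ⟨pc e.inv c.1, by rw [← map_pow, c.2, map_one]⟩
      left_inv := fun c => Subtype.ext (h1 c.1)
      right_inv := fun c => Subtype.ext (h2 c.1) }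

section Curve

variable {k : Type u} [Field k] {C : Scheme.{u}} [C.Over (Spec (CommRingCat.of k))]
  [IsProper (C ↘ Spec (CommRingCat.of k))] [Smooth (C ↘ Spec (CommRingCat.of k))]
  [GeometricallyConnected (C ↘ Spec (CommRingCat.of k))] [IsIntegral C]
  [GeometricallyIrreducible (C ↘ Spec (CommRingCat.of k))]
  (hdim : topologicalKrullDim C = 1)
  (σ : Spec (CommRingCat.of k) ⟶ C) (hσ : σ ≫ (C ↘ Spec (CommRingCat.of k)) = 𝟙 _)

include hdim hσ

/-- Torsion classes over a field extension are torsion points of the Jacobian. -/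
theorem natCard_torsion_pt (J : Over (Spec (CommRingCat.of k))) [GrpObj J] [IsCommMonObj J]
    (ψ : (ModFun.PicDeg (C ↘ Spec (CommRingCat.of k)) 0).Hom ⊤ J)
    (hJ : Jac.IsJacobian (C ↘ Spec (CommRingCat.of k)) ⊤ J ψ) {n : ℕ} (hn : 0 < n)
    (L : Type u) [Field L] [Algebra k L] :
    Nat.card {c : PicLoc.PicSet (PicF.XT (C ↘ Spec (CommRingCat.of k)) (SGA7.pt (K := k) L)) // c ^ n = 1} =
      Nat.card (AbDual.torsPts J n (SGA7.pt (K := k) L)) := by
  let f := C ↘ Spec (CommRingCat.of k)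
  let T : Over (Spec (CommRingCat.of k)) := SGA7.pt (K := k) L
  obtain ⟨-, -, -, ξ, hξ, hψ⟩ := exists_fine _ hdim σ hσ J ψ hJ.coarse.2.1
  have hone : ∀ m : PicLoc.PicSet T.left, m = 1 := fun m => by
    obtain ⟨N, hN, hNc⟩ := PicGrp.exists_eq_cls m
    rw [hNc]
    exact (PicGrp.cls_eq_one_iff_isTrivialCl hN).2 (AbDual21.isTrivialCl_spec_field (Ω := L) ⟨_, rfl, hN⟩)
  have spec : ∀ (c : PicLoc.PicSet (PicF.XT f T)) (hc : ∀ t, PicTan20.degCl f T t c.1 = 0),
      pc (PicF.XTmap f (PicRep20.classify hξ c hc)) ξ = c := fun c hc => by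
    obtain ⟨m, hm⟩ := PicRep20.classify_spec hξ c hc
    rw [hone m, map_one, _root_.mul_one] at hm
    exact hm.symm
  have hpow : ∀ (c : PicLoc.PicSet (PicF.XT f T)) (hc : ∀ t, PicTan20.degCl f T t c.1 = 0) (m : ℕ)
      (hm : ∀ t, PicTan20.degCl f T t (c ^ m).1 = 0),
      PicRep20.classify hξ c hc ^ m = PicRep20.classify hξ (c ^ m) hm := fun c hc m => by
    induction m with
    | zero =>
      intro hm
      rw [pow_zero, classify_congr hξ (pow_zero c) hm (deg_one₀ hdim), classify_one hdim hξ hψ hJ]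
    | succ m ih =>
      intro hm
      have hm' : ∀ t, PicTan20.degCl f T t (c ^ m).1 = 0 := fun t => by
        rw [PicRep20.degCl_pow f hdim, hc, mul_zero]
      rw [pow_succ, ih hm', classify_congr hξ (pow_succ c m) hm (deg_mul₀ hdim hm' hc),
        classify_mul hdim hξ hψ hJ]
  have hdeg : ∀ c : PicLoc.PicSet (PicF.XT f T), c ^ n = 1 → ∀ t, PicTan20.degCl f T t c.1 = 0 := fun c hc t => by
    have h1 := PicRep20.degCl_pow f hdim t c n
    rw [hc, deg_one₀ hdim] at h1
    exact (mul_eq_zero.1 h1.symm).resolve_left (by exact_mod_cast hn.ne')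
  have hdn : ∀ c : PicLoc.PicSet (PicF.XT f T), (∀ t, PicTan20.degCl f T t c.1 = 0) →
      ∀ t, PicTan20.degCl f T t (c ^ n).1 = 0 := fun c hc t => by
    rw [PicRep20.degCl_pow f hdim, hc, mul_zero]
  refine Nat.card_eq_of_bijective (fun c => (⟨PicRep20.classify hξ c.1 (hdeg c.1 c.2), (AbDual.mem_torsPts _ _).2
    (by rw [hpow c.1 _ n (hdn _ (hdeg c.1 c.2)), classify_congr hξ c.2 _ (deg_one₀ hdim),
      classify_one hdim hξ hψ hJ])⟩ : AbDual.torsPts J n T)) ⟨fun a b h => ?_, fun a => ?_⟩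
  · refine Subtype.ext ?_
    rw [← spec a.1 (hdeg a.1 a.2), ← spec b.1 (hdeg b.1 b.2)]
    rw [show PicRep20.classify hξ a.1 (hdeg a.1 a.2) = PicRep20.classify hξ b.1 (hdeg b.1 b.2) from Subtype.mk.inj h]
  · let c := pc (PicF.XTmap f a.1) ξ
    have hc : ∀ t, PicTan20.degCl f T t c.1 = 0 := fun t => (PicTan20.degCl_pull f a.1 t ξ.2).trans (hξ.1 _)
    have ha : PicRep20.classify hξ c hc = a.1 := classify_univ hξ a.1 hc
    have hcn : c ^ n = 1 := by
      have h1 : PicRep20.classify hξ (c ^ n) (hdn c hc) = PicRep20.classify hξ 1 (deg_one₀ hdim) := by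
        rw [← hpow c hc n (hdn c hc), ha, (AbDual.mem_torsPts _ _).1 a.2, classify_one hdim hξ hψ hJ]
      rw [← spec (c ^ n) (hdn c hc), h1, spec 1 (deg_one₀ hdim)]
    exact ⟨⟨c, hcn⟩, Subtype.ext ha⟩

end Curve

variable {k : Type u} [Field k] {X : Scheme.{u}} [X.Over (Spec (CommRingCat.of k))]
  [IsProper (X ↘ Spec (CommRingCat.of k))] [Smooth (X ↘ Spec (CommRingCat.of k))] [IsIntegral X]

/-- A finite separable extension with a rational point and all torsion classes. -/
theorem exists_point_full_torsion (hdim : topologicalKrullDim X = 1)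
    (h0 : Module.finrank k (Coh.HH X (Coh.structureModule X) 0) = 1) {n : ℕ} (hn : (n : k) ≠ 0)
    (k₁ : Type u) [Field k₁] [Algebra k k₁] [FiniteDimensional k k₁] [Algebra.IsSeparable k k₁]
    (p : Spec (CommRingCat.of k₁) ⟶ X)
    (hp : p ≫ (X ↘ Spec (CommRingCat.of k)) = Spec.map (CommRingCat.ofHom (algebraMap k k₁))) :
    ∃ (k' : Type u) (_ : Field k') (_ : Algebra k k'), FiniteDimensional k k' ∧ Algebra.IsSeparable k k' ∧
      Module.finrank k k' ≤ Module.finrank k k₁ * Nat.factorial (n ^ (2 * Curv2.genus k X)) ∧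
      (∃ x : Spec (CommRingCat.of k') ⟶ Curv2.bc k X k', x ≫ Curv2.bcSnd k X k' = 𝟙 _) ∧
      Nat.card {c : PicF.Cl (Curv2.bc k X k') | ∃ M : Scheme.Modules (Curv2.bc k X k'), PicF.cl M = c ∧
        PicF.IsInvertible M ∧ Nonempty (CohB1.tensorPow M n ≅ Coh.structureModule (Curv2.bc k X k'))} =
        n ^ (2 * Curv2.genus k X) := by
  let f := X ↘ Spec (CommRingCat.of k)
  haveI : GeometricallyConnected f := (S16754.result k X hdim).1.1 h0
  let s₁ := Spec.map (CommRingCat.ofHom (algebraMap k k₁))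
  let C := pullback f s₁
  letI : C.Over (Spec (CommRingCat.of k₁)) := ⟨pullback.snd f s₁⟩
  have sq : IsPullback (pullback.fst f s₁) (C ↘ Spec (CommRingCat.of k₁)) f s₁ := IsPullback.of_hasPullback f s₁
  haveI := Abel10.isProper_fieldPt sq
  haveI := Abel10.smooth_fieldPt sq
  haveI := Abel10.geometricallyConnected_fieldPt sq
  haveI := Abel10.isIntegral_fieldPt sq
  haveI : GeometricallyIntegral (C ↘ Spec (CommRingCat.of k₁)) := PicSep22.geometricallyIntegral_of_smooth _
  have hfib : ∀ s : Spec (CommRingCat.of k), topologicalKrullDim ↥(f.fiber s) = 1 := fun s => PicRep20.fiber_dim f hdim s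
  have hdimC : topologicalKrullDim C = 1 := Abel10.topologicalKrullDim_fieldPt sq hfib
  have sqX : IsPullback (𝟙 X) (X ↘ Spec (CommRingCat.of k)) f (𝟙 (Spec (CommRingCat.of k))) :=
    IsPullback.of_horiz_isIso ⟨by simp [f]⟩
  have hg : Curv2.genus k₁ C = Curv2.genus k X := by
    rw [Abel10.genus_fieldPt sq, Abel10.genus_fieldPt sqX]
    congr 1
    exact Subsingleton.elim (α := PrimeSpectrum k) _ _
  let σ : Spec (CommRingCat.of k₁) ⟶ C := pullback.lift p (𝟙 _) (by rw [Category.id_comp]; exact hp)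
  have hσ : σ ≫ (C ↘ Spec (CommRingCat.of k₁)) = 𝟙 _ := pullback.lift_snd _ _ _
  obtain ⟨J, gJ, cJ, ψ, j, hJ, -⟩ := exists_jacobian_pair (C := C) hdimC σ hσ
  obtain ⟨hpr, -, hgi⟩ := jacobian_props hdimC σ hσ hJ
  haveI := hpr
  haveI := hgi
  have hn₁ : (n : k₁) ≠ 0 := fun h => hn ((algebraMap k k₁).injective (by rw [map_natCast, map_zero, h]))
  obtain ⟨L, iL, iA, hLf, hLs, hLd, hLc⟩ := exists_split_torsion J (dim_jacobian hdimC σ hσ hJ) hn₁
  haveI := hLf
  haveI := hLs
  letI : Algebra k L := ((algebraMap k₁ L).comp (algebraMap k k₁)).toAlgebra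
  haveI : IsScalarTower k k₁ L := IsScalarTower.of_algebraMap_eq' rfl
  refine ⟨L, iL, inferInstance, Module.Finite.trans k₁ L, Algebra.IsSeparable.trans k k₁ L, ?_, ?_, ?_⟩
  · rw [← Module.finrank_mul_finrank k k₁ L, ← hg]
    exact Nat.mul_le_mul_left _ hLd
  · refine ⟨pullback.lift (Spec.map (CommRingCat.ofHom (algebraMap k₁ L)) ≫ p) (𝟙 _) ?_, pullback.lift_snd _ _ _⟩
    rw [Category.assoc, Category.id_comp, hp, ← Spec.map_comp]
    rfl
  · let T : Over (Spec (CommRingCat.of k₁)) := SGA7.pt (K := k₁) L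
    have hnpos : 0 < n := Nat.pos_of_ne_zero fun h => hn (by rw [h, Nat.cast_zero])
    have sq2 := (IsPullback.of_hasPullback (C ↘ Spec (CommRingCat.of k₁)) T.hom).paste_horiz sq
    rw [show T.hom ≫ s₁ = Spec.map (CommRingCat.ofHom (algebraMap k L)) from (Spec.map_comp _ _).symm] at sq2
    rw [natCard_torsion_eq, natCard_torsion_iso sq2.isoPullback n,
      natCard_torsion_pt hdimC σ hσ J ψ hJ hnpos L, hLc, hg]

end Groth.Agent.JacPts22
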