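import Groth.Agent.Lib.JacPts22.Sets
import Groth.Agent.Lib.AlgEquiv22.Closed
import Groth.Agent.Lib.AmpleFib.CurveRel

/-!
# The locus where a combination of moving points has no sections is open
-/

set_option autoImplicit false
set_option linter.style.haveILetI false
set_option linter.unusedSectionVars false
set_option backward.isDefEq.respectTransparency false
set_option backward.isDefEq.respectTransparency.types false
set_option maxHeartbeats 1000000

universe u

open CategoryTheory CategoryTheory.Limits AlgebraicGeometry TopologicalSpace Opposite MonoidalCategory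
  CartesianMonoidalCategory MonObj

noncomputable section

namespace Groth.Agent.JacPts22

open Groth.Agent.CurveCoh17 Groth.Agent.Abel10 Groth.Agent.Torelli22 Groth.Agent.CurvePts22

noncomputable local instance instLawJacVanish (Y : Scheme.{u}) : PicGrp.Law Y := M2.law Y

variable {k : Type u} [Field k] [IsAlgClosed k] {C : Scheme.{u}} [C.Over (Spec (CommRingCat.of k))]
  [IsProper (C ↘ Spec (CommRingCat.of k))] [Smooth (C ↘ Spec (CommRingCat.of k))]
  [GeometricallyConnected (C ↘ Spec (CommRingCat.of k))] [IsIntegral C]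

variable (hdim : topologicalKrullDim C = 1)
include hdim

/-- The class of the ideal of the diagonal restricts to the class of the ideal of the point. -/
theorem exists_diag_class : ∃ D : PicLoc.PicSet (pullback (C ↘ Spec (CommRingCat.of k)) (C ↘ Spec (CommRingCat.of k))),
    ∀ x : Pts k C, slice x.1 x.2 D = P hdim x := by
  haveI := CurveCartier25.smoothOfRelativeDimension_one (C ↘ Spec (CommRingCat.of k)) hdim
  haveI := smoothOfRelativeDimension_isStableUnderBaseChange 1
  haveI : SmoothOfRelativeDimension 1 (pullback.snd (C ↘ Spec (CommRingCat.of k)) (C ↘ Spec (CommRingCat.of k))) :=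
    MorphismProperty.of_isPullback (P := @SmoothOfRelativeDimension 1)
      (IsPullback.of_hasPullback (C ↘ Spec (CommRingCat.of k)) (C ↘ Spec (CommRingCat.of k))) inferInstance
  have hJ : BlowUp.IsEffCartierIdeal (pullback.diagonal (C ↘ Spec (CommRingCat.of k))).ker :=
    (S15990.result (pullback.snd (C ↘ Spec (CommRingCat.of k)) (C ↘ Spec (CommRingCat.of k)))
      (pullback.diagonal (C ↘ Spec (CommRingCat.of k))) (pullback.diagonal_snd _)).1
  have hI := M2.isInvertible_idealMod _ hJ
  obtain ⟨D, hD, ⟨eD⟩⟩ := M2.exists_inverse hI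
  obtain ⟨s, hs⟩ := exists_locEq hJ hD (M2.tensorComm _ _ ≪≫ eD)
  refine ⟨PicGrp.cls _ hI, fun ⟨x, hx⟩ => ?_⟩
  haveI : IsClosedImmersion x := by
    haveI : IsClosedImmersion (x ≫ (C ↘ Spec (CommRingCat.of k))) := by rw [hx]; infer_instance
    exact IsClosedImmersion.of_comp x (C ↘ Spec (CommRingCat.of k))
  have sq : IsPullback x x (pullback.diagonal (C ↘ Spec (CommRingCat.of k)))
      (Pic13.sliceAt k C (C ↘ Spec (CommRingCat.of k)) x hx) := by
    refine IsPullback.of_bot ?_ ?_ (NumPoly18.isPullback_sliceAt (C ↘ Spec (CommRingCat.of k)) x hx)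
    · rw [pullback.diagonal_snd]
      show IsPullback x (x ≫ (C ↘ Spec (CommRingCat.of k))) (𝟙 C) x
      rw [hx]
      exact IsPullback.of_vert_isIso ⟨by simp⟩
    · apply pullback.hom_ext <;> simp [Pic13.sliceAt, reassoc_of% hx]
  have h1 : slice x hx (PicGrp.cls D hD) = (ptCls hdim x hx)⁻¹ := by
    rw [slice, PicGrp.pullHom_cls]
    exact eq_inv_of_mul_eq_one_left ((PicGrp.cls_mul_cls_eq_one_iff _ _).2
      (nonempty_iso_of_locEq (isEffCartierIdeal_point hdim x hx) (PicLoc.isInvertible_pullback _ hD) (hs.pullback sq)))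
  have h2 : PicGrp.cls _ hI * PicGrp.cls D hD = 1 := (PicGrp.cls_mul_cls_eq_one_iff _ _).2 ⟨eD⟩
  have h3 := congrArg (slice x hx) h2
  rw [map_mul, map_one, h1, mul_inv_eq_one] at h3
  exact h3

/-- The points with `h⁰(N + ∑ εᵢ·(ideal of xᵢ)) = 0` form an open set. -/
theorem exists_open_h0_eq_zero {n : ℕ} (N : PicLoc.PicSet C) (ε : Fin n → ℤ) :
    ∃ U : (pw k C n).left.Opens, ∀ x : 𝟙_ (Over (Spec (CommRingCat.of k))) ⟶ pw k C n,
      (pt x.left ∈ U ↔ h0C k (N * ∏ i, P hdim (coord x i) ^ ε i) = 0) := by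
  obtain ⟨D, hD⟩ := exists_diag_class (k := k) hdim
  let A : Over (Spec (CommRingCat.of k)) := Over.mk (C ↘ Spec (CommRingCat.of k))
  haveI : IsProper A.hom := ‹IsProper (C ↘ Spec (CommRingCat.of k))›
  haveI : GeometricallyIntegral A.hom := AmpleFib.geometricallyIntegral_of_smooth_connected (k := k) (X := C)
  haveI : Smooth A.hom := ‹Smooth (C ↘ Spec (CommRingCat.of k))›
  let T := pw k C n
  haveI : IsProper T.hom := isProper_pw n
  haveI : IsLocallyNoetherian T.left := LocallyOfFiniteType.isLocallyNoetherian T.hom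
  let f := (snd A T).left
  haveI : IsProper f := MorphismProperty.of_isPullback (P := @IsProper)
    (IsPullback.of_hasPullback A.hom T.hom) inferInstance
  haveI : Flat f := MorphismProperty.of_isPullback (P := @Flat)
    (IsPullback.of_hasPullback A.hom T.hom) inferInstance
  let F : PicLoc.PicSet (A ⊗ T).left := pc (fst A T).left N * ∏ i, pc (A ◁ prj i).left D ^ ε i
  obtain ⟨L, hL, hcL⟩ := PicGrp.exists_eq_cls F
  refine ⟨⟨_, (AlgEquiv22.isClosed_nontrivial_fiber f hL).isOpen_compl⟩, fun x => ?_⟩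
  have hslice : pc (AlgEquiv22.sl A x).left F = N * ∏ i, P hdim (coord x i) ^ ε i := by
    have h1 : (AlgEquiv22.sl A x).left ≫ (fst A T).left = 𝟙 C := congrArg CommaMorphism.left (lift_fst (𝟙 A) _)
    simp only [F, map_mul, map_prod, map_zpow]
    rw [pc_comp _ _ h1]
    erw [pc_id]
    congr 1
    refine Finset.prod_congr rfl fun i _ => ?_
    congr 1
    have h2 : (AlgEquiv22.sl A x).left ≫ (A ◁ prj i).left =
        Pic13.sliceAt k C (C ↘ Spec (CommRingCat.of k)) (x ≫ prj i).left (Over.w (x ≫ prj i)) := by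
      have e : AlgEquiv22.sl A x ≫ A ◁ prj i = lift (𝟙 A) (toUnit A ≫ x ≫ prj i) := by
        rw [AlgEquiv22.sl, lift_whiskerLeft, Category.assoc]
      rw [← Over.comp_left, e]
      apply pullback.hom_ext
      · rw [Pic13.sliceAt]
        erw [pullback.lift_fst]
      · rw [Pic13.sliceAt]
        erw [pullback.lift_snd]
    rw [pc_comp _ _ h2]
    exact hD (coord x i)
  show (¬ Nontrivial (CohIII.fiberH f L (CubeField.rpt x) 0)) ↔ _
  rw [AlgEquiv22.nontrivial_fiber_iff hL, not_nontrivial_iff_subsingleton, ← hslice, hcL, pc, PicGrp.pullHom_cls]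
  have hL' := PicLoc.isInvertible_pullback (AlgEquiv22.sl A x).left hL
  haveI : IsIntegral A.left := ‹IsIntegral C›
  change Subsingleton (Coh.HH C ((Scheme.Modules.pullback (AlgEquiv22.sl A x).left).obj L) 0) ↔ _
  erw [h0C_cls (C := C) hL']
  have hX := VB17.curveLike (k := k) hdim
  haveI := hX.noetherian
  haveI : Module.Finite k (Coh.HH C ((Scheme.Modules.pullback (AlgEquiv22.sl A x).left).obj L) 0) :=
    hX.fin _ (isCoh_of_ofRank ((M2.isInvertible_iff_isFinLocFreeOfRank_one _).1 hL')) 0
  exact (Module.finrank_zero_iff (R := k)).symm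

end Groth.Agent.JacPts22

namespace Groth.Agent.JacPts22

open Groth.Agent.CurveCoh17 Groth.Agent.Abel10 Groth.Agent.Torelli22 Groth.Agent.CurvePts22

noncomputable local instance instLawJacVanish' (Y : Scheme.{u}) : PicGrp.Law Y := M2.law Y

variable {k : Type u} [Field k] [IsAlgClosed k] {C : Scheme.{u}} [C.Over (Spec (CommRingCat.of k))]
  [IsProper (C ↘ Spec (CommRingCat.of k))] [Smooth (C ↘ Spec (CommRingCat.of k))] [IsIntegral C]

/-- The class of a product of ideals of points. -/
theorem cls_ptFn (hdim : topologicalKrullDim C = 1) : ∀ (n : ℕ) (Q : Fin n → Pts k C)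
    (h : PicF.IsInvertible (FGA.tensorList (List.ofFn fun i => ClSub.idealMod (Q i).1.ker))),
    PicGrp.cls (FGA.tensorList (List.ofFn fun i => ClSub.idealMod (Q i).1.ker)) h = ∏ i, P hdim (Q i)
  | 0, Q, h => by
    rw [Finset.prod_of_isEmpty]
    refine (PicGrp.cls_eq_one_iff h).2 ?_
    rw [List.ofFn_zero]
    exact ⟨Iso.refl _⟩
  | n + 1, Q, h => by
    have ht := (deg_ptFn hdim (fun i : Fin n => (Q i.succ).1) fun i => (Q i.succ).2).1
    rw [Fin.prod_univ_succ, ← cls_ptFn hdim n (fun i => Q i.succ) ht]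
    show _ = PicGrp.cls _ (isInvertible_point hdim (Q 0).1 (Q 0).2) * _
    rw [AlgEquiv22.cls_tensor]
    refine (PicGrp.cls_eq_cls_iff _ _).2 ⟨eqToIso ?_⟩
    rw [List.ofFn_succ]
    rfl

end Groth.Agent.JacPts22
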